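import Groth.Agent.DeformNL.PnRing
import Groth.Agent.PnCoh.Chow.Proper
import Groth.Agent.ModPairLib.Closure
import Mathlib.AlgebraicGeometry.Morphisms.FiniteType
import Mathlib.AlgebraicGeometry.Morphisms.Immersion
import Mathlib.AlgebraicGeometry.IdealSheaf.Subscheme
import Mathlib.AlgebraicGeometry.Noetherian

/-!
# Factorisation of finite type maps of affines through projective space
-/

universe u

open CategoryTheory CategoryTheory.Limits AlgebraicGeometry

namespace Groth.Agent.DeformNL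

set_option backward.isDefEq.respectTransparency.types false

theorem exists_immersion_projSpaceOver {Y U : Scheme.{u}} [IsAffine U] {V : Y.Opens} (hV : IsAffineOpen V)
    (g₀ : U ⟶ V.toScheme) [LocallyOfFiniteType g₀] :
    ∃ (n : ℕ) (t : U ⟶ CohB1.ProjSpaceOver n Y), IsImmersion t ∧
      t ≫ CohB1.ProjSpaceOver.toBase n Y = g₀ ≫ V.ι := by
  classical
  haveI : IsAffine V.toScheme := hV
  have hft : g₀.appTop.hom.FiniteType :=
    (HasRingHomProperty.iff_of_isAffine (P := @LocallyOfFiniteType)).mp ‹LocallyOfFiniteType g₀›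
  letI := g₀.appTop.hom.toAlgebra
  haveI : Algebra.FiniteType Γ(V.toScheme, ⊤) Γ(U, ⊤) := hft
  obtain ⟨s, hs⟩ := Algebra.FiniteType.out (R := Γ(V.toScheme, ⊤)) (A := Γ(U, ⊤))
  let n := s.card
  let v : PnRing.Idx n 0 → Γ(U, ⊤) := fun j => (s.equivFin.symm (j.down.1.pred j.down.2)).1
  let R : Type u := ULift.{u} ℤ
  let M := MvPolynomial (PnRing.Idx.{u} n 0) R
  let e : HomogeneousLocalization.Away (CohB1.polyGrading n R) (MvPolynomial.X 0) ≃+* M :=
    (RingEquiv.ofBijective _ ⟨PnRing.fromChart_injective n R 0, PnRing.fromChart_surjective n R 0⟩).symm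
  haveI : IsIso (CommRingCat.ofHom e.toRingHom) :=
    (ConcreteCategory.isIso_iff_bijective _).mpr e.bijective
  let c₀ : Spec (CommRingCat.of M) ⟶ CohB1.ProjSpace n R :=
    Spec.map (CommRingCat.ofHom e.toRingHom) ≫ PnRing.chart n R 0
  let φ : M →+* Γ(U, ⊤) :=
    MvPolynomial.eval₂Hom ((Int.castRingHom Γ(U, ⊤)).comp ULift.ringEquiv.toRingHom) v
  let m : U ⟶ Spec (CommRingCat.of M) := U.toSpecΓ ≫ Spec.map (CommRingCat.ofHom φ)
  let A' := pullback (c₀ ≫ CohB1.ProjSpace.toSpec n R) (specULiftZIsTerminal.from V.toScheme)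
  let t' : U ⟶ A' := pullback.lift m g₀ (specULiftZIsTerminal.hom_ext _ _)
  haveI : IsAffine A' := inferInstanceAs (IsAffine (pullback _ _))
  have hsurj : Function.Surjective t'.appTop := by
    let S : Subalgebra Γ(V.toScheme, ⊤) Γ(U, ⊤) :=
      { t'.appTop.hom.range with
        algebraMap_mem' := fun a => ⟨(pullback.snd (c₀ ≫ CohB1.ProjSpace.toSpec n R)
          (specULiftZIsTerminal.from V.toScheme)).appTop a, by
          rw [← CommRingCat.comp_apply, ← Scheme.Hom.comp_appTop, pullback.lift_snd]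
          rfl⟩ }
    have hsub : (s : Set Γ(U, ⊤)) ⊆ S := by
      intro x hx
      obtain ⟨i, hi⟩ : ∃ i : Fin n, (s.equivFin.symm i).1 = x :=
        ⟨s.equivFin ⟨x, hx⟩, by rw [Equiv.symm_apply_apply]⟩
      let j : PnRing.Idx n 0 := ULift.up ⟨i.succ, Fin.succ_ne_zero i⟩
      refine ⟨(pullback.fst (c₀ ≫ CohB1.ProjSpace.toSpec n R) (specULiftZIsTerminal.from V.toScheme)).appTop
        ((Scheme.ΓSpecIso (CommRingCat.of M)).inv (MvPolynomial.X j)), ?_⟩
      rw [← CommRingCat.comp_apply, ← Scheme.Hom.comp_appTop, pullback.lift_fst]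
      simp only [m, Scheme.Hom.comp_appTop, Scheme.toSpecΓ_appTop, CommRingCat.comp_apply]
      rw [← CommRingCat.comp_apply ((Scheme.ΓSpecIso _).inv), ← Scheme.ΓSpecIso_inv_naturality,
        ← CommRingCat.comp_apply, Category.assoc, Iso.inv_hom_id, Category.comp_id]
      show φ (MvPolynomial.X j) = x
      rw [MvPolynomial.eval₂Hom_X', ← hi]
      simp [v, j]
    have hS : S = ⊤ := top_le_iff.mp (hs ▸ Algebra.adjoin_le hsub)
    intro x
    have hx : x ∈ S := hS ▸ trivial
    exact hx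
  haveI : IsClosedImmersion t' := IsClosedImmersion.of_surjective_of_isAffine t' hsurj
  let j₀ : A' ⟶ CohB1.ProjSpaceOver n Y :=
    pullback.map _ _ _ _ c₀ V.ι (𝟙 _) (Category.comp_id _) (specULiftZIsTerminal.hom_ext _ _)
  haveI : IsOpenImmersion c₀ := inferInstanceAs (IsOpenImmersion (_ ≫ PnRing.chart n R 0))
  haveI : IsOpenImmersion j₀ := MorphismProperty.pullback_map (P := @IsOpenImmersion) (f := c₀ ≫ CohB1.ProjSpace.toSpec n R) (g := specULiftZIsTerminal.from V.toScheme) (f' := CohB1.ProjSpace.toSpec n R) (g' := specULiftZIsTerminal.from Y) (h₁ := ‹IsOpenImmersion c₀›) (h₂ := inferInstance) (e₁ := rfl) (e₂ := specULiftZIsTerminal.hom_ext _ _)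
  have hj₀ : j₀ ≫ CohB1.ProjSpaceOver.toBase n Y =
      pullback.snd (c₀ ≫ CohB1.ProjSpace.toSpec n R) (specULiftZIsTerminal.from V.toScheme) ≫ V.ι :=
    pullback.lift_snd _ _ _
  refine ⟨n, t' ≫ j₀, inferInstance, ?_⟩
  rw [Category.assoc, hj₀]
  exact pullback.lift_snd_assoc _ _ _ _

theorem exists_factor {Y U : Scheme.{u}} [IsNoetherian Y] [IsAffine U] {V : Y.Opens} (hV : IsAffineOpen V)
    (g₀ : U ⟶ V.toScheme) [LocallyOfFiniteType g₀] :
    ∃ (W P : Scheme.{u}) (g : U ⟶ W) (h : W ⟶ P) (k : P ⟶ Y),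
      IsOpenImmersion g ∧ IsClosedImmersion h ∧ Smooth k ∧ IsProper k ∧ g ≫ h ≫ k = g₀ ≫ V.ι := by
  obtain ⟨n, t, ht, htk⟩ := exists_immersion_projSpaceOver hV g₀
  haveI : Smooth (CohB1.ProjSpaceOver.toBase n Y) :=
    MorphismProperty.pullback_snd _ _ (PnRing.smooth_toSpec n _)
  haveI : IsProper (CohB1.ProjSpaceOver.toBase n Y) :=
    MorphismProperty.pullback_snd _ _ (PnCoh.Chow.isProper_toSpec n _)
  haveI : IsLocallyNoetherian (CohB1.ProjSpaceOver n Y) :=
    LocallyOfFiniteType.isLocallyNoetherian (CohB1.ProjSpaceOver.toBase n Y)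
  haveI : CompactSpace (CohB1.ProjSpaceOver n Y) :=
    QuasiCompact.compactSpace_of_compactSpace (CohB1.ProjSpaceOver.toBase n Y)
  haveI : IsNoetherian (CohB1.ProjSpaceOver n Y) := { }
  haveI : QuasiCompact t.coborderRange.ι := inferInstance
  obtain ⟨ho, -⟩ := ModPairLib.isOpenImmersion_toImage t.coborderRange t.liftCoborder
  refine ⟨_, _, (t.liftCoborder ≫ t.coborderRange.ι).toImage,
    (t.liftCoborder ≫ t.coborderRange.ι).imageι, CohB1.ProjSpaceOver.toBase n Y, ho, inferInstance,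
    inferInstance, inferInstance, ?_⟩
  rw [Scheme.Hom.toImage_imageι_assoc, Category.assoc, Scheme.Hom.liftCoborder_ι_assoc, htk]

end Groth.Agent.DeformNL
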