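import Groth.Agent.AffDefLib.Obstruction
import Groth.Agent.ArtFunLib.Basic

/-!
# The obstruction theory of affine deformations with values in `T²`
-/

set_option autoImplicit false

universe u

open CategoryTheory AlgebraicGeometry TensorProduct ArtFun CotT
open Groth.Agent.AffDefLib

noncomputable section

namespace Groth.Agent.DeformNL.AffObs

variable {k : Type u} [Field k] {B₀ : Type u} [CommRing B₀] [Algebra k B₀]
variable {C C' : Art k k} {p : C' ⟶ C}
variable (D : AlgDef k B₀ C) {ι σ : Type u} (P : Algebra.Presentation k B₀ ι σ)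
variable {κ : Type u} [Fintype κ] (b : Module.Basis κ k ↥(RingHom.ker p.toAlgHom))

/-- a basis vector of the kernel as an element of `C'` -/
abbrev bval (l : κ) : C' := ((b l : ↥(RingHom.ker p.toAlgHom)) : C')

theorem ker_le_span : RingHom.ker p.toAlgHom ≤ Ideal.span (Set.range (bval b)) := fun x hx => by
  have h := congrArg (fun z : ↥(RingHom.ker p.toAlgHom) => (z : C')) (b.sum_repr ⟨x, hx⟩)
  simp only [AddSubmonoidClass.coe_finsetSum] at h
  rw [← h]
  refine Ideal.sum_mem _ fun l _ => ?_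
  rw [Submodule.coe_smul_of_tower, Algebra.smul_def]
  exact Ideal.mul_mem_left _ _ (Ideal.subset_span ⟨l, rfl⟩)

theorem mul_bval (hp : Art.IsSemismallExt p) (c : C') (l : κ) : c * bval b l = C'.res c • bval b l := by
  have h : c - algebraMap k C' (C'.res c) ∈ IsLocalRing.maximalIdeal C' := by
    rw [Art.mem_maximalIdeal_iff, map_sub, AlgHom.commutes, sub_eq_zero]
    rfl
  have h2 := j_mul_mem hp _ h _ (b l).2
  rw [sub_mul, sub_eq_zero] at h2
  rw [h2, Algebra.smul_def]

omit [CommRing B₀] [Algebra k B₀] in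
theorem coord_zero {M J : Type u} [AddCommGroup M] [Module k M] [AddCommGroup J] [Module k J]
    (c : Module.Basis κ k J) (x : κ → M) (h : ∑ l, x l ⊗ₜ[k] c l = 0) (l : κ) : x l = 0 := by
  classical
  have := congrArg (fun t => TensorProduct.equivFinsuppOfBasisRight c t l) h
  simpa [Finsupp.single_apply] using this

omit [CommRing B₀] [Algebra k B₀] in
theorem exists_coord {M J : Type u} [AddCommGroup M] [Module k M] [AddCommGroup J] [Module k J]
    (c : Module.Basis κ k J) (t : M ⊗[k] J) : ∃ x : κ → M, t = ∑ l, x l ⊗ₜ[k] c l := by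
  classical
  refine ⟨fun l => TensorProduct.equivFinsuppOfBasisRight c t l, (TensorProduct.equivFinsuppOfBasisRight c).injective ?_⟩
  ext l
  simp [Finsupp.single_apply]

theorem flat_facts (hp : Art.IsSemismallExt p) :
    (∀ g : κ → LRing C' P, ∑ l, MvPolynomial.C (bval b l) * g l ∈ maxR C' P * kerD p D P →
        ∀ l, red P (g l) ∈ P.toExtension.ker) ∧
      kerD p D P ⊓ maxR C' P ≤
        maxR C' P * kerD p D P ⊔ (RingHom.ker p.toAlgHom).map (algebraMap C' (LRing C' P)) ∧
      ∃ (η : Type u) (e : η → LRing C' P), (∀ x : LRing C' P, ∃ v : η →₀ C',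
          toD p D P (x - Finsupp.linearCombination C' e v) = 0) ∧
        (∀ v : η →₀ C', toD p D P (Finsupp.linearCombination C' e v) = 0 → ∀ i, p (v i) = 0) ∧
        ∀ v : η →₀ C', D.q (toD p D P (Finsupp.linearCombination C' e v)) = 0 → ∀ i, C'.res (v i) = 0 := by
  classical
  letI : Algebra C' D.carrier := ((algebraMap C D.carrier).comp p.toAlgHom.toRingHom).toAlgebra
  have hCD : ∀ (c : C') (x : D.carrier), c • x = p c • x := fun c x => by
    rw [Algebra.smul_def (p c) x]
    rfl
  haveI := free_of_flat_artinian (R := C) D.carrier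
  let η := Module.Free.ChooseBasisIndex C D.carrier
  let bas : Module.Basis η C D.carrier := Module.Free.chooseBasis C D.carrier
  choose e he using fun i => toD_surjective (D := D) P hp.1 (bas i)
  let π : (η →₀ C') →ₗ[C'] D.carrier := Finsupp.linearCombination C' bas
  have hπmap : ∀ v, π v = Finsupp.linearCombination C bas (v.mapRange (fun c => p c) (map_zero _)) := fun v => by
    change Finsupp.linearCombination C' (⇑bas) v = _
    rw [Finsupp.linearCombination_apply, Finsupp.linearCombination_apply,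
      Finsupp.sum_mapRange_index (fun i => zero_smul C (bas i))]
    exact Finsupp.sum_congr fun i _ => hCD _ _
  have hπker : ∀ v, π v = 0 → ∀ i, p (v i) = 0 := fun v hv i => by
    have h2 : v.mapRange (fun c => p c) (map_zero _) = 0 :=
      bas.linearIndependent (((hπmap v).symm.trans hv).trans (map_zero _).symm)
    simpa using DFunLike.congr_fun h2 i
  let σl : LRing C' P →ₗ[C'] D.carrier :=
    { toFun := toD p D P
      map_add' := map_add _
      map_smul' := fun c x => by
        rw [RingHom.id_apply, Algebra.smul_def, map_mul, Algebra.smul_def]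
        exact congrArg (· * _) (toD_C P c) }
  have hπs : Function.Surjective π := fun x => by
    obtain ⟨v, rfl⟩ : ∃ v, Finsupp.linearCombination C bas v = x :=
      LinearMap.range_eq_top.1 (by rw [Finsupp.range_linearCombination, bas.span_eq]) x
    refine ⟨v.mapRange (fun c => if c = 0 then 0 else Function.surjInv hp.1 c) (if_pos rfl), ?_⟩
    rw [hπmap]
    refine congrArg _ (Finsupp.ext fun i => ?_)
    simp only [Finsupp.mapRange_apply]
    split_ifs with h
    · rw [map_zero, h]
    · exact Function.surjInv_eq hp.1 _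
  obtain ⟨L, hL⟩ := Module.projective_lifting_property π σl hπs
  have hL' : ∀ x, π (L x) = toD p D P x := LinearMap.congr_fun hL
  have hΦ : ∀ v, toD p D P (Finsupp.linearCombination C' e v) = π v := LinearMap.congr_fun
    (show σl ∘ₗ Finsupp.linearCombination C' e = π from Finsupp.lhom_ext fun i a => by
      change σl (Finsupp.linearCombination C' e (Finsupp.single i a)) =
        Finsupp.linearCombination C' (⇑bas) (Finsupp.single i a)
      rw [Finsupp.linearCombination_single, Finsupp.linearCombination_single, map_smul]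
      exact congrArg (a • ·) (he i))
  have hJ : ∀ x, toD p D P x = 0 → ∀ i, L x i ∈ RingHom.ker p.toAlgHom := fun x hx =>
    hπker _ ((hL' x).trans hx)
  have hmK : ∀ x ∈ maxR C' P * kerD p D P, L x = 0 := by
    intro x hx
    induction hx using Submodule.mul_induction_on' with
    | mem_mul_mem a ha y hy =>
      revert y
      induction ha using Submodule.span_induction with
      | mem a ha =>
        obtain ⟨c, hc, rfl⟩ := ha
        intro y hy
        rw [← Algebra.smul_def, map_smul]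
        refine Finsupp.ext fun i => ?_
        rw [Finsupp.smul_apply, smul_eq_mul, j_mul_mem hp c hc _ (hJ y hy i)]
        rfl
      | zero => intro y _; rw [zero_mul, map_zero]
      | add a a' _ _ h h' => intro y hy; rw [add_mul, map_add, h y hy, h' y hy, add_zero]
      | smul r a _ h =>
        intro y hy
        rw [smul_eq_mul, mul_comm r a, mul_assoc]
        exact h _ (Ideal.mul_mem_left _ r hy)
    | add a _ y _ ha hy => rw [map_add, ha, hy, add_zero]
  refine ⟨fun g hg l => ?_, fun x hx => ?_, η, e, fun x => ⟨L x, ?_⟩,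
    fun v hv => hπker v ((hΦ v).symm.trans hv), fun v hv i => ?_⟩
  · have h0 : ∑ l, bval b l • L (g l) = 0 := by
      rw [← hmK _ hg, map_sum]
      exact Finset.sum_congr rfl fun l _ => by rw [← map_smul, Algebra.smul_def]; rfl
    have h1 : ∀ i, C'.res (L (g l) i) = 0 := fun i => by
      have h2 : ∑ l', C'.res (L (g l') i) • b l' = 0 := Subtype.ext (by
        rw [AddSubmonoidClass.coe_finsetSum]
        refine Eq.trans (Finset.sum_congr rfl fun l' _ => ?_) (Eq.trans (Finsupp.finsetSum_apply _ _ i).symm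
          (DFunLike.congr_fun h0 i))
        rw [Finsupp.smul_apply, smul_eq_mul, mul_comm, mul_bval b hp]
        rfl)
      exact Fintype.linearIndependent_iff.1 b.linearIndependent _ h2 l
    change algebraMap P.toExtension.Ring B₀ (red P (g l)) = 0
    rw [← q_toD (D := D) (p := p), ← hL']
    change D.q (Finsupp.linearCombination C' (⇑bas) (L (g l))) = 0
    rw [Finsupp.linearCombination_apply, Finsupp.sum, map_sum]
    refine Finset.sum_eq_zero fun i _ => ?_
    rw [hCD, Algebra.smul_def, map_mul, D.q_algebraMap, Art.res_app, h1, map_zero, zero_mul]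
  · obtain ⟨hxK, hxm⟩ := Submodule.mem_inf.1 hx
    let Φ := Finsupp.linearCombination C' e
    let Ψ : LRing C' P →ₗ[C'] LRing C' P := LinearMap.id - Φ ∘ₗ L
    have hΨK : ∀ y, Ψ y ∈ kerD p D P := fun y => by
      change toD p D P (y - Φ (L y)) = 0
      rw [map_sub, hΦ, hL', sub_self]
    have hxm' : x ∈ IsLocalRing.maximalIdeal C' • (⊤ : Submodule C' (LRing C' P)) := by
      rw [Ideal.smul_top_eq_map]
      exact hxm
    have h1 : Ψ x ∈ maxR C' P * kerD p D P := by
      refine Submodule.smul_induction_on hxm' (fun c hc z _ => ?_) fun y z hy hz => ?_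
      · rw [map_smul, Algebra.smul_def]
        exact Ideal.mul_mem_mul (Ideal.mem_map_of_mem _ hc) (hΨK z)
      · rw [map_add]; exact add_mem hy hz
    have h2 : Φ (L x) ∈ (RingHom.ker p.toAlgHom).map (algebraMap C' (LRing C' P)) := by
      change Finsupp.linearCombination C' e (L x) ∈ _
      rw [Finsupp.linearCombination_apply]
      refine Submodule.sum_mem _ fun i _ => ?_
      beta_reduce
      rw [Algebra.smul_def]
      exact Ideal.mul_mem_right _ _ (Ideal.mem_map_of_mem _ (hJ x hxK i))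
    exact (sub_add_cancel x (Φ (L x))) ▸ Submodule.add_mem_sup h1 h2
  · rw [map_sub, hΦ, hL', sub_self]
  · rw [hΦ, ← RingHom.mem_ker, D.ker_q] at hv
    have h2 : π v ∈ IsLocalRing.maximalIdeal C • (⊤ : Submodule C D.carrier) := by
      rw [Ideal.smul_top_eq_map]
      exact hv
    have h3 : ∀ y ∈ IsLocalRing.maximalIdeal C • (⊤ : Submodule C D.carrier),
        bas.repr y i ∈ IsLocalRing.maximalIdeal C := fun y hy => by
      refine Submodule.smul_induction_on hy (fun c hc z _ => ?_) fun y z hy hz => ?_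
      · rw [map_smul, Finsupp.smul_apply, smul_eq_mul]; exact Ideal.mul_mem_right _ _ hc
      · rw [map_add, Finsupp.add_apply]; exact add_mem hy hz
    have h5 := h3 _ h2
    rw [hπmap, bas.repr_linearCombination, Finsupp.mapRange_apply, Art.mem_maximalIdeal_iff, Art.res_app] at h5
    exact h5

theorem map_ker_le_maxR :
    (RingHom.ker p.toAlgHom).map (algebraMap C' (LRing C' P)) ≤ maxR C' P :=
  Ideal.map_mono (kerP_le p)

theorem maxR_mul_map_ker (hp : Art.IsSemismallExt p) :
    maxR C' P * (RingHom.ker p.toAlgHom).map (algebraMap C' (LRing C' P)) = ⊥ := by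
  rw [maxR, ← Ideal.map_mul, hp.2, Ideal.map_bot]

theorem C_bval_mul (hp : Art.IsSemismallExt p) {x : LRing C' P} (hx : x ∈ maxR C' P) (l : κ) :
    MvPolynomial.C (bval b l) * x = 0 := by
  rw [← Ideal.mem_bot, ← maxR_mul_map_ker P hp, mul_comm (MvPolynomial.C _) x]
  exact Ideal.mul_mem_mul hx (Ideal.mem_map_of_mem _ (b l).2)

theorem exists_bval_coeffs {x : LRing C' P}
    (hx : x ∈ (RingHom.ker p.toAlgHom).map (algebraMap C' (LRing C' P))) :
    ∃ g : κ → LRing C' P, ∑ l, MvPolynomial.C (bval b l) * g l = x := by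
  have h := Ideal.map_mono (f := algebraMap C' (LRing C' P)) (ker_le_span b) hx
  rw [Ideal.map_span, ← Set.range_comp] at h
  obtain ⟨c, hc⟩ := Ideal.mem_span_range_iff_exists_fun.1 h
  exact ⟨c, hc ▸ Finset.sum_congr rfl fun l _ => mul_comm _ _⟩

variable (p) in
/-- Lifts of the relations of the presentation. -/
structure Lifts where
  /-- the lifts -/
  F : σ → LRing C' P
  mem : ∀ s, toD p D P (F s) = 0
  red_eq : ∀ s, red P (F s) = rel P s

variable {D P}

theorem nonempty_lifts (hp : Art.IsSemismallExt p) : Nonempty (Lifts p D P) := by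
  choose F hF hFred using fun s => exists_red_eq (p := p) (D := D) P hp ⟨rel P s, P.relation_mem_ker s⟩
  exact ⟨⟨F, hF, hFred⟩⟩

variable (𝔉 : Lifts p D P)

theorem Lifts.kerD_le (hp : Art.IsSemismallExt p) :
    kerD p D P ≤ Ideal.span (Set.range 𝔉.F) ⊔ (RingHom.ker p.toAlgHom).map (algebraMap C' (LRing C' P)) := by
  haveI : Module.Finite k ↥(RingHom.ker p.toAlgHom) :=
    haveI : IsNoetherian k C' := ArtFunLib.isNoetherian_base C'
    Module.Finite.of_injective ((RingHom.ker p.toAlgHom).restrictScalars k).subtype Subtype.val_injective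
  obtain ⟨-, hint, -⟩ := flat_facts D P (Module.finBasis k ↥(RingHom.ker p.toAlgHom) |>.reindex Equiv.ulift.{u}.symm) hp
  obtain ⟨n, hn⟩ := maxR_pow_eq_bot (A' := C') P
  refine le_of_le_sup_mul (maxR C' P) _ _ (n := n) (by rw [hn, Ideal.bot_mul]; exact bot_le) fun x hx => ?_
  have h1 : red P x ∈ Ideal.map (red (C' := C') P) (Ideal.span (Set.range 𝔉.F)) := by
    rw [Ideal.map_span, ← Set.range_comp, show (red P ∘ 𝔉.F) = rel P from funext 𝔉.red_eq]
    have h3 : red P x ∈ LinearMap.range (jmap P) := by rw [range_jmap]; exact red_mem_ker P hx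
    rw [jmap, Finsupp.range_linearCombination] at h3
    exact h3
  obtain ⟨y, hy, hyx⟩ := (Ideal.mem_map_iff_of_surjective _ (red_surjective P)).1 h1
  have hyK : y ∈ kerD p D P := (Ideal.span_le.2 (by rintro _ ⟨s, rfl⟩; exact 𝔉.mem s) : _ ≤ kerD p D P) hy
  have h3 : x - y ∈ maxR C' P := by rw [← ker_red, RingHom.mem_ker, map_sub, hyx, sub_self]
  have h4 := hint (Submodule.mem_inf.2 ⟨sub_mem hx hyK, h3⟩)
  rw [← sub_add_cancel x y]
  refine add_mem ((sup_le le_sup_right (le_sup_right.trans le_sup_left) :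
    maxR C' P * kerD p D P ⊔ (RingHom.ker p.toAlgHom).map (algebraMap C' (LRing C' P)) ≤
      Ideal.span (Set.range 𝔉.F) ⊔ (RingHom.ker p.toAlgHom).map (algebraMap C' (LRing C' P)) ⊔
        maxR C' P * kerD p D P) h4) (Submodule.mem_sup_left (Submodule.mem_sup_left hy))

variable [Fintype σ]

theorem Lifts.exists_coeffs (hp : Art.IsSemismallExt p) {x : LRing C' P} (hx : x ∈ maxR C' P * kerD p D P) :
    ∃ u : σ → LRing C' P, (∀ s, u s ∈ maxR C' P) ∧ ∑ s, u s * 𝔉.F s = x := by
  classical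
  refine AffDefLib.exists_coeffs P 𝔉.F ?_
  have h := Ideal.mul_mono_right (I := maxR C' P) (𝔉.kerD_le hp) hx
  rwa [Ideal.mul_sup, maxR_mul_map_ker P hp, sup_bot_eq] at h

/-- `δ` is the obstruction cochain of the lifts. -/
def Lifts.IsObs (δ : κ → L2 P →ₗ[B₀] B₀) : Prop :=
  ∀ (q : relKer P) (Q : σ → LRing C' P) (g : κ → LRing C' P), (∀ s, red P (Q s) = (q : relMod P) s) →
    ∑ s, Q s * 𝔉.F s = ∑ l, MvPolynomial.C (bval b l) * g l →
      ∀ l, algebraMap P.toExtension.Ring B₀ (red P (g l)) = δ l (CotTLib.cl P q)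

theorem Lifts.exists_relLift (hp : Art.IsSemismallExt p) (q : relKer P) :
    ∃ (Q : σ → LRing C' P) (g : κ → LRing C' P), (∀ s, red P (Q s) = (q : relMod P) s) ∧
      ∑ s, Q s * 𝔉.F s = ∑ l, MvPolynomial.C (bval b l) * g l := by
  classical
  obtain ⟨-, hint, -⟩ := flat_facts D P b hp
  choose Q hQ using fun s => red_surjective (C' := C') P ((q : relMod P) s)
  have hxK : ∑ s, Q s * 𝔉.F s ∈ kerD p D P := Ideal.sum_mem _ fun s _ => Ideal.mul_mem_left _ _ (𝔉.mem s)
  have hxm : ∑ s, Q s * 𝔉.F s ∈ maxR C' P := by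
    rw [← ker_red, RingHom.mem_ker, map_sum]
    have hq : jmap P (q : relMod P) = 0 := q.2
    rw [jmap_eq_sum] at hq
    exact Eq.trans (Finset.sum_congr rfl fun s _ => by rw [map_mul, hQ, 𝔉.red_eq]) hq
  obtain ⟨y, hy, z, hz, hyz⟩ := Submodule.mem_sup.1 (hint (Submodule.mem_inf.2 ⟨hxK, hxm⟩))
  obtain ⟨u, hu, rfl⟩ := 𝔉.exists_coeffs hp hy
  obtain ⟨g, rfl⟩ := exists_bval_coeffs P b hz
  refine ⟨fun s => Q s - u s, g, fun s => ?_, ?_⟩
  · have := hu s
    rw [← ker_red, RingHom.mem_ker] at this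
    rw [map_sub, hQ, this, sub_zero]
  · simp only [sub_mul, Finset.sum_sub_distrib]
    rw [← hyz, add_sub_cancel_left]

theorem Lifts.exists_isObs (hp : Art.IsSemismallExt p) : ∃ δ, 𝔉.IsObs b δ := by
  classical
  obtain ⟨hclaim, -, -⟩ := flat_facts D P b hp
  have huniq : ∀ (Q Q' : σ → LRing C' P) (g g' : κ → LRing C' P), (∀ s, red P (Q s) = red P (Q' s)) →
      ∑ s, Q s * 𝔉.F s = ∑ l, MvPolynomial.C (bval b l) * g l →
      ∑ s, Q' s * 𝔉.F s = ∑ l, MvPolynomial.C (bval b l) * g' l →
      ∀ l, algebraMap P.toExtension.Ring B₀ (red P (g l)) = algebraMap P.toExtension.Ring B₀ (red P (g' l)) := by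
    intro Q Q' g g' hQ h h' l
    have h1 : ∑ l, MvPolynomial.C (bval b l) * (g l - g' l) ∈ maxR C' P * kerD p D P := by
      simp only [mul_sub, Finset.sum_sub_distrib]
      rw [← h, ← h', ← Finset.sum_sub_distrib]
      refine Ideal.sum_mem _ fun s _ => ?_
      rw [← sub_mul]
      exact Ideal.mul_mem_mul (by rw [← ker_red, RingHom.mem_ker, map_sub, hQ, sub_self]) (𝔉.mem s)
    have h2 : algebraMap P.toExtension.Ring B₀ (red P (g l - g' l)) = 0 := hclaim _ h1 l
    rwa [map_sub, map_sub, sub_eq_zero] at h2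
  choose Q g hQ hg using 𝔉.exists_relLift b hp
  let o : κ → relKer P →ₗ[P.toExtension.Ring] B₀ := fun l =>
    { toFun := fun q => algebraMap P.toExtension.Ring B₀ (red P (g q l))
      map_add' := fun q q' => by
        rw [← map_add, ← map_add]
        refine huniq (Q (q + q')) (fun s => Q q s + Q q' s) _ (fun l => g q l + g q' l) (fun s => ?_) (hg _) ?_ l
        · rw [map_add, hQ, hQ, hQ]; rfl
        · simp only [add_mul, Finset.sum_add_distrib, hg, mul_add]
      map_smul' := fun r q => by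
        obtain ⟨r', rfl⟩ := red_surjective (C' := C') P r
        rw [RingHom.id_apply, Algebra.smul_def, ← map_mul, ← map_mul]
        refine huniq (Q (red P r' • q)) (fun s => r' * Q q s) _ (fun l => r' * g q l) (fun s => ?_) (hg _) ?_ l
        · rw [map_mul, hQ, hQ]; rfl
        · simp only [mul_assoc, ← Finset.mul_sum, hg]
          rw [Finset.mul_sum]
          exact Finset.sum_congr rfl fun l _ => mul_left_comm _ _ _ }
  have htriv : ∀ l, ∀ t : trivRelKer P, o l t.1 = 0 := by
    intro l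
    suffices ∀ y ∈ trivRel P, ∀ hy : y ∈ relKer P, o l ⟨y, hy⟩ = 0 from fun t => this _ t.2 _
    intro y hy
    induction hy using Submodule.span_induction with
    | mem y hy =>
      obtain ⟨a, c, rfl⟩ := hy
      intro hy'
      choose aL haL using fun s => red_surjective (C' := C') P (a s)
      choose cL hcL using fun s => red_surjective (C' := C') P (c s)
      let Ja := ∑ s, aL s * 𝔉.F s
      let Jc := ∑ s, cL s * 𝔉.F s
      have hred : ∀ (v : relMod P) (w : σ → LRing C' P), (∀ s, red P (w s) = v s) →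
          red P (∑ s, w s * 𝔉.F s) = jmap P v := fun v w hw => by
        rw [jmap_eq_sum, map_sum]
        exact Finset.sum_congr rfl fun s _ => by rw [map_mul, hw, 𝔉.red_eq]
      have h0 : (0 : B₀) = algebraMap P.toExtension.Ring B₀ (red P (0 : LRing C' P)) := by
        rw [map_zero, map_zero]
      rw [h0]
      refine huniq (Q ⟨_, hy'⟩) (fun s => Ja * cL s - Jc * aL s) _ (fun _ => 0) (fun s => ?_) (hg _) ?_ l
      · rw [hQ, map_sub, map_mul, map_mul, hcL, haL, hred a aL haL, hred c cL hcL]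
        rfl
      · simp only [sub_mul, mul_assoc, Finset.sum_sub_distrib, ← Finset.mul_sum, mul_zero, Finset.sum_const_zero]
        rw [sub_eq_zero]
        exact mul_comm Ja Jc
    | zero => intro h; exact map_zero (o l)
    | add y z hy hz ihy ihz =>
      intro h
      have := map_add (o l) ⟨y, trivRel_le_relKer P hy⟩ ⟨z, trivRel_le_relKer P hz⟩
      rw [ihy, ihz, add_zero] at this
      exact this
    | smul r y hy ih =>
      intro h
      have := map_smul (o l) r ⟨y, trivRel_le_relKer P hy⟩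
      rw [ih, smul_zero] at this
      exact this
  have hδ : ∀ l, LinearMap.range ((trivRelKer P).subtype.baseChange B₀) ≤
      LinearMap.ker (LinearMap.liftBaseChange B₀ (o l)) := fun l => by
    rw [LinearMap.range_le_ker_iff]
    refine TensorProduct.AlgebraTensorModule.ext fun x t => ?_
    rw [LinearMap.comp_apply, LinearMap.baseChange_tmul, LinearMap.liftBaseChange_tmul,
      Submodule.coe_subtype, htriv, smul_zero, LinearMap.zero_apply]
  refine ⟨fun l => Submodule.liftQ _ _ (hδ l), fun q Q' g' hQ' hg' l => ?_⟩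
  rw [CotTLib.cl_apply, Submodule.liftQ_apply, LinearMap.liftBaseChange_tmul, one_smul]
  exact huniq Q' (Q q) g' (g q) (fun s => by rw [hQ', hQ]) hg' (hg q) l

set_option maxHeartbeats 1000000 in
/-- Changing the lifts changes the obstruction by a coboundary. -/
theorem Lifts.toT2_eq (hp : Art.IsSemismallExt p) (𝔊 : Lifts p D P) {δ δ' : κ → L2 P →ₗ[B₀] B₀}
    (h : 𝔉.IsObs b δ) (h' : 𝔊.IsObs b δ') (l : κ) : toT2 P B₀ (δ l) = toT2 P B₀ (δ' l) := by
  classical
  obtain ⟨hclaim, hint, -⟩ := flat_facts D P b hp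
  have hd : ∀ s, 𝔊.F s - 𝔉.F s ∈ kerD p D P ⊓ maxR C' P := fun s => by
    refine Submodule.mem_inf.2 ⟨sub_mem (𝔊.mem s) (𝔉.mem s), ?_⟩
    rw [← ker_red, RingHom.mem_ker, map_sub, 𝔊.red_eq, 𝔉.red_eq, sub_self]
  have hs : ∀ s, ∃ (w : LRing C' P) (h : κ → LRing C' P), w ∈ maxR C' P * kerD p D P ∧
      𝔊.F s = 𝔉.F s + w + ∑ l, MvPolynomial.C (bval b l) * h l := fun s => by
    obtain ⟨w, hw, z, hz, e⟩ := Submodule.mem_sup.1 (hint (hd s))
    obtain ⟨h, rfl⟩ := exists_bval_coeffs P b hz
    exact ⟨w, h, hw, by rw [add_assoc, e, add_sub_cancel]⟩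
  choose w hh hw e using hs
  refine (Submodule.Quotient.eq _).2 ⟨-((L1basis P).constr B₀ fun s => algebraMap P.toExtension.Ring B₀ (red P (hh s l))), ?_⟩
  refine LinearMap.ext fun x => ?_
  obtain ⟨q, rfl⟩ := CotTLib.cl_surjective P x
  obtain ⟨Q, g, hQ, hg⟩ := 𝔉.exists_relLift b hp q
  obtain ⟨Q', g', hQ', hg'⟩ := 𝔊.exists_relLift b hp q
  have h1 : ∑ l, MvPolynomial.C (bval b l) * (g' l - (g l + ∑ s, Q' s * hh s l)) ∈ maxR C' P * kerD p D P := by
    have : ∑ l, MvPolynomial.C (bval b l) * (g' l - (g l + ∑ s, Q' s * hh s l)) =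
        ∑ s, (Q' s - Q s) * 𝔉.F s + ∑ s, Q' s * w s := by
      simp only [mul_sub, mul_add, Finset.sum_sub_distrib, Finset.sum_add_distrib, sub_mul]
      rw [← hg', ← hg, show ∑ l, MvPolynomial.C (bval b l) * ∑ s, Q' s * hh s l =
          ∑ s, Q' s * ∑ l, MvPolynomial.C (bval b l) * hh s l by
        simp only [Finset.mul_sum]; rw [Finset.sum_comm]
        exact Finset.sum_congr rfl fun s _ => Finset.sum_congr rfl fun l _ => mul_left_comm _ _ _]
      rw [show ∑ s, Q' s * 𝔊.F s = ∑ s, Q' s * 𝔉.F s + ∑ s, Q' s * w s +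
          ∑ s, Q' s * ∑ l, MvPolynomial.C (bval b l) * hh s l by
        rw [← Finset.sum_add_distrib, ← Finset.sum_add_distrib]
        exact Finset.sum_congr rfl fun s _ => by rw [e, mul_add, mul_add]]
      abel
    rw [this]
    refine add_mem (Ideal.sum_mem _ fun s _ => Ideal.mul_mem_mul ?_ (𝔉.mem s))
      (Ideal.sum_mem _ fun s _ => Ideal.mul_mem_left _ _ (hw s))
    rw [← ker_red, RingHom.mem_ker, map_sub, hQ, hQ', sub_self]
  have h2 : algebraMap P.toExtension.Ring B₀ (red P (g' l - (g l + ∑ s, Q' s * hh s l))) = 0 := hclaim _ h1 l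
  rw [map_sub, map_sub, map_add, map_add, h' q Q' g' hQ' hg' l, h q Q g hQ hg l, sub_eq_zero] at h2
  rw [d2Star_apply, LinearMap.comp_apply, LinearMap.neg_apply, LinearMap.sub_apply, h2, sub_add_cancel_left,
    neg_inj, CotTLib.d2_cl]
  have e1 : CotTLib.toL1 P (q : relMod P) = ∑ s, algebraMap P.toExtension.Ring B₀ ((q : relMod P) s) • L1basis P s := by
    conv_lhs => rw [← Finsupp.univ_sum_single (q : relMod P), map_sum]
    exact Finset.sum_congr rfl fun s _ => CotTLib.toL1_single P s _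
  rw [e1, map_sum, map_sum, map_sum]
  refine Finset.sum_congr rfl fun s _ => ?_
  rw [map_smul, Module.Basis.constr_basis, map_mul, map_mul, hQ', smul_eq_mul]

/-- A deformation over `C'` gives lifts with vanishing obstruction. -/
theorem exists_lifts_of_ext (hp : Art.IsSemismallExt p) (X : Ext' p D) :
    ∃ 𝔊 : Lifts p D P, ∀ δ, 𝔊.IsObs b δ → δ = 0 := by
  classical
  obtain ⟨𝔊⟩ := nonempty_lifts (D := D) (P := P) hp
  obtain ⟨ψ, hψ⟩ := exists_lift' P X
  choose z hz using fun s => X.exists_μ_eq hp ((hψ (𝔊.F s)).trans (𝔊.mem s))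
  choose y hy using fun s : σ => exists_coord b (z s)
  choose x hx using fun (s : σ) (l : κ) => CotTLib.algebraMap_surjective P (y s l)
  choose h hh using fun (s : σ) (l : κ) => red_surjective (C' := C') P (x s l)
  have hμ : ∀ g : κ → LRing C' P, ψ (∑ l, MvPolynomial.C (bval b l) * g l) =
      X.μ hp (∑ l, algebraMap P.toExtension.Ring B₀ (red P (g l)) ⊗ₜ[k] b l) := fun g => by
    rw [map_sum, map_sum]
    refine Finset.sum_congr rfl fun l _ => ?_
    rw [← hψ.q_eq, X.μ_tmul, ψ_C_mul]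
  let 𝔊' : Lifts p D P :=
    { F := fun s => 𝔊.F s - ∑ l, MvPolynomial.C (bval b l) * h s l
      mem := fun s => by
        rw [map_sub, 𝔊.mem, map_sum, Finset.sum_eq_zero fun l _ => toD_C_mul_ker P _ (b l).2 _, sub_zero]
      red_eq := fun s => by
        rw [map_sub, 𝔊.red_eq, map_sum, Finset.sum_eq_zero, sub_zero]
        intro l _
        rw [map_mul, red_C, (Art.mem_maximalIdeal_iff C' _).1 (kerP_le p (b l).2), map_zero, zero_mul] }
  have hF : ∀ s, ψ (𝔊'.F s) = 0 := fun s => by
    change ψ (𝔊.F s - _) = 0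
    rw [map_sub, hμ, ← hz, sub_eq_zero]
    refine congrArg _ ?_
    rw [hy s]
    exact Finset.sum_congr rfl fun l _ => by rw [hh, hx]
  refine ⟨𝔊', fun δ hδ => funext fun l => LinearMap.ext fun y => ?_⟩
  obtain ⟨q, rfl⟩ := CotTLib.cl_surjective P y
  obtain ⟨Q, g, hQ, hg⟩ := 𝔊'.exists_relLift b hp q
  have h1 : X.μ hp (∑ l, algebraMap P.toExtension.Ring B₀ (red P (g l)) ⊗ₜ[k] b l) = 0 := by
    rw [← hμ, ← hg, map_sum]
    exact Finset.sum_eq_zero fun s _ => by rw [map_mul, hF, mul_zero]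
  have h2 := coord_zero b (fun l => algebraMap P.toExtension.Ring B₀ (red P (g l)))
    (X.μ_injective hp (h1.trans (map_zero _).symm)) l
  rw [← hδ q Q g hQ hg l]
  exact h2

/-- Vanishing obstruction gives a deformation over `C'`. -/
theorem exists_ext_of_obs (hp : Art.IsSemismallExt p) {δ : κ → L2 P →ₗ[B₀] B₀} (hδ : 𝔉.IsObs b δ)
    (h0 : ∀ l, toT2 P B₀ (δ l) = 0) : Nonempty (Ext' p D) := by
  classical
  obtain ⟨hclaim, -, η, e, hspan, hindep, hindep0⟩ := flat_facts D P b hp
  have h0' : ∀ l, ∃ ψ, d2Star P B₀ ψ = δ l := fun l => (Submodule.Quotient.mk_eq_zero _).1 (h0 l)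
  choose ψ hψ using h0'
  choose x hx using fun (s : σ) (l : κ) => CotTLib.algebraMap_surjective P (ψ l (L1basis P s))
  choose h hh using fun (s : σ) (l : κ) => red_surjective (C' := C') P (x s l)
  let 𝔊 : Lifts p D P :=
    { F := fun s => 𝔉.F s - ∑ l, MvPolynomial.C (bval b l) * h s l
      mem := fun s => by
        rw [map_sub, 𝔉.mem, map_sum, Finset.sum_eq_zero fun l _ => toD_C_mul_ker P _ (b l).2 _, sub_zero]
      red_eq := fun s => by
        rw [map_sub, 𝔉.red_eq, map_sum, Finset.sum_eq_zero, sub_zero]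
        intro l _
        rw [map_mul, red_C, (Art.mem_maximalIdeal_iff C' _).1 (kerP_le p (b l).2), map_zero, zero_mul] }
  have hrel : ∀ q : relKer P, ∃ Q : σ → LRing C' P, (∀ s, red P (Q s) = (q : relMod P) s) ∧
      ∑ s, Q s * 𝔊.F s = 0 := by
    intro q
    obtain ⟨Q, g, hQ, hg⟩ := 𝔉.exists_relLift b hp q
    let g' : κ → LRing C' P := fun l => g l - ∑ s, Q s * h s l
    have hQ' : ∑ s, Q s * 𝔊.F s = ∑ l, MvPolynomial.C (bval b l) * g' l := by
      simp only [𝔊, g', mul_sub, Finset.sum_sub_distrib, hg, Finset.mul_sum]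
      rw [Finset.sum_comm]
      exact congrArg _ (Finset.sum_congr rfl fun l _ => Finset.sum_congr rfl fun s _ => mul_left_comm _ _ _)
    have hg' : ∀ l, red P (g' l) ∈ LinearMap.range (jmap P) := fun l => by
      rw [range_jmap]
      change algebraMap P.toExtension.Ring B₀ (red P (g' l)) = 0
      rw [map_sub, map_sub, hδ q Q g hQ hg l, ← hψ l, d2Star_apply, LinearMap.comp_apply, CotTLib.d2_cl,
        sub_eq_zero]
      have e1 : CotTLib.toL1 P (q : relMod P) =
          ∑ s, algebraMap P.toExtension.Ring B₀ ((q : relMod P) s) • L1basis P s := by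
        conv_lhs => rw [← Finsupp.univ_sum_single (q : relMod P), map_sum]
        exact Finset.sum_congr rfl fun s _ => CotTLib.toL1_single P s _
      rw [e1, map_sum, map_sum, map_sum]
      refine Finset.sum_congr rfl fun s _ => ?_
      rw [map_smul, map_mul, map_mul, hQ, hh, hx, smul_eq_mul]
    choose a ha using hg'
    choose aL haL using fun (l : κ) (s : σ) => red_surjective (C' := C') P (a l s)
    refine ⟨fun s => Q s - ∑ l, MvPolynomial.C (bval b l) * aL l s, fun s => ?_, ?_⟩
    · rw [map_sub, hQ, map_sum, Finset.sum_eq_zero, sub_zero]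
      intro l _
      rw [map_mul, red_C, (Art.mem_maximalIdeal_iff C' _).1 (kerP_le p (b l).2), map_zero, zero_mul]
    · simp only [sub_mul, Finset.sum_sub_distrib, hQ', Finset.sum_mul, mul_assoc]
      rw [Finset.sum_comm, ← Finset.sum_sub_distrib]
      refine Finset.sum_eq_zero fun l _ => ?_
      rw [← Finset.mul_sum, ← mul_sub]
      refine C_bval_mul P b hp ?_ l
      rw [← ker_red, RingHom.mem_ker, map_sub, sub_eq_zero, ← ha l, jmap_eq_sum, map_sum]
      exact Finset.sum_congr rfl fun s _ => by rw [map_mul, haL, 𝔊.red_eq]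
  let I' : Ideal (LRing C' P) := Ideal.span (Set.range 𝔊.F)
  have hI' : I' ≤ kerD p D P := Ideal.span_le.2 (by rintro _ ⟨s, rfl⟩; exact 𝔊.mem s)
  let aE := algebraMap C' (LRing C' P ⧸ I')
  let f : LRing C' P ⧸ I' →+* D.carrier := Ideal.Quotient.lift I' (toD p D P) fun x hx => hI' hx
  have hfs : Function.Surjective f := fun y => by
    obtain ⟨r, rfl⟩ := toD_surjective P hp.1 y
    exact ⟨Ideal.Quotient.mk I' r, rfl⟩
  have hfa : ∀ c, f (aE c) = algebraMap C D.carrier (p c) := fun c => toD_C P c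
  have hker : RingHom.ker f = (RingHom.ker p.toAlgHom).map aE := by
    refine le_antisymm (fun x hx => ?_) (Ideal.map_le_iff_le_comap.2 fun c hc => ?_)
    · obtain ⟨r, rfl⟩ := Ideal.Quotient.mk_surjective x
      obtain ⟨y, hy, z, hz, rfl⟩ := Submodule.mem_sup.1 (𝔊.kerD_le hp hx)
      rw [map_add, Ideal.Quotient.eq_zero_iff_mem.2 hy, zero_add]
      have := Ideal.mem_map_of_mem (Ideal.Quotient.mk I') hz
      rwa [Ideal.map_map] at this
    · change f (aE c) = 0
      rw [hfa, show p c = 0 from hc, map_zero]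
  let Φ : (η →₀ C') →ₗ[C'] LRing C' P := Finsupp.linearCombination C' e
  let M := (Ideal.Quotient.mkₐ C' I').toLinearMap ∘ₗ Φ
  have hM : ∀ v, M v = Ideal.Quotient.mk I' (Φ v) := fun _ => rfl
  have hMs : Function.Surjective M := by
    rw [← LinearMap.range_eq_top]
    obtain ⟨n, hn⟩ := IsArtinianRing.isNilpotent_jacobson_bot (R := C')
    rw [IsLocalRing.jacobson_eq_maximalIdeal ⊥ bot_ne_top] at hn
    refine eq_top_of_sup_smul _ _ hn (top_unique fun x _ => ?_)
    obtain ⟨r, rfl⟩ := Ideal.Quotient.mk_surjective x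
    obtain ⟨v, hv⟩ := hspan r
    have h1 : Ideal.Quotient.mk I' (r - Φ v) ∈ (RingHom.ker p.toAlgHom).map aE := hker ▸ hv
    have h2 : Ideal.Quotient.mk I' (r - Φ v) ∈
        IsLocalRing.maximalIdeal C' • (⊤ : Submodule C' (LRing C' P ⧸ I')) := by
      rw [Ideal.smul_top_eq_map]
      exact Ideal.map_mono (kerP_le p) h1
    have := Submodule.add_mem_sup (LinearMap.mem_range_self M v) h2
    rwa [hM, ← map_add, add_sub_cancel] at this
  have hMi : Function.Injective M := by
    rw [← LinearMap.ker_eq_bot, Submodule.eq_bot_iff]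
    intro v hv
    replace hv : Φ v ∈ I' := Ideal.Quotient.eq_zero_iff_mem.1 hv
    have hpz := hindep v (hI' hv)
    let co : η → κ → k := fun i l => b.repr ⟨v i, hpz i⟩ l
    let v' : κ → (η →₀ C') := fun l => Finsupp.onFinset v.support (fun i => algebraMap k C' (co i l))
      fun i hi => Finsupp.mem_support_iff.2 fun h0 => hi (by
        simp only [co, show (⟨v i, hpz i⟩ : ↥(RingHom.ker p.toAlgHom)) = 0 from Subtype.ext h0, map_zero,
          Finsupp.zero_apply])
    have hv' : v = ∑ l, bval b l • v' l := Finsupp.ext fun i => by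
      rw [Finsupp.finsetSum_apply]
      conv_lhs => rw [show v i = ((⟨v i, hpz i⟩ : ↥(RingHom.ker p.toAlgHom)) : C') from rfl, ← b.sum_repr ⟨v i, hpz i⟩,
        AddSubmonoidClass.coe_finsetSum]
      refine Finset.sum_congr rfl fun l _ => ?_
      rw [Submodule.coe_smul_of_tower, Finsupp.smul_apply, Finsupp.onFinset_apply, smul_eq_mul,
        mul_comm, Algebra.smul_def]
    obtain ⟨u, -, hu⟩ := AffDefLib.exists_coeffs P 𝔊.F (I := ⊤) (by rw [Ideal.top_mul]; exact hv)
    have hsum : Φ v = ∑ l, MvPolynomial.C (bval b l) * Φ (v' l) := by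
      rw [hv', map_sum]
      exact Finset.sum_congr rfl fun l _ => by rw [map_smul, Algebra.smul_def]; rfl
    have hq : jmap P (Finsupp.equivFunOnFinite.symm fun s => red P (u s)) = 0 := by
      rw [jmap_eq_sum]
      have h2 : red P (Φ v) = 0 := by
        rw [hsum, map_sum]
        refine Finset.sum_eq_zero fun l _ => ?_
        rw [map_mul, red_C, (Art.mem_maximalIdeal_iff C' _).1 (kerP_le p (b l).2), map_zero, zero_mul]
      rw [← hu, map_sum] at h2
      refine Eq.trans (Finset.sum_congr rfl fun s _ => ?_) h2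
      rw [map_mul, 𝔊.red_eq]
      rfl
    obtain ⟨Q, hQ, hQ0⟩ := hrel ⟨_, hq⟩
    have hmem : ∑ l, MvPolynomial.C (bval b l) * Φ (v' l) ∈ maxR C' P * kerD p D P := by
      have e1 : ∑ l, MvPolynomial.C (bval b l) * Φ (v' l) = ∑ s, (u s - Q s) * 𝔊.F s := by
        simp only [sub_mul, Finset.sum_sub_distrib, hQ0, sub_zero]
        rw [hu, hsum]
      rw [e1]
      exact Ideal.sum_mem _ fun s _ => Ideal.mul_mem_mul
        (by rw [← ker_red, RingHom.mem_ker, map_sub, hQ, sub_eq_zero]; rfl) (𝔊.mem s)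
    rw [hv']
    refine Finset.sum_eq_zero fun l _ => ?_
    have h3 : D.q (toD p D P (Φ (v' l))) = 0 := by
      rw [q_toD]
      exact hclaim _ hmem l
    refine Finsupp.ext fun i => ?_
    rw [Finsupp.smul_apply, smul_eq_mul, mul_comm, mul_bval b hp, hindep0 (v' l) h3 i, zero_smul]
    rfl
  let D' : AlgDef k B₀ C' :=
    { carrier := LRing C' P ⧸ I'
      flat := Module.Flat.of_linearEquiv (LinearEquiv.ofBijective M ⟨hMi, hMs⟩).symm
      q := D.q.comp f
      q_surjective := D.q_surjective.comp hfs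
      q_algebraMap := fun c => by
        change D.q (f (aE c)) = _
        rw [hfa, D.q_algebraMap, Art.res_app]
      ker_q := ker_q_comp hp aE f hfs hfa hker }
  exact ⟨⟨D', f, hfs, hker, hfa, fun b => rfl⟩⟩

theorem exists_basis (V : Type u) [AddCommGroup V] [Module k V] [Module.Finite k V] :
    ∃ (η : Type u) (_ : Fintype η), Nonempty (Module.Basis η k V) :=
  ⟨_, inferInstance, ⟨Module.Free.chooseBasis k V⟩⟩

set_option maxHeartbeats 4000000 in

theorem exists_obsClass (hp : Art.IsSemismallExt p) :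
    ∃ o : T2 P B₀ ⊗[k] ↥(RingHom.ker p.toAlgHom),
      ∃ (κ : Type u) (_ : Fintype κ) (b : Module.Basis κ k ↥(RingHom.ker p.toAlgHom)) (𝔊 : Lifts p D P)
        (δ : κ → L2 P →ₗ[B₀] B₀), 𝔊.IsObs b δ ∧ o = ∑ l, toT2 P B₀ (δ l) ⊗ₜ[k] b l := by
  haveI : IsNoetherian k C' := ArtFunLib.isNoetherian_base C'
  haveI : Module.Finite k ↥(RingHom.ker p.toAlgHom) :=
    Module.Finite.of_injective ((RingHom.ker p.toAlgHom).restrictScalars k).subtype Subtype.val_injective
  obtain ⟨η, _, ⟨c⟩⟩ := exists_basis (k := k) ↥(RingHom.ker p.toAlgHom)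
  obtain ⟨𝔊⟩ := nonempty_lifts (D := D) (P := P) hp
  obtain ⟨δ, hδ⟩ := 𝔊.exists_isObs c hp
  exact ⟨_, η, inferInstance, c, 𝔊, δ, hδ, rfl⟩

variable (p D P) in
/-- The obstruction class. -/
def obsClass (hp : Art.IsSemismallExt p) : T2 P B₀ ⊗[k] ↥(RingHom.ker p.toAlgHom) :=
  (exists_obsClass (D := D) (P := P) hp).choose

theorem obsClass_spec (hp : Art.IsSemismallExt p) :
    ∃ (κ : Type u) (_ : Fintype κ) (b : Module.Basis κ k ↥(RingHom.ker p.toAlgHom)) (𝔊 : Lifts p D P)
      (δ : κ → L2 P →ₗ[B₀] B₀), 𝔊.IsObs b δ ∧ obsClass p D P hp = ∑ l, toT2 P B₀ (δ l) ⊗ₜ[k] b l :=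
  (exists_obsClass (D := D) (P := P) hp).choose_spec

set_option maxHeartbeats 1000000 in
theorem obsClass_eq_zero_iff (hp : Art.IsSemismallExt p) :
    obsClass p D P hp = 0 ↔ Nonempty (Ext' p D) := by
  classical
  obtain ⟨η, _, b', 𝔊, δ, hδ, he⟩ := obsClass_spec (D := D) (P := P) hp
  have hz : obsClass p D P hp = 0 ↔ ∀ l, toT2 P B₀ (δ l) = 0 := by
    rw [he]
    exact ⟨fun h l => coord_zero b' _ h l, fun h => Finset.sum_eq_zero fun l _ => by rw [h, zero_tmul]⟩
  rw [hz]
  refine ⟨exists_ext_of_obs b' 𝔊 hp hδ, fun ⟨X⟩ l => ?_⟩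
  obtain ⟨𝔊', h'⟩ := exists_lifts_of_ext (P := P) b' hp X
  obtain ⟨δ', hδ'⟩ := 𝔊'.exists_isObs b' hp
  rw [𝔊.toT2_eq b' hp 𝔊' hδ hδ' l, h' δ' hδ', Pi.zero_apply, map_zero]

section Quot

variable {K : Ideal C'} {hK : K ≤ IsLocalRing.maximalIdeal C'} {hKJ : K ≤ RingHom.ker p.toAlgHom}

variable (P) in
/-- coefficients modulo `K` -/
def qmap (hK : K ≤ IsLocalRing.maximalIdeal C') : LRing C' P →+* LRing (Art.quot C' K hK) P :=
  MvPolynomial.map (Art.quotMk C' K hK).toAlgHom.toRingHom

theorem qmap_C (c : C') : qmap P hK (MvPolynomial.C c) = MvPolynomial.C (Art.quotMk C' K hK c) :=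
  MvPolynomial.map_C _ _

theorem red_qmap (r : LRing C' P) : red P (qmap P hK r) = red P r := by
  show MvPolynomial.map _ (MvPolynomial.map _ r) = _
  rw [MvPolynomial.map_map]
  rfl

theorem toD_qmap (r : LRing C' P) : toD (Art.quotFactor hK p hKJ) D P (qmap P hK r) = toD p D P r :=
  (MvPolynomial.eval₂Hom_map_hom _ _ _ r).trans rfl

variable (hKJ) in
/-- The lifts modulo `K`. -/
def Lifts.quot : Lifts (Art.quotFactor hK p hKJ) D P :=
  ⟨fun s => qmap P hK (𝔉.F s), fun s => (toD_qmap _).trans (𝔉.mem s),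
    fun s => (red_qmap _).trans (𝔉.red_eq s)⟩

variable {η' : Type u} [Fintype η']
  (b' : Module.Basis η' k ↥(RingHom.ker (Art.quotFactor hK p hKJ).toAlgHom))

theorem quotMk_bval (l : κ) : Art.quotMk C' K hK (bval b l) =
    ∑ l', algebraMap k (Art.quot C' K hK) (b'.repr ((Art.kerToQuot hK p hKJ).restrictScalars k (b l)) l') *
      bval b' l' := by
  have h2 := congrArg Subtype.val (b'.sum_repr ((Art.kerToQuot hK p hKJ).restrictScalars k (b l))).symm
  rw [AddSubmonoidClass.coe_finsetSum] at h2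
  refine h2.trans (Finset.sum_congr rfl fun l' _ => ?_)
  rw [Submodule.coe_smul_of_tower, Algebra.smul_def]

theorem Lifts.isObs_quot (hp : Art.IsSemismallExt p) (hq : Art.IsSemismallExt (Art.quotFactor hK p hKJ))
    {δ : κ → L2 P →ₗ[B₀] B₀} (hδ : 𝔉.IsObs b δ) : (𝔉.quot hKJ).IsObs b'
      (fun l' => ∑ l, b'.repr ((Art.kerToQuot hK p hKJ).restrictScalars k (b l)) l' • δ l) := by
  classical
  obtain ⟨δ₀, hδ₀⟩ := (𝔉.quot hKJ).exists_isObs b' hq
  intro q Q' g' hQ' hg' l'
  obtain ⟨Q, g, hQ, hg⟩ := 𝔉.exists_relLift b hp q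
  rw [hδ₀ q Q' g' hQ' hg' l']
  let g'' : η' → LRing (Art.quot C' K hK) P := fun l' => ∑ l, MvPolynomial.C (algebraMap k (Art.quot C' K hK)
    (b'.repr ((Art.kerToQuot hK p hKJ).restrictScalars k (b l)) l')) * qmap P hK (g l)
  have hg'' : ∑ s, qmap P hK (Q s) * (𝔉.quot hKJ).F s = ∑ l', MvPolynomial.C (bval b' l') * g'' l' := by
    have h1 := congrArg (qmap P hK) hg
    rw [map_sum, map_sum] at h1
    simp only [map_mul] at h1
    refine h1.trans ?_
    simp only [g'', Finset.mul_sum]
    rw [Finset.sum_comm]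
    refine Finset.sum_congr rfl fun l _ => ?_
    rw [qmap_C, quotMk_bval b b' l, map_sum, Finset.sum_mul]
    refine Finset.sum_congr rfl fun l' _ => ?_
    rw [map_mul]
    exact (congrArg (· * qmap P hK (g l)) (mul_comm _ _)).trans (mul_assoc _ _ _)
  rw [← hδ₀ q (fun s => qmap P hK (Q s)) g'' (fun s => (red_qmap _).trans (hQ s)) hg'' l']
  simp only [g'', map_sum, map_mul, red_C, red_qmap, LinearMap.sum_apply, LinearMap.smul_apply]
  refine Finset.sum_congr rfl fun l _ => ?_
  rw [hδ q Q g hQ hg l, AlgHom.commutes, ← IsScalarTower.algebraMap_apply, Algebra.smul_def]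
  rfl

set_option maxHeartbeats 4000000 in
theorem obsClass_quot (hp : Art.IsSemismallExt p) (hq : Art.IsSemismallExt (Art.quotFactor hK p hKJ)) :
    obsClass (Art.quotFactor hK p hKJ) D P hq =
      LinearMap.lTensor (T2 P B₀) ((Art.kerToQuot hK p hKJ).restrictScalars k) (obsClass p D P hp) := by
  classical
  obtain ⟨η, _, c, 𝔊₁, δ, hδ, he⟩ := obsClass_spec (D := D) (P := P) hp
  obtain ⟨η', _, c', 𝔊₂, δ', hδ', he'⟩ := obsClass_spec (D := D) (P := P) hq
  have key : ∀ l', toT2 P B₀ (δ' l') =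
      ∑ l, c'.repr ((Art.kerToQuot hK p hKJ).restrictScalars k (c l)) l' • toT2 P B₀ (δ l) := fun l' => by
    rw [𝔊₂.toT2_eq c' hq (𝔊₁.quot hKJ) hδ' (Lifts.isObs_quot c 𝔊₁ c' hp hq hδ) l', map_sum]
    exact Finset.sum_congr rfl fun l _ => LinearMap.map_smul_of_tower _ _ _
  have e1 : ∀ l, LinearMap.lTensor (T2 P B₀) ((Art.kerToQuot hK p hKJ).restrictScalars k) (toT2 P B₀ (δ l) ⊗ₜ[k] c l) =
      ∑ l', (c'.repr ((Art.kerToQuot hK p hKJ).restrictScalars k (c l)) l' • toT2 P B₀ (δ l)) ⊗ₜ[k] c' l' := fun l => by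
    rw [LinearMap.lTensor_tmul]
    conv_lhs => rw [← c'.sum_repr ((Art.kerToQuot hK p hKJ).restrictScalars k (c l)), TensorProduct.tmul_sum]
    exact Finset.sum_congr rfl fun l' _ => (TensorProduct.smul_tmul _ _ _).symm
  rw [he', he, map_sum, Finset.sum_congr rfl fun l _ => e1 l, Finset.sum_comm]
  exact Finset.sum_congr rfl fun l' _ => by rw [key, TensorProduct.sum_tmul]

end Quot

section Functor

variable {ι' σ' : Type u}

/-- The obstruction theory of the deformation functor of an affine scheme with values in `T²`. -/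
theorem hasObsTheory_defFunctor [Finite σ'] (P' : Algebra.Presentation k B₀ ι' σ') :
    HasObsTheory (defFunctor (Λ := k) (Spec (CommRingCat.of B₀)) (str k B₀)) (T2 P' B₀) := by
  haveI : Fintype σ' := Fintype.ofFinite σ'
  choose rep hrep using fun (A : Art k k) (u : (defFunctor (Λ := k) (Spec (CommRingCat.of B₀)) (str k B₀)).obj A) =>
    (Quotient.inductionOn u fun ξ => by
      obtain ⟨E, ⟨a⟩⟩ := AlgDef.exists_iso_toDefSch ξ
      exact ⟨E, Quotient.sound ⟨a⟩⟩ : ∃ E : AlgDef k B₀ A, E.toDefSch.cl = u)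
  refine ⟨{ obs := fun {A' A} p hp u => obsClass p (rep A u) P' hp
            obs_eq_zero_iff := fun {A' A} p hp u => ?_
            obs_quot := fun {A' A} p hp K hK hKJ hq u => obsClass_quot hp hq }⟩
  rw [obsClass_eq_zero_iff]
  constructor
  · rintro ⟨X⟩
    refine ⟨X.D'.toDefSch.cl, Eq.trans ?_ (hrep A u)⟩
    exact Quotient.sound ⟨X.isBC.iso hp.1⟩
  · rintro ⟨u', hu'⟩
    have h1 : (defFunctor (Λ := k) (Spec (CommRingCat.of B₀)) (str k B₀)).map p (rep A' u').toDefSch.cl =
        (rep A u).toDefSch.cl := by rw [hrep, hrep, hu']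
    obtain ⟨φ⟩ := Quotient.exact h1
    obtain ⟨f, hf, -⟩ := AlgDef.exists_isBC hp.1 φ
    exact ⟨⟨_, f, hf⟩⟩

end Functor

end Groth.Agent.DeformNL.AffObs
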