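import Groth.Agent.AffDefLib.Dual
import Groth.Agent.CotTLib.Exal

/-!
# The tangent space of the deformation functor of an affine scheme is `T¹`, linearly
-/

set_option autoImplicit false

universe u

open CategoryTheory AlgebraicGeometry ArtFun TensorProduct CotT
open Groth.Agent.AffDefLib

noncomputable section

namespace Groth.Agent.DeformNL.AffTangent

variable {k : Type u} [Field k] {B₀ : Type u} [CommRing B₀] [Algebra k B₀] {ι σ : Type u}
variable (P : Algebra.Presentation k B₀ ι σ)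

/-- The deformation functor of `Spec B₀`. -/
abbrev defF (k : Type u) [Field k] (B₀ : Type u) [CommRing B₀] [Algebra k B₀] :=
  defFunctor (Λ := k) (Spec (CommRingCat.of B₀)) (str k B₀)

/-- The class of a lift. -/
theorem exists_phi {M : Type u} [AddCommGroup M] [Module B₀ M] (X : Exal.Ext k B₀ M)
    (ψ : P.toExtension.Ring →ₐ[k] X.E) (hψ : ∀ r, X.proj (ψ r) = algebraMap P.toExtension.Ring B₀ r) :
    ∃ φ, CotTLib.IsLift P X ψ φ := by
  obtain ⟨ψ₀, φ₀, h₀⟩ := CotTLib.exists_isLift P X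
  have hd : ∀ i, X.proj (ψ (CotTLib.var P i) - ψ₀ (CotTLib.var P i)) = 0 := fun i => by
    rw [map_sub, hψ, h₀.1, sub_self]
  let θ : L0 P →ₗ[B₀] M := P.cotangentSpaceBasis.constr B₀ fun i => X.kerLift _ (hd i)
  obtain ⟨ψ', h', hval⟩ := CotTLib.exists_twist P X h₀ θ
  obtain rfl : ψ' = ψ := CotTLib.algHom_ext_var P fun i => by
    have e1 : CotTLib.oneD P (CotTLib.var P i) = P.cotangentSpaceBasis i :=
      (Algebra.Generators.cotangentSpaceBasis_apply P.toGenerators i).symm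
    rw [hval, e1, Module.Basis.constr_basis, Exal.Ext.incl_kerLift]
    abel
  exact ⟨_, h'⟩

/-- `κ` computes the class in `T¹` of any lift of any representative. -/
def IsClassMap (κ : (defF k B₀).obj (Art.dual k k) → T1 P B₀) : Prop :=
  ∀ (D : AlgDef k B₀ (Art.dual k k)) (ψ : P.toExtension.Ring →ₐ[k] (toExt D).E)
    (φ : P.toExtension.Cotangent →ₗ[B₀] B₀),
    CotTLib.IsLift P (toExt D) ψ φ → κ D.toDefSch.cl = homToT1 P B₀ φ

theorem exists_classMap : ∃ κ : (defF k B₀).obj (Art.dual k k) → T1 P B₀,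
    IsClassMap P κ ∧ Function.Bijective κ := by
  choose F hF using AlgDef.exists_iso_toDefSch (k := k) (B₀ := B₀) (C := Art.dual k k)
  choose ψ φ h using fun D : AlgDef k B₀ (Art.dual k k) => CotTLib.exists_isLift P (toExt D)
  have hinv : ∀ D D', (∃ e, AlgDef.IsIsoMap D D' e) → homToT1 P B₀ (φ D) = homToT1 P B₀ (φ D') :=
    fun D D' he => by
      obtain ⟨e⟩ := (toExt_equiv_iff D D').2 he
      exact ((h D).map_equiv P e).homToT1_eq P (h D')
  let κ : (defF k B₀).obj (Art.dual k k) → T1 P B₀ :=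
    Quotient.lift (fun ξ => homToT1 P B₀ (φ (F ξ))) fun ξ ξ' ⟨e⟩ => by
      obtain ⟨a⟩ := hF ξ
      obtain ⟨b⟩ := hF ξ'
      exact hinv _ _ (AlgDef.nonempty_iso_iff.1 ⟨(a.trans e).trans b.symm⟩)
  have hκ : IsClassMap P κ := fun D ψ' φ' h' => by
    obtain ⟨a⟩ := hF D.toDefSch
    exact (hinv _ _ (AlgDef.nonempty_iso_iff.1 ⟨a⟩)).trans ((h D).homToT1_eq P h')
  refine ⟨κ, hκ, fun a b => ?_, fun x => ?_⟩
  · refine Quotient.inductionOn₂ a b fun ξ ξ' hab => Quotient.sound ?_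
    have h1 : φ (F ξ') - φ (F ξ) ∈ LinearMap.ker (homToT1 P B₀) := by
      rw [LinearMap.mem_ker, map_sub, sub_eq_zero]
      exact hab.symm
    rw [CotTLib.ker_homToT1] at h1
    obtain ⟨θ, hθ⟩ := h1
    rw [LinearMap.lcomp_apply'] at hθ
    obtain ⟨ψ', h', -⟩ := CotTLib.exists_twist P _ (h (F ξ)) θ
    rw [hθ, add_sub_cancel] at h'
    obtain ⟨e⟩ := AlgDef.nonempty_iso_iff.2 ((toExt_equiv_iff _ _).1 (h'.nonempty_equiv P (h (F ξ'))))
    obtain ⟨a⟩ := hF ξ
    obtain ⟨b⟩ := hF ξ'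
    exact ⟨(a.symm.trans e).trans b⟩
  · obtain ⟨φ₀, rfl⟩ := CotTLib.homToT1_surjective P B₀ x
    obtain ⟨X, ψ₀, h₀⟩ := CotTLib.exists_ext_of_hom P φ₀
    obtain ⟨D, ⟨e⟩⟩ := exists_toExt X
    obtain ⟨ψD, φD, hD⟩ := CotTLib.exists_isLift P (toExt D)
    exact ⟨D.toDefSch.cl, (hκ D ψD φD hD).trans ((hD.map_equiv P e).homToT1_eq P h₀)⟩

variable {κ : (defF k B₀).obj (Art.dual k k) → T1 P B₀}

/-- A representative with reduction map for the image under a surjection. -/
theorem exists_rep {A : Art k k} (g : A ⟶ Art.dual k k) (hg : Function.Surjective g) (D : AlgDef k B₀ A) :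
    ∃ (D' : AlgDef k B₀ (Art.dual k k)) (f : D.carrier →+* D'.carrier), AlgDef.IsBC g D D' f ∧
      D'.toDefSch.cl = (defF k B₀).map g D.toDefSch.cl := by
  obtain ⟨D', ⟨a⟩⟩ := AlgDef.exists_iso_toDefSch (D.toDefSch.baseChange g)
  obtain ⟨f, hf, -⟩ := AlgDef.exists_isBC hg a.symm
  exact ⟨D', f, hf, Quotient.sound ⟨a⟩⟩

/-- The class of the image of a deformation under a surjection to `k[ε]`, computed by pushing a lift. -/
theorem exists_class (hκ : IsClassMap P κ) {A : Art k k} (g : A ⟶ Art.dual k k) (hg : Function.Surjective g)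
    (D : AlgDef k B₀ A) (ψ : P.toExtension.Ring →+* D.carrier)
    (hψk : ∀ c : k, ψ (algebraMap k P.toExtension.Ring c) = algebraMap A D.carrier (algebraMap k A c))
    (hψq : ∀ r, D.q (ψ r) = algebraMap P.toExtension.Ring B₀ r) :
    ∃ φ : P.toExtension.Cotangent →ₗ[B₀] B₀,
      κ ((defF k B₀).map g D.toDefSch.cl) = homToT1 P B₀ φ ∧
      ∀ {n : ℕ} (e : Fin n → A) (c : Fin n → k), (∀ i, g (e i) = c i • (deps : Art.dual k k)) →
        ∀ (r : P.toExtension.ker) (y : Fin n → D.carrier),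
          ψ (r : P.toExtension.Ring) = ∑ i, algebraMap A D.carrier (e i) * y i →
          φ (Algebra.Extension.Cotangent.mk r) = ∑ i, c i • D.q (y i) := by
  obtain ⟨D', f, hf, hcl⟩ := exists_rep g hg D
  letI := kAlg D'
  let ψ' : P.toExtension.Ring →ₐ[k] D'.carrier :=
    { toRingHom := f.comp ψ
      commutes' := fun c => by
        show f (ψ (algebraMap k _ c)) = algebraMap (Art.dual k k) D'.carrier (algebraMap k _ c)
        rw [hψk, hf.2.2.1, ← g.toAlgHom.commutes c] }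
  obtain ⟨φ, hφ⟩ := exists_phi P (toExt D') ψ' fun r => (hf.2.2.2 _).trans (hψq r)
  refine ⟨φ, hcl ▸ hκ D' ψ' φ hφ, fun {n} e c he r y hr => ?_⟩
  refine (toExt D').isExtension.incl_injective ((hφ.2 r).symm.trans ?_)
  change f (ψ _) = (toExt D').incl _
  rw [hr, map_sum, map_sum]
  refine Finset.sum_congr rfl fun i _ => ?_
  rw [map_mul, hf.2.2.1, he]
  change algebraMap (Art.dual k k) D'.carrier (c i • deps) * f (y i) = epsD D' * sec D' (c i • D.q (y i))
  rw [Algebra.smul_def (c i) (deps : Art.dual k k), map_mul, mul_comm (algebraMap _ D'.carrier (algebraMap k _ (c i))),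
    mul_assoc]
  refine eps_mul_eq D' ?_
  rw [q_sec, map_mul, D'.q_algebraMap, hf.2.2.2, Algebra.smul_def (c i) (D.q (y i)), AlgHom.commutes]
  rfl

/-- A lift of the presentation into a deformation. -/
theorem exists_lift {A : Art k k} (D : AlgDef k B₀ A) :
    ∃ ψ : P.toExtension.Ring →+* D.carrier,
      (∀ c : k, ψ (algebraMap k P.toExtension.Ring c) = algebraMap A D.carrier (algebraMap k A c)) ∧
      ∀ r, D.q (ψ r) = algebraMap P.toExtension.Ring B₀ r := by
  choose ℓ hℓ using fun i => D.q_surjective (P.val i)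
  let ψ : P.toExtension.Ring →+* D.carrier :=
    MvPolynomial.eval₂Hom ((algebraMap A D.carrier).comp (algebraMap k A)) ℓ
  refine ⟨ψ, fun c => MvPolynomial.eval₂Hom_C _ _ c, fun r => ?_⟩
  induction r using CotTLib.ring_induction P with
  | hC a =>
    rw [show ψ (algebraMap k _ a) = algebraMap A D.carrier (algebraMap k A a) from
      MvPolynomial.eval₂Hom_C _ _ a, D.q_algebraMap, AlgHom.commutes]
    exact IsScalarTower.algebraMap_apply k P.toExtension.Ring B₀ a
  | hadd r s hr hs => rw [map_add, map_add, map_add, hr, hs]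
  | hX r i hr =>
    rw [map_mul, map_mul, map_mul, hr, CotTLib.algebraMap_var,
      show ψ (CotTLib.var P i) = ℓ i from MvPolynomial.eval₂Hom_X' _ _ i, hℓ]

/-- The unit vectors of `k[ε₁, ε₂]`. -/
def e₂ : Fin 2 → Art.dual2 k k :=
  ![(TrivSqZeroExt.inr (1, 0) : TrivSqZeroExt k (k × k)), (TrivSqZeroExt.inr (0, 1) : TrivSqZeroExt k (k × k))]

theorem mem_maximalIdeal_dual2 {x : Art.dual2 k k} (hx : x ∈ IsLocalRing.maximalIdeal (Art.dual2 k k)) :
    x ∈ Ideal.span (Set.range (e₂ (k := k))) := by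
  rw [Art.mem_maximalIdeal_iff] at hx
  let x' : TrivSqZeroExt k (k × k) := x
  have h : x = x'.snd.1 • e₂ 0 + x'.snd.2 • e₂ 1 := by
    have hfst : x'.fst = 0 := hx
    have h' : x' = (x'.snd.1 • TrivSqZeroExt.inr ((1, 0) : k × k) + x'.snd.2 • TrivSqZeroExt.inr ((0, 1) : k × k) :
        TrivSqZeroExt k (k × k)) := TrivSqZeroExt.ext (by simp [hfst]) (by ext <;> simp)
    exact h'
  rw [h, Algebra.smul_def, Algebra.smul_def]
  exact add_mem (Ideal.mul_mem_left _ _ (Ideal.subset_span ⟨0, rfl⟩))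
    (Ideal.mul_mem_left _ _ (Ideal.subset_span ⟨1, rfl⟩))

theorem surjective_tsze (l : k × k →ₗ[k] k) (v : k × k) (hv : l v = 1)
    (g : Art.dual2 k k ⟶ Art.dual k k)
    (hg : ∀ x : Art.dual2 k k, g x = Art.tszeMap (Λ := k) l (x : TrivSqZeroExt k (k × k))) :
    Function.Surjective g := fun y => by
  let y' : DualNumber k := y
  refine ⟨(⟨y'.fst, y'.snd • v⟩ : TrivSqZeroExt k (k × k)), (hg _).trans ?_⟩
  show ((y'.fst, l (y'.snd • v)) : TrivSqZeroExt k k) = y'
  rw [map_smul, hv, smul_eq_mul, mul_one]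
  rfl

theorem inr_eq_smul_deps (a : k) :
    (TrivSqZeroExt.inr a : TrivSqZeroExt k k) = a • (DualNumber.eps : DualNumber k) := by
  rw [DualNumber.eps, ← TrivSqZeroExt.inr_smul, smul_eq_mul, mul_one]

theorem map_inr (l : k × k →ₗ[k] k) (g : Art.dual2 k k ⟶ Art.dual k k)
    (hg : ∀ x : Art.dual2 k k, g x = Art.tszeMap (Λ := k) l (x : TrivSqZeroExt k (k × k))) (v : k × k) :
    g (TrivSqZeroExt.inr v : TrivSqZeroExt k (k × k)) = l v • (deps : Art.dual k k) := by
  refine (hg _).trans ?_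
  have h : (Art.tszeMap (Λ := k) l (TrivSqZeroExt.inr v : TrivSqZeroExt k (k × k)) : TrivSqZeroExt k k) =
      TrivSqZeroExt.inr (l v) := TrivSqZeroExt.ext rfl rfl
  exact h.trans (inr_eq_smul_deps (l v))

theorem classMap_add (hκ : IsClassMap P κ) (z : (defF k B₀).obj (Art.dual2 k k)) :
    κ ((defF k B₀).map Art.plus z) = κ ((defF k B₀).map Art.pr₁ z) + κ ((defF k B₀).map Art.pr₂ z) := by
  induction z using Quotient.inductionOn with
  | h ξ =>
    obtain ⟨D, ⟨a⟩⟩ := AlgDef.exists_iso_toDefSch ξ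
    rw [show (Quotient.mk _ ξ : (defF k B₀).obj (Art.dual2 k k)) = D.toDefSch.cl from Quotient.sound ⟨a.symm⟩]
    obtain ⟨ψ, hψk, hψq⟩ := exists_lift P D
    obtain ⟨φ1, h1, c1⟩ := exists_class P hκ Art.pr₁ (surjective_tsze _ (1, 0) rfl _ fun _ => rfl) D ψ hψk hψq
    obtain ⟨φ2, h2, c2⟩ := exists_class P hκ Art.pr₂ (surjective_tsze _ (0, 1) rfl _ fun _ => rfl) D ψ hψk hψq
    obtain ⟨φ3, h3, c3⟩ := exists_class P hκ Art.plus (surjective_tsze _ (1, 0) (by simp) _ fun _ => rfl) D ψ hψk hψq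
    rw [h1, h2, h3, ← map_add]
    refine congrArg _ (LinearMap.ext fun x => ?_)
    obtain ⟨r, rfl⟩ := Algebra.Extension.Cotangent.mk_surjective x
    have hr : ψ (r : P.toExtension.Ring) ∈ (Ideal.span (Set.range (e₂ (k := k)))).map (algebraMap _ D.carrier) := by
      have h0 : ψ (r : P.toExtension.Ring) ∈ RingHom.ker D.q := (hψq _).trans r.2
      rw [D.ker_q] at h0
      exact Ideal.map_mono (fun x hx => mem_maximalIdeal_dual2 hx) h0
    rw [Ideal.map_span, ← Set.range_comp] at hr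
    obtain ⟨y, hy⟩ := Ideal.mem_span_range_iff_exists_fun.1 hr
    have hy' : ψ (r : P.toExtension.Ring) = ∑ i, algebraMap _ D.carrier (e₂ i) * y i :=
      hy.symm.trans (Finset.sum_congr rfl fun i _ => mul_comm _ _)
    have he1 : ∀ i, Art.pr₁ (e₂ (k := k) i) = ![(1 : k), 0] i • (deps : Art.dual k k) := fun i => by
      fin_cases i <;> exact map_inr _ Art.pr₁ (fun _ => rfl) _
    have he2 : ∀ i, Art.pr₂ (e₂ (k := k) i) = ![(0 : k), 1] i • (deps : Art.dual k k) := fun i => by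
      fin_cases i <;> exact map_inr _ Art.pr₂ (fun _ => rfl) _
    have he3 : ∀ i, Art.plus (e₂ (k := k) i) = ![(1 : k), 1] i • (deps : Art.dual k k) := fun i => by
      fin_cases i <;> exact (map_inr _ Art.plus (fun _ => rfl) _).trans (congrArg (· • (deps : Art.dual k k)) (by simp))
    rw [LinearMap.add_apply, c1 _ _ he1 r y hy', c2 _ _ he2 r y hy', c3 _ _ he3 r y hy']
    simp [Fin.sum_univ_two]

theorem classMap_scale (hκ : IsClassMap P κ) (c : k) (hc : c ≠ 0) (z : (defF k B₀).obj (Art.dual k k)) :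
    κ ((defF k B₀).map (Art.scale c) z) = c • κ z := by
  induction z using Quotient.inductionOn with
  | h ξ =>
    obtain ⟨D, ⟨a⟩⟩ := AlgDef.exists_iso_toDefSch ξ
    rw [show (Quotient.mk _ ξ : (defF k B₀).obj (Art.dual k k)) = D.toDefSch.cl from Quotient.sound ⟨a.symm⟩]
    obtain ⟨ψ₀, φ₀, h₀⟩ := CotTLib.exists_isLift P (toExt D)
    letI := kAlg D
    let ψ : P.toExtension.Ring →ₐ[k] D.carrier := ψ₀
    have hs : Function.Surjective (Art.scale (Λ := k) c) := fun y => by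
      let y' : DualNumber k := y
      refine ⟨(⟨y'.fst, c⁻¹ * y'.snd⟩ : TrivSqZeroExt k k), ?_⟩
      show ((y'.fst, c • (c⁻¹ * y'.snd)) : TrivSqZeroExt k k) = y'
      rw [smul_eq_mul, mul_inv_cancel_left₀ hc]
      rfl
    obtain ⟨φ, hφ, hc'⟩ := exists_class P hκ (Art.scale c) hs D ψ.toRingHom (fun a => ψ.commutes a)
      (fun r => h₀.1 r)
    rw [hφ, hκ D ψ₀ φ₀ h₀, ← LinearMap.map_smul_of_tower]
    refine congrArg _ (LinearMap.ext fun x => ?_)
    obtain ⟨r, rfl⟩ := Algebra.Extension.Cotangent.mk_surjective x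
    have he : ∀ i : Fin 1, Art.scale c (![(deps : Art.dual k k)] i) = ![c] i • (deps : Art.dual k k) := by
      intro i
      fin_cases i
      show (Art.tszeMap (Λ := k) (c • LinearMap.id) (DualNumber.eps : DualNumber k) : TrivSqZeroExt k k) =
        c • (DualNumber.eps : DualNumber k)
      refine Eq.trans ?_ (inr_eq_smul_deps c)
      refine TrivSqZeroExt.ext rfl ?_
      show c • (1 : k) = c
      rw [smul_eq_mul, mul_one]
    have hr : ψ.toRingHom (r : P.toExtension.Ring) = ∑ i : Fin 1, algebraMap (Art.dual k k) D.carrier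
        (![(deps : Art.dual k k)] i) * ![sec D (φ₀ (Algebra.Extension.Cotangent.mk r))] i := by
      rw [Fin.sum_univ_one]
      exact h₀.2 r
    refine (hc' _ _ he r _ hr).trans ?_
    simp [q_sec]

end Groth.Agent.DeformNL.AffTangent
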