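import Groth.Agent.DeformNL.SemiGens
import Groth.Prelude.Def_ArtFun2

/-!
# Lifts along a semismall surjection from lifts along its small quotients
-/

set_option autoImplicit false
universe u v

open CategoryTheory ArtFun ArtFun.Art

namespace Groth.Agent.DeformNL.CutGlue

open Groth.Agent Groth.Agent.DeformNL.SemiGens

variable {k : Type u} [Field k] (F : Art k k ⥤ Type v)
  (hglue : ∀ {B A A' A'' : Art k k} (p' : B ⟶ A') (p'' : B ⟶ A'') (f' : A' ⟶ A) (f'' : A'' ⟶ A)
    (h : IsFibreProd p' p'' f' f''), Function.Surjective f'' → Function.Bijective (cmp F h))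
  {B A : Art k k} {p : B ⟶ A} (hp : IsSemismallExt p) {r : ℕ} {t : Fin r → B} (ht : Gens p t)
  (u₀ : F.obj A)

theorem map_map_apply {A₁ A₂ A₃ : Art k k} (f : A₁ ⟶ A₂) (g : A₂ ⟶ A₃) (h : A₁ ⟶ A₃) (e : f ≫ g = h)
    (z : F.obj A₁) : F.map g (F.map f z) = F.map h z := by
  subst e
  exact congr($((F.map_comp f g).symm) z)

theorem lift_cut_of_lift (u' : F.obj B) (hu : F.map p u' = u₀) (S : Finset (Fin r)) :
    ∃ w : F.obj (cut ht S), F.map (cutP ht S) w = u₀ :=
  ⟨F.map (cutQ ht S) u', (map_map_apply F _ _ _ (cutQ_cutP ht S) u').trans hu⟩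

include hp in
theorem bijective_cutQ_univ : Function.Bijective (cutQ ht (Finset.univ : Finset (Fin r))) := by
  refine ⟨(injective_iff_map_eq_zero _).2 fun b hb => ?_, cutQ_surjective ht _⟩
  have hb' : b ∈ cutI (Finset.univ : Finset (Fin r)) t := Ideal.Quotient.eq_zero_iff_mem.1 hb
  simpa [cutI] using hb'

include hp in
theorem bijective_cutP_empty : Function.Bijective (cutP ht (∅ : Finset (Fin r))) := by
  refine ⟨(injective_iff_map_eq_zero (cutP ht (∅ : Finset (Fin r))).toAlgHom).2 fun b hb => ?_,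
    (isSemismall_cut hp ht _).1⟩
  obtain ⟨b, rfl⟩ := cutQ_surjective ht (∅ : Finset (Fin r)) b
  rw [cutP_cutQ] at hb
  obtain ⟨a, rfl⟩ := eq_sum_res hp ht (hb : b ∈ RingHom.ker p.toAlgHom.toRingHom)
  exact (cutQ_eq_zero_iff hp ht (∅ : Finset (Fin r)) a).2 (by simp)

include hp hglue in
theorem exists_lift_cut (h : ∀ j, ∃ w : F.obj (cut ht {j}), F.map (cutP ht {j}) w = u₀) (S : Finset (Fin r)) :
    ∃ w : F.obj (cut ht S), F.map (cutP ht S) w = u₀ := by
  classical
  induction S using Finset.induction_on with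
  | empty =>
    haveI := ArtFunLib.isIso_of_bijective _ (bijective_cutP_empty hp ht)
    exact ⟨F.map (inv (cutP ht ∅)) u₀,
      (map_map_apply F _ _ _ (IsIso.inv_hom_id (cutP ht (∅ : Finset (Fin r)))) u₀).trans
        congr($(F.map_id A) u₀)⟩
  | insert j S hj ih =>
    obtain ⟨w, hw⟩ := ih
    obtain ⟨w', hw'⟩ := h j
    have hd : Disjoint S ({j} : Finset (Fin r)) := Finset.disjoint_singleton_right.2 hj
    obtain ⟨z, hz⟩ := (hglue _ _ _ _ (isFibreProd_cut hp ht hd) (isSemismall_cut hp ht _).1).2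
      ⟨(w, w'), hw.trans hw'.symm⟩
    rw [Finset.insert_eq, Finset.union_comm]
    refine ⟨z, ?_⟩
    rw [← map_map_apply F _ _ _ (cutMap_cutP ht (Finset.subset_union_left : S ⊆ S ∪ {j})) z, ← hw]
    exact congrArg (F.map (cutP ht S)) (congrArg (fun y => y.1.1) hz)

include hp hglue in
/-- Lifts on every one-parameter quotient give a lift. -/
theorem exists_lift_iff :
    (∃ u' : F.obj B, F.map p u' = u₀) ↔ ∀ j, ∃ w : F.obj (cut ht {j}), F.map (cutP ht {j}) w = u₀ := by
  refine ⟨fun ⟨u', hu⟩ j => lift_cut_of_lift F ht u₀ u' hu {j}, fun h => ?_⟩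
  obtain ⟨w, hw⟩ := exists_lift_cut F hglue hp ht u₀ h Finset.univ
  haveI := ArtFunLib.isIso_of_bijective _ (bijective_cutQ_univ hp ht)
  refine ⟨F.map (inv (cutQ ht Finset.univ)) w, (map_map_apply F _ _ _ ?_ w).trans hw⟩
  rw [IsIso.inv_comp_eq, cutQ_cutP]

end Groth.Agent.DeformNL.CutGlue
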