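import Groth.Agent.EtFound.TopInv
import Groth.Agent.EtFound.LiftEtale
import Groth.Agent.S0118
import Groth.Agent.FrobW2.Basic
import Groth.Prelude.Def_Frob

/-!
# Frobenius liftings pass to étale schemes
-/

universe u

open CategoryTheory CategoryTheory.Limits AlgebraicGeometry

namespace Groth.Agent.DeformNL

set_option backward.isDefEq.respectTransparency.types false

theorem exists_frobLift_of_etale {X Y Xl S S' : Scheme.{u}} (p : ℕ) [Fact p.Prime] (f : X ⟶ S)
    (q : Y ⟶ X) [Etale q] [FrobSch.IsCharP X p] [FrobSch.IsCharP Y p] (g : Xl ⟶ S') [Flat g]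
    (i : X ⟶ Xl) [IsClosedImmersion i] [Surjective i] (t : S ⟶ S') (hsq : IsPullback i f g t)
    (Fl : Xl ⟶ Xl) (hF : i ≫ Fl = FrobSch.frob X p ≫ i) :
    ∃ (Yl : Scheme.{u}) (gY : Yl ⟶ S') (j : Y ⟶ Yl) (Gl : Yl ⟶ Yl),
      Flat gY ∧ IsPullback j (q ≫ f) gY t ∧ j ≫ Gl = FrobSch.frob Y p ≫ j := by
  have : UniversallyInjective i := inferInstance
  have := Groth.Agent.S0118.result i
  let U : X.Etale := MorphismProperty.Over.mk ⊤ q ‹Etale q›
  let V : Xl.Etale := (EtCoh.bc i).objPreimage U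
  let e : (EtCoh.bc i).obj V ≅ U := (EtCoh.bc i).objObjPreimageIso U
  have hVe : Etale V.hom := V.prop
  let ψ : pullback V.hom i ≅ Y :=
    ⟨e.hom.left, e.inv.left, congrArg (fun k => k.left) e.hom_inv_id,
      congrArg (fun k => k.left) e.inv_hom_id⟩
  have hψq : ψ.hom ≫ q = pullback.snd V.hom i := MorphismProperty.Over.w e.hom
  let j : Y ⟶ V.left := ψ.inv ≫ pullback.fst V.hom i
  have hψj : ψ.hom ≫ j = pullback.fst V.hom i := ψ.hom_inv_id_assoc _
  have hj : IsPullback j q V.hom i :=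
    (IsPullback.of_hasPullback V.hom i).of_iso ψ (Iso.refl _) (Iso.refl _) (Iso.refl _)
      (by simp [j]) (by simpa using hψq.symm) (by simp) (by simp)
  let m : pullback V.hom i ⟶ V.left := ψ.hom ≫ FrobSch.frob Y p ≫ j
  have hm : m ≫ V.hom = (pullback.fst V.hom i ≫ V.hom) ≫ Fl := by
    show (ψ.hom ≫ FrobSch.frob Y p ≫ j) ≫ V.hom = _
    rw [Category.assoc, Category.assoc, hj.w, ← Category.assoc (FrobSch.frob Y p),
      FrobSch.frob_comp, Category.assoc, ← hF, ← Category.assoc, hψq, pullback.condition]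
    simp
  let T : Over Xl := Over.mk (pullback.snd V.hom Fl)
  have : Etale T.hom := inferInstanceAs (Etale (pullback.snd V.hom Fl))
  let h : (CategoryTheory.Over.pullback i).obj (Over.mk V.hom) ⟶ (CategoryTheory.Over.pullback i).obj T :=
    Over.homMk (pullback.lift (pullback.lift m (pullback.fst V.hom i ≫ V.hom) hm) (pullback.snd V.hom i)
      ((pullback.lift_snd _ _ _).trans pullback.condition)) (pullback.lift_snd _ _ _)
  obtain ⟨φ, hφ⟩ := EtFound.surjective_pullback_map i T (Over.mk V.hom) h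
  refine ⟨V.left, V.hom ≫ g, j, φ.left ≫ pullback.fst V.hom Fl, inferInstance,
    hj.paste_vert hsq, ?_⟩
  have h1 := congrArg (fun k => k.left ≫ pullback.fst (pullback.snd V.hom Fl) i ≫ pullback.fst V.hom Fl) hφ
  simp only [CategoryTheory.Over.pullback_map_left, h, Over.homMk_left] at h1
  erw [pullback.lift_fst_assoc, pullback.lift_fst_assoc, pullback.lift_fst] at h1
  refine (Iso.cancel_iso_hom_left ψ _ _).mp ?_
  rw [← Category.assoc, hψj]
  simpa [m] using h1

end Groth.Agent.DeformNL
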