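import Groth.Agent.DeformNL.ProjLift
import Groth.Agent.W4Lib.Flat
import Groth.Agent.LocalCrit.Flatness

/-!
# Exactness and flat cokernel lift along square-zero ideals
-/

universe u

open scoped TensorProduct

namespace Groth.Agent.DeformNL.ExactLift

section Flat

variable {C : Type u} [CommRing C] {X Y Z W : Type u} [AddCommGroup X] [Module C X] [AddCommGroup Y]
  [Module C Y] [AddCommGroup Z] [Module C Z] [AddCommGroup W] [Module C W]

theorem flat_of_flat_quotient [Module.Flat C Y] [Module.Flat C Z] {f : X →ₗ[C] Y} {g : Y →ₗ[C] Z}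
    (hf : Function.Injective f) (hex : Function.Exact f g) (hg : Function.Surjective g) :
    Module.Flat C X := by
  rw [Module.Flat.iff_rTensor_injective']
  intro I
  have h1 : Function.Injective (f.lTensor I) := W4Lib.lTensor_injective_of_flat_quotient hf hex hg I
  have h2 : Function.Injective (I.subtype.rTensor Y) :=
    Module.Flat.rTensor_preserves_injective_linearMap I.subtype Subtype.val_injective
  have h3 : Function.Injective (f.lTensor C ∘ₗ I.subtype.rTensor X) := by
    rw [LinearMap.lTensor_comp_rTensor, ← LinearMap.rTensor_comp_lTensor]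
    exact h2.comp h1
  intro a b h
  exact h3 (by rw [LinearMap.comp_apply, LinearMap.comp_apply, h])

/-- Exact sequences of flat modules with flat cokernel stay exact after tensoring. -/
theorem lTensor_exact_of_flat_coker [Module.Flat C Z] [Module.Flat C W] {a : X →ₗ[C] Y} {b : Y →ₗ[C] Z}
    {c : Z →ₗ[C] W} (ha : Function.Injective a) (hex : Function.Exact a b) (hbc : Function.Exact b c)
    (hc : Function.Surjective c) (Q : Type u) [AddCommGroup Q] [Module C Q] :
    Function.Injective (a.lTensor Q) ∧ Function.Exact (a.lTensor Q) (b.lTensor Q) := by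
  have hN : Function.Exact (LinearMap.range b).subtype c := fun z => by
    rw [hbc z]; simp
  haveI : Module.Flat C (LinearMap.range b) := flat_of_flat_quotient Subtype.val_injective hN hc
  have hexr : Function.Exact a b.rangeRestrict := fun y => by
    rw [← hex y]; exact Subtype.ext_iff
  refine ⟨W4Lib.lTensor_injective_of_flat_quotient ha hexr b.surjective_rangeRestrict Q, fun t => ?_⟩
  rw [← lTensor_exact Q hexr b.surjective_rangeRestrict t]
  have h := W4Lib.lTensor_injective_of_flat_quotient (Subtype.val_injective) hN hc Q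
  have hcomp : b.lTensor Q = (LinearMap.range b).subtype.lTensor Q ∘ₗ b.rangeRestrict.lTensor Q := by
    rw [← LinearMap.lTensor_comp]; rfl
  rw [hcomp, LinearMap.comp_apply]
  exact map_eq_zero_iff _ h

end Flat

variable {C' : Type u} [CommRing C'] (J : Ideal C')
variable {F2 F1 F0 : Type u} [AddCommGroup F2] [Module C' F2] [AddCommGroup F1] [Module C' F1]
  [AddCommGroup F0] [Module C' F0]

/-- `J ⊗ F → F`. -/
noncomputable def mu (F : Type u) [AddCommGroup F] [Module C' F] : ↥J ⊗[C'] F →ₗ[C'] F :=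
  (TensorProduct.lid C' F).toLinearMap ∘ₗ J.subtype.rTensor F

theorem mu_natural {F G : Type u} [AddCommGroup F] [Module C' F] [AddCommGroup G] [Module C' G]
    (f : F →ₗ[C'] G) (z : ↥J ⊗[C'] F) : mu J G (f.lTensor J z) = f (mu J F z) := by
  induction z with
  | zero => simp
  | add x y hx hy => simp only [map_add, hx, hy]
  | tmul j x => simp [mu]

theorem mu_injective (F : Type u) [AddCommGroup F] [Module C' F] [Module.Flat C' F] :
    Function.Injective (mu J F) :=
  (TensorProduct.lid C' F).injective.comp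
    (Module.Flat.rTensor_preserves_injective_linearMap J.subtype Subtype.val_injective)

theorem range_mu (F : Type u) [AddCommGroup F] [Module C' F] :
    LinearMap.range (mu J F) = J • (⊤ : Submodule C' F) := by
  refine le_antisymm ?_ (Submodule.smul_le.mpr fun c hc x _ => ⟨(⟨c, hc⟩ : J) ⊗ₜ x, by simp [mu]⟩)
  rintro _ ⟨z, rfl⟩
  induction z with
  | zero => simp
  | add x y hx hy => rw [map_add]; exact add_mem hx hy
  | tmul j x => simpa [mu] using Submodule.smul_mem_smul j.2 (Submodule.mem_top (x := x))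

theorem one_tmul_eq_zero_iff {F : Type u} [AddCommGroup F] [Module C' F] (x : F) :
    (1 : C' ⧸ J) ⊗ₜ[C'] x = 0 ↔ x ∈ LinearMap.range (mu J F) := by
  rw [range_mu, ← (TensorProduct.quotTensorEquivQuotSMul F J).map_eq_zero_iff]
  erw [TensorProduct.quotTensorEquivQuotSMul_mk_tmul]
  rw [one_smul, Submodule.Quotient.mk_eq_zero]

/-- Injectivity, exactness and flatness of the cokernel lift along a square-zero ideal. -/
theorem lift_of_flat (hJ : J * J = ⊥) [Module.Flat C' F2] [Module.Flat C' F1] [Module.Flat C' F0]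
    (a : F2 →ₗ[C'] F1) (b : F1 →ₗ[C'] F0) (hab : b ∘ₗ a = 0)
    (ha : Function.Injective (a.baseChange (C' ⧸ J)))
    (hex : Function.Exact (a.baseChange (C' ⧸ J)) (b.baseChange (C' ⧸ J)))
    [Module.Flat (C' ⧸ J) ((C' ⧸ J) ⊗[C'] (F0 ⧸ LinearMap.range b))] :
    Function.Injective a ∧ Function.Exact a b ∧ Module.Flat C' (F0 ⧸ LinearMap.range b) := by
  have htor : Module.IsTorsionBySet C' ↥J (J : Set C') := by
    intro j c
    refine Subtype.ext ?_
    have h : (c : C') * (j : C') ∈ J * J := Ideal.mul_mem_mul c.2 j.2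
    rw [hJ] at h
    exact h
  letI := htor.module
  haveI : IsScalarTower C' (C' ⧸ J) ↥J := htor.isScalarTower
  let e : ∀ (F : Type u) [AddCommGroup F] [Module C' F],
      ↥J ⊗[C' ⧸ J] ((C' ⧸ J) ⊗[C'] F) ≃ₗ[C'] ↥J ⊗[C'] F := fun F _ _ =>
    (TensorProduct.AlgebraTensorModule.cancelBaseChange C' (C' ⧸ J) (C' ⧸ J) ↥J F).restrictScalars C'
  have he : ∀ {F G : Type u} [AddCommGroup F] [Module C' F] [AddCommGroup G] [Module C' G]
      (f : F →ₗ[C'] G) (x : ↥J ⊗[C' ⧸ J] ((C' ⧸ J) ⊗[C'] F)),
      f.lTensor J (e F x) = e G ((f.baseChange (C' ⧸ J)).lTensor J x) := by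
    intro F G _ _ _ _ f x
    induction x with
    | zero => simp
    | add x y hx hy => simp only [map_add, hx, hy]
    | tmul j y =>
      induction y with
      | zero => simp
      | add y z hy hz => simp only [TensorProduct.tmul_add, map_add, hy, hz]
      | tmul c m => simp [e]
  let q := (LinearMap.range b).mkQ
  have hbq : Function.Exact b q := LinearMap.exact_map_mkQ_range b
  have hq : Function.Surjective q := Submodule.mkQ_surjective _
  obtain ⟨hJa, hJex⟩ := lTensor_exact_of_flat_coker ha hex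
    (c := q.baseChange (C' ⧸ J)) (lTensor_exact (C' ⧸ J) hbq hq) (LinearMap.lTensor_surjective _ hq) ↥J
  have hJa' : Function.Injective (a.lTensor J) := by
    intro x y h
    obtain ⟨x, rfl⟩ := (e F2).surjective x
    obtain ⟨y, rfl⟩ := (e F2).surjective y
    rw [he, he] at h
    rw [hJa ((e F1).injective h)]
  have hJex' : ∀ z, b.lTensor J z = 0 → ∃ u, a.lTensor J u = z := fun z hz => by
    obtain ⟨x, rfl⟩ := (e F1).surjective z
    rw [he] at hz
    obtain ⟨w, hw⟩ := (hJex x).mp ((e F0).map_eq_zero_iff.mp hz)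
    exact ⟨e F2 w, by rw [he, hw]⟩
  have hstep : ∀ x, (1 : C' ⧸ J) ⊗ₜ[C'] b x = 0 → ∃ w u, x = a w + mu J F1 u := by
    intro x hx
    obtain ⟨w, hw⟩ := (hex (1 ⊗ₜ x)).mp (by rw [LinearMap.baseChange_tmul]; exact hx)
    obtain ⟨w, rfl⟩ : ∃ w' : F2, (1 : C' ⧸ J) ⊗ₜ[C'] w' = w :=
      TensorProduct.mk_surjective C' F2 (C' ⧸ J) Ideal.Quotient.mk_surjective w
    rw [LinearMap.baseChange_tmul] at hw
    obtain ⟨u, hu⟩ := (one_tmul_eq_zero_iff J (x - a w)).mp (by rw [TensorProduct.tmul_sub, hw, sub_self])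
    exact ⟨w, u, by rw [hu, add_sub_cancel]⟩
  refine ⟨?_, ?_, ?_⟩
  · rw [injective_iff_map_eq_zero]
    intro x hx
    obtain ⟨z, rfl⟩ := (one_tmul_eq_zero_iff J x).mp
      (ha (by rw [LinearMap.baseChange_tmul, hx, TensorProduct.tmul_zero, map_zero]))
    rw [← mu_natural] at hx
    rw [hJa' ((mu_injective J F1 (hx.trans (map_zero _).symm)).trans (map_zero _).symm), map_zero]
  · refine fun x => ⟨fun hx => ?_, ?_⟩
    · obtain ⟨w, u, rfl⟩ := hstep x (by rw [hx, TensorProduct.tmul_zero])
      rw [map_add, show b (a w) = 0 from LinearMap.congr_fun hab w, zero_add, ← mu_natural] at hx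
      obtain ⟨v, rfl⟩ := hJex' u (mu_injective J F0 (hx.trans (map_zero _).symm))
      exact ⟨w + mu J F2 v, by rw [map_add, mu_natural]⟩
    · rintro ⟨w, rfl⟩; exact LinearMap.congr_fun hab w
  · refine LocalCrit.flat_of_isNilpotent J _ ⟨2, by rw [pow_two, hJ, Ideal.zero_eq_bot]⟩ ?_
      (LocalCrit.keepsInjective_of_flat J _)
    rw [injective_iff_map_eq_zero]
    intro t ht
    obtain ⟨y, rfl⟩ := LinearMap.lTensor_surjective (↥J) hq t
    have hy : q (mu J F0 y) = 0 := by
      rw [← mu_natural]
      show TensorProduct.lid C' _ (J.subtype.rTensor _ (q.lTensor J y)) = 0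
      rw [ht, map_zero]
    obtain ⟨w, hw⟩ := (hbq _).mp hy
    obtain ⟨v, u, rfl⟩ := hstep w (by rw [hw]; exact (one_tmul_eq_zero_iff J _).mpr ⟨y, rfl⟩)
    rw [map_add, show b (a v) = 0 from LinearMap.congr_fun hab v, zero_add, ← mu_natural] at hw
    rw [← mu_injective J F0 hw, ← LinearMap.comp_apply, ← LinearMap.lTensor_comp,
      hbq.linearMap_comp_eq_zero, LinearMap.lTensor_zero, LinearMap.zero_apply]

end Groth.Agent.DeformNL.ExactLift
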