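import Groth.Agent.DeformNL.CutGlue
import Groth.Agent.ArtFunLib.Square

/-!
# The fibres of a glued functor over semismall surjections
-/

set_option autoImplicit false
universe u v

open CategoryTheory ArtFun ArtFun.Art

namespace Groth.Agent.DeformNL.FibreTorsor

open Groth.Agent Groth.Agent.DeformNL.SemiGens Groth.Agent.DeformNL.CutGlue

variable {k : Type u} [Field k] (F : Art k k ⥤ Type v)
  (hglue : ∀ {B A A' A'' : Art k k} (p' : B ⟶ A') (p'' : B ⟶ A'') (f' : A' ⟶ A) (f'' : A'' ⟶ A)
    (h : IsFibreProd p' p'' f' f''), Function.Surjective f'' → Function.Bijective (cmp F h))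

include hglue in
/-- Along a small extension the fibre of a point that lifts is the tangent space. -/
theorem nonempty_equiv_small (h0 : H0 F) {B A : Art k k} (p : B ⟶ A) (hp : IsSmallExt p) (t : B)
    (ht : RingHom.ker p.toAlgHom = Ideal.span {t}) (u₀ : F.obj A) (u' : F.obj B) (hu : F.map p u' = u₀) :
    Nonempty ({z : F.obj B // F.map p z = u₀} ≃ F.obj (dual k k)) := by
  obtain ⟨P, p₁, p₂, hP⟩ := ArtFunLib.exists_isFibreProd p p hp.1
  obtain ⟨g, -, -, hg⟩ := ArtFunLib.exists_diff p hp t ht p₁ p₂ hP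
  haveI := h0.2
  have c₁ := hglue _ _ _ _ hP hp.1
  have c₂ := hglue _ _ _ _ hg (fun a => (dual k k).res_surjective a)
  let toD : {z : F.obj B // F.map p z = u₀} → F.obj (dual k k) := fun z =>
    F.map g (c₁.2 ⟨(u', z.1), hu.trans z.2.symm⟩).choose
  refine ⟨Equiv.ofBijective toD ⟨fun z z' h => Subtype.ext ?_, fun d => ?_⟩⟩
  · have e := (c₁.2 ⟨(u', z.1), hu.trans z.2.symm⟩).choose_spec
    have e' := (c₁.2 ⟨(u', z'.1), hu.trans z'.2.symm⟩).choose_spec
    have h1 : cmp F hg (c₁.2 ⟨(u', z.1), hu.trans z.2.symm⟩).choose =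
        cmp F hg (c₁.2 ⟨(u', z'.1), hu.trans z'.2.symm⟩).choose :=
      FibProd.ext ((congrArg (fun y => y.1.1) e).trans (congrArg (fun y => y.1.1) e').symm) h
    have h2 := c₂.1 h1
    have h3 := congrArg (fun y => y.1.2) e
    have h4 := congrArg (fun y => y.1.2) e'
    exact h3.symm.trans ((congrArg (fun w => (cmp F hP w).1.2) h2).trans h4)
  · obtain ⟨w, hw⟩ := c₂.2 ⟨(u', d), Subsingleton.elim _ _⟩
    have hw₁ : F.map p₁ w = u' := congrArg (fun y => y.1.1) hw
    have hz : F.map p (F.map p₂ w) = u₀ := by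
      rw [map_map_apply F p₂ p (p₁ ≫ p) hP.w.symm w, ← map_map_apply F p₁ p (p₁ ≫ p) rfl w, hw₁, hu]
    refine ⟨⟨F.map p₂ w, hz⟩, ?_⟩
    have e := (c₁.2 ⟨(u', F.map p₂ w), hu.trans hz.symm⟩).choose_spec
    have h2 := c₁.1 (e.trans (FibProd.ext hw₁.symm rfl : (⟨(u', F.map p₂ w), hu.trans hz.symm⟩ : FibProd F p p) = cmp F hP w))
    exact (congrArg (F.map g) h2).trans (congrArg (fun y => y.1.2) hw)

variable {B A : Art k k} {p : B ⟶ A} (hp : IsSemismallExt p) {r : ℕ} {t : Fin r → B} (ht : Gens p t)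
  (u₀ : F.obj A)

theorem cutMap_comp {S T U : Finset (Fin r)} (h : S ⊆ T) (h' : T ⊆ U) :
    cutMap ht h' ≫ cutMap ht h = cutMap ht (h.trans h') := by
  refine ArtFun.Art.Hom.ext (AlgHom.ext fun b => ?_)
  obtain ⟨b, rfl⟩ := cutQ_surjective ht U b
  show (cutMap ht h) ((cutMap ht h') (cutQ ht U b)) = (cutMap ht (h.trans h')) (cutQ ht U b)
  rw [cutMap_apply, cutMap_apply, cutMap_apply]

include hp hglue in
theorem eq_of_res (S : Finset (Fin r)) (z z' : F.obj (cut ht S)) (hz : F.map (cutP ht S) z = F.map (cutP ht S) z')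
    (h : ∀ (j : Fin r) (hj : j ∈ S),
      F.map (cutMap ht (Finset.singleton_subset_iff.2 hj)) z = F.map (cutMap ht (Finset.singleton_subset_iff.2 hj)) z') :
    z = z' := by
  classical
  induction S using Finset.induction_on with
  | empty =>
    haveI := ArtFunLib.isIso_of_bijective _ (bijective_cutP_empty hp ht)
    exact (ArtFunLib.map_bijective_of_isIso F (cutP ht ∅)).1 hz
  | insert j S hj ih =>
    revert z z'
    rw [Finset.insert_eq, Finset.union_comm]
    intro z z' hz h
    have hd : Disjoint S ({j} : Finset (Fin r)) := Finset.disjoint_singleton_right.2 hj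
    refine (hglue _ _ _ _ (isFibreProd_cut hp ht hd) (isSemismall_cut hp ht _).1).1 (FibProd.ext ?_ ?_)
    · refine ih _ _ ?_ fun l hl => ?_
      · show F.map (cutP ht S) (F.map _ z) = F.map (cutP ht S) (F.map _ z')
        rw [map_map_apply F _ _ _ (cutMap_cutP ht _) z, map_map_apply F _ _ _ (cutMap_cutP ht _) z', hz]
      · show F.map (cutMap ht _) (F.map _ z) = F.map (cutMap ht _) (F.map _ z')
        rw [map_map_apply F _ _ _ (cutMap_comp ht _ _) z, map_map_apply F _ _ _ (cutMap_comp ht _ _) z']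
        exact h l (Finset.mem_union_left _ hl)
    · exact h j (Finset.mem_union_right _ (Finset.mem_singleton_self j))

include hp hglue in
theorem exists_of_res (w : ∀ j, {z : F.obj (cut ht {j}) // F.map (cutP ht {j}) z = u₀}) (S : Finset (Fin r)) :
    ∃ z : F.obj (cut ht S), F.map (cutP ht S) z = u₀ ∧
      ∀ (j : Fin r) (hj : j ∈ S), F.map (cutMap ht (Finset.singleton_subset_iff.2 hj)) z = (w j).1 := by
  classical
  induction S using Finset.induction_on with
  | empty =>
    haveI := ArtFunLib.isIso_of_bijective _ (bijective_cutP_empty hp ht)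
    obtain ⟨z, hz⟩ := (ArtFunLib.map_bijective_of_isIso F (cutP ht ∅)).2 u₀
    exact ⟨z, hz, fun j hj => absurd hj (Finset.notMem_empty j)⟩
  | insert j S hj ih =>
    obtain ⟨z, hz, hres⟩ := ih
    rw [Finset.insert_eq, Finset.union_comm]
    have hd : Disjoint S ({j} : Finset (Fin r)) := Finset.disjoint_singleton_right.2 hj
    obtain ⟨y, hy⟩ := (hglue _ _ _ _ (isFibreProd_cut hp ht hd) (isSemismall_cut hp ht _).1).2
      ⟨(z, (w j).1), hz.trans (w j).2.symm⟩
    have h1 : F.map (cutMap ht Finset.subset_union_left) y = z := congrArg (fun y => y.1.1) hy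
    have h2 : F.map (cutMap ht Finset.subset_union_right) y = (w j).1 := congrArg (fun y => y.1.2) hy
    refine ⟨y, ?_, fun l hl => ?_⟩
    · rw [← map_map_apply F _ _ _ (cutMap_cutP ht (Finset.subset_union_left : S ⊆ S ∪ {j})) y, h1, hz]
    · rcases Finset.mem_union.1 hl with hl' | hl'
      · rw [← map_map_apply F _ _ _ (cutMap_comp ht (Finset.singleton_subset_iff.2 hl') Finset.subset_union_left) y, h1]
        exact hres l hl'
      · obtain rfl := Finset.mem_singleton.1 hl'
        exact h2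

include hp hglue in
/-- Along a semismall surjection the fibre is the product of the fibres of the one-parameter quotients. -/
theorem nonempty_equiv_cut :
    Nonempty ({z : F.obj B // F.map p z = u₀} ≃ ∀ j, {z : F.obj (cut ht {j}) // F.map (cutP ht {j}) z = u₀}) := by
  haveI := ArtFunLib.isIso_of_bijective _ (bijective_cutQ_univ hp ht)
  have hq : ∀ j : Fin r, cutQ ht Finset.univ ≫ cutMap ht (Finset.singleton_subset_iff.2 (Finset.mem_univ j)) =
      cutQ ht {j} := fun j => ArtFun.Art.Hom.ext (AlgHom.ext fun b => rfl)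
  refine ⟨Equiv.ofBijective
    (fun z j => ⟨F.map (cutQ ht {j}) z.1, (map_map_apply F _ _ _ (cutQ_cutP ht {j}) z.1).trans z.2⟩)
    ⟨fun z z' h => Subtype.ext ((ArtFunLib.map_bijective_of_isIso F (cutQ ht Finset.univ)).1 ?_), fun w => ?_⟩⟩
  · refine eq_of_res F hglue hp ht _ _ _ ?_ fun j hj => ?_
    · rw [map_map_apply F _ _ _ (cutQ_cutP ht _) z.1, map_map_apply F _ _ _ (cutQ_cutP ht _) z'.1, z.2, z'.2]
    · rw [map_map_apply F _ _ _ (hq j) z.1, map_map_apply F _ _ _ (hq j) z'.1]
      exact congrArg Subtype.val (congrFun h j)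
  · obtain ⟨y, hy, hres⟩ := exists_of_res F hglue hp ht u₀ w Finset.univ
    obtain ⟨z, rfl⟩ := (ArtFunLib.map_bijective_of_isIso F (cutQ ht Finset.univ)).2 y
    refine ⟨⟨z, by rw [← map_map_apply F _ _ _ (cutQ_cutP ht Finset.univ) z, hy]⟩, funext fun j => Subtype.ext ?_⟩
    exact (map_map_apply F _ _ _ (hq j) z).symm.trans (hres j (Finset.mem_univ j))

include hglue in
/-- A nonempty fibre over a semismall surjection is `T ⊗ J`. -/
theorem nonempty_equiv_tensor (h0 : H0 F) {V : Type u} [AddCommGroup V] [Module k V]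
    (T : F.obj (dual k k) ≃ V) {B' A' : Art k k} (q : B' ⟶ A') (hq : IsSemismallExt q) (v₀ : F.obj A')
    (hne : ∃ u', F.map q u' = v₀) :
    Nonempty ({z : F.obj B' // F.map q z = v₀} ≃ TensorProduct k V ↥(RingHom.ker q.toAlgHom)) := by
  obtain ⟨u', hu⟩ := hne
  obtain ⟨e⟩ := nonempty_equiv_cut F hglue hq (gens_basis q) v₀
  have hj : ∀ j, Nonempty ({z : F.obj (cut (gens_basis q) {j}) // F.map (cutP (gens_basis q) {j}) z = v₀} ≃
      F.obj (dual k k)) := fun j => by
    obtain ⟨hg, hsm⟩ := gens_cut_single hq (gens_basis q) j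
    refine nonempty_equiv_small F hglue h0 _ hsm (cutQ (gens_basis q) {j} (basis q j : B')) ?_ v₀ (F.map (cutQ (gens_basis q) {j}) u')
      ((map_map_apply F _ _ _ (cutQ_cutP (gens_basis q) {j}) u').trans hu)
    exact hg.span.trans (by rw [Set.range_const])
  exact ⟨(e.trans (Equiv.piCongrRight fun j => (hj j).some.trans T)).trans
    (((TensorProduct.equivFinsuppOfBasisRight (basis q)).trans
      (Finsupp.linearEquivFunOnFinite k V _)).symm.toEquiv)⟩

end Groth.Agent.DeformNL.FibreTorsor
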