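import Groth.Agent.EtFound.LiftEtale
import Mathlib.RingTheory.Etale.Field
import Mathlib.RingTheory.Etale.Kaehler
import Mathlib.RingTheory.Unramified.LocalStructure
import Mathlib.RingTheory.RingHom.Etale
import Mathlib.RingTheory.Flat.Basic

/-!
# `H¹` of the cotangent complex under separable residue field extensions
-/

universe u

open scoped TensorProduct
open Algebra

namespace Groth.Agent.DeformNL

theorem exists_standardEtale_of_separable (K k : Type u) [Field K] [Field k] [Algebra K k]
    [Module.Finite K k] [Algebra.IsSeparable K k] : Algebra.IsStandardEtale K k := by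
  have : Algebra.FormallyEtale K k := Algebra.FormallyEtale.of_isSeparable K k
  have : Algebra.FinitePresentation K k := Algebra.FinitePresentation.of_finiteType.mp inferInstance
  have : Algebra.Etale K k := { }
  have : Algebra.IsEtaleAt K (⊥ : Ideal k) := inferInstance
  obtain ⟨f, hf, h⟩ := Algebra.IsEtaleAt.exists_isStandardEtale (R := K) (⊥ : Ideal k)
  have hu : IsUnit f := isUnit_iff_ne_zero.mpr (by simpa using hf)
  have e : k ≃ₐ[k] Localization.Away f := IsLocalization.atUnits k (Submonoid.powers f)
    (by rintro _ ⟨n, rfl⟩; exact hu.pow n)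
  exact Algebra.IsStandardEtale.of_equiv (e.restrictScalars K).symm

theorem h1Cotangent_liftBaseChange_bijective {Λ T k : Type u} [CommRing Λ] [CommRing T] [Field k]
    [Algebra Λ T] [Algebra Λ k] [Algebra T k] [IsScalarTower Λ T k] [Module.Flat T k]
    (hT : Function.Surjective (algebraMap Λ T)) [Algebra.IsStandardEtale T k] :
    Function.Bijective ((Algebra.H1Cotangent.map Λ Λ T k).liftBaseChange k) := by
  obtain ⟨P, ⟨e⟩⟩ := EtFound.exists_standardEtale_lift (A := Λ) (C := k) hT
  have : Algebra.Etale Λ P.Ring := inferInstance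
  have : Algebra.FormallyEtale Λ P.Ring := inferInstance
  let π : P.Ring →ₐ[Λ] k := (e.toAlgHom.restrictScalars Λ).comp Algebra.TensorProduct.includeRight
  have hone : Function.Surjective fun x : P.Ring => (1 : T) ⊗ₜ[Λ] x :=
    TensorProduct.mk_surjective Λ P.Ring T hT
  have hπ : Function.Surjective π := fun y => by
    obtain ⟨x, hx⟩ := hone (e.symm y)
    exact ⟨x, by show e ((1 : T) ⊗ₜ[Λ] x) = y; rw [show (1 : T) ⊗ₜ[Λ] x = e.symm y from hx, e.apply_symm_apply]⟩
  let E₀ : Extension.{u} Λ T := Extension.ofSurjective (Algebra.ofId Λ T) hT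
  let E₁ : Extension.{u} Λ k := Extension.ofSurjective π hπ
  have hE₀ : Algebra.FormallySmooth Λ E₀.Ring := inferInstanceAs (Algebra.FormallySmooth Λ Λ)
  have hE₁ : Algebra.FormallySmooth Λ E₁.Ring := inferInstanceAs (Algebra.FormallySmooth Λ P.Ring)
  letI alg : Algebra E₀.Ring E₁.Ring := (inferInstance : Algebra Λ P.Ring)
  let f : E₀.Hom E₁ :=
    { toRingHom := algebraMap Λ P.Ring
      toRingHom_algebraMap := fun _ => rfl
      algebraMap_toRingHom := fun r =>
        (π.commutes r).trans (IsScalarTower.algebraMap_apply Λ T k r) }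
  have H₁ : f.toRingHom.FormallyEtale :=
    RingHom.formallyEtale_algebraMap.mpr (inferInstanceAs (Algebra.FormallyEtale Λ P.Ring))
  have H₂ : Function.Bijective ((f.mapKer rfl).liftBaseChange E₁.Ring) := by
    let I : Ideal Λ := RingHom.ker (algebraMap Λ T)
    let g : P.Ring ⊗[Λ] ↥I →ₗ[Λ] P.Ring :=
      (TensorProduct.rid Λ P.Ring).toLinearMap ∘ₗ LinearMap.lTensor P.Ring (Submodule.subtype I)
    have hval : ∀ z : P.Ring ⊗[Λ] ↥I, (((f.mapKer rfl).liftBaseChange E₁.Ring) z).1 = g z := by
      intro z
      induction z with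
      | zero => simp; rfl
      | add a b ha hb =>
        rw [map_add g, ← ha, ← hb]
        exact congrArg Subtype.val (map_add ((f.mapKer rfl).liftBaseChange E₁.Ring) a b)
      | tmul q i =>
        show q * algebraMap Λ P.Ring i.1 = i.1 • q
        rw [Algebra.smul_def, mul_comm]
    refine ⟨fun a b h => ?_, fun y => ?_⟩
    · refine Module.Flat.lTensor_preserves_injective_linearMap (M := P.Ring) _ I.subtype_injective
        ((TensorProduct.rid Λ P.Ring).injective ?_)
      show g a = g b
      exact ((hval a).symm.trans (congrArg Subtype.val h)).trans (hval b)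
    · obtain ⟨y, hy⟩ := y
      have hy0 : (1 : T) ⊗ₜ[Λ] (y : P.Ring) = 0 := e.injective (hy.trans e.map_zero.symm)
      have hex : Function.Exact (Submodule.subtype I) (Algebra.linearMap Λ T) :=
        LinearMap.exact_iff.mpr (by rw [Submodule.range_subtype]; rfl)
      have hy1 : LinearMap.lTensor P.Ring (Algebra.linearMap Λ T)
          ((TensorProduct.rid Λ P.Ring).symm y) = 0 := by
        apply (TensorProduct.comm Λ P.Ring T).injective
        rw [map_zero]
        show TensorProduct.comm Λ P.Ring T ((y : P.Ring) ⊗ₜ[Λ] algebraMap Λ T 1) = 0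
        rw [map_one]
        exact (TensorProduct.comm_tmul Λ P.Ring T (y : P.Ring) (1 : T)).trans hy0
      obtain ⟨z, hz⟩ := (lTensor_exact P.Ring hex hT _).mp hy1
      refine ⟨z, Subtype.ext ((hval z).trans ?_)⟩
      show TensorProduct.rid Λ P.Ring (LinearMap.lTensor P.Ring (Submodule.subtype I) z) = y
      rw [hz]; exact LinearEquiv.apply_symm_apply _ _
  have hΦ : Function.Bijective ((Extension.H1Cotangent.map f).liftBaseChange k) :=
    (Extension.tensorH1CotangentOfFormallyEtale f rfl H₁ H₂).bijective
  let S₀ : Extension Λ T := (Generators.self Λ T).toExtension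
  let S₁ : Extension Λ k := (Generators.self Λ k).toExtension
  have hS₀ : Algebra.FormallySmooth Λ S₀.Ring := inferInstanceAs (Algebra.FormallySmooth Λ (MvPolynomial _ Λ))
  have hS₁ : Algebra.FormallySmooth Λ S₁.Ring := inferInstanceAs (Algebra.FormallySmooth Λ (MvPolynomial _ Λ))
  let a : E₀.Hom S₀ :=
    { toRingHom := algebraMap Λ S₀.Ring
      toRingHom_algebraMap := fun _ => rfl
      algebraMap_toRingHom := fun r => (IsScalarTower.algebraMap_apply Λ S₀.Ring T r).symm }
  let b : S₁.Hom E₁ :=
    { toRingHom := (MvPolynomial.aeval E₁.σ).toRingHom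
      toRingHom_algebraMap := (MvPolynomial.aeval E₁.σ).commutes
      algebraMap_toRingHom := by
        have : (IsScalarTower.toAlgHom Λ E₁.Ring k).comp (MvPolynomial.aeval E₁.σ) =
            IsScalarTower.toAlgHom Λ S₁.Ring k := by
          refine MvPolynomial.algHom_ext fun i => ?_
          show π (MvPolynomial.aeval E₁.σ (MvPolynomial.X i)) = algebraMap (Generators.self Λ k).Ring k (MvPolynomial.X i)
          rw [MvPolynomial.aeval_X, Generators.algebraMap_apply, MvPolynomial.aeval_X]
          exact E₁.algebraMap_σ i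
        exact DFunLike.congr_fun this }
  let ea := Extension.H1Cotangent.equivOfFormallySmooth E₀ S₀
  let eb := Extension.H1Cotangent.equivOfFormallySmooth S₁ E₁
  have key : ∀ y, eb (Algebra.H1Cotangent.map Λ Λ T k (ea y)) = Extension.H1Cotangent.map f y := by
    intro y
    show Extension.H1Cotangent.equivOfFormallySmooth S₁ E₁ _ = _
    rw [Extension.H1Cotangent.equivOfFormallySmooth_apply b,
      Extension.H1Cotangent.equivOfFormallySmooth_apply a, Algebra.H1Cotangent.map,
      ← (Extension.H1Cotangent.map b).coe_restrictScalars T, ← LinearMap.comp_apply,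
      ← LinearMap.comp_apply, ← Extension.H1Cotangent.map_comp]
    erw [← Extension.H1Cotangent.map_comp, Extension.H1Cotangent.map_eq]
  have hfac : ∀ z, eb ((Algebra.H1Cotangent.map Λ Λ T k).liftBaseChange k
      (LinearEquiv.lTensor k ea z)) = (Extension.H1Cotangent.map f).liftBaseChange k z := by
    intro z
    induction z with
    | zero => simp
    | add x y hx hy => simp only [map_add, hx, hy]
    | tmul c y =>
      rw [LinearEquiv.lTensor_tmul, LinearMap.liftBaseChange_tmul, LinearMap.liftBaseChange_tmul,
        map_smul, key]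
  refine ⟨fun x y h => ?_, fun w => ?_⟩
  · obtain ⟨x, rfl⟩ := (LinearEquiv.lTensor k ea).surjective x
    obtain ⟨y, rfl⟩ := (LinearEquiv.lTensor k ea).surjective y
    rw [hΦ.injective ((hfac x).symm.trans ((congrArg eb h).trans (hfac y)))]
  · obtain ⟨z, hz⟩ := hΦ.surjective (eb w)
    exact ⟨_, eb.injective ((hfac z).trans hz)⟩

end Groth.Agent.DeformNL
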