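import Groth.Agent.DeformNL.MinorsLift
import Mathlib.RingTheory.Localization.Integer
import Mathlib.RingTheory.Localization.Away.Basic
import Mathlib.RingTheory.Localization.AtPrime.Basic
import Mathlib.RingTheory.Localization.Ideal
import Mathlib.AlgebraicGeometry.IdealSheaf.Basic
import Mathlib.AlgebraicGeometry.Morphisms.ClosedImmersion

/-!
# Spreading a Hilbert–Burch presentation out of a stalk
-/

universe u

open CategoryTheory AlgebraicGeometry

namespace Groth.Agent.DeformNL.HBSpread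

open Groth.Agent.DeformNL

section Algebra

variable {A : Type u} [CommRing A] {r : ℕ}

theorem sMinor_smul (c : A) (φ : Matrix (Fin (r + 1)) (Fin r) A) (i : Fin (r + 1)) :
    sMinor (c • φ) i = c ^ r * sMinor φ i := by
  rw [sMinor, sMinor, show (c • φ).submatrix i.succAbove id = c • φ.submatrix i.succAbove id from rfl,
    Matrix.det_smul, Fintype.card_fin]
  ring

theorem exists_smul_mem {M : Type*} [AddCommGroup M] [Module A M] (S : Submonoid A) (N P : Submodule A M)
    (hN : N.FG) (h : ∀ v ∈ N, ∃ s ∈ S, s • v ∈ P) : ∃ s ∈ S, ∀ v ∈ N, s • v ∈ P := by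
  classical
  obtain ⟨T, rfl⟩ := hN
  choose s hs hs' using fun v : T => h v.1 (Submodule.subset_span v.2)
  refine ⟨∏ v, s v, Submonoid.prod_mem _ fun v _ => hs v, fun v hv => ?_⟩
  induction hv using Submodule.span_induction with
  | mem x hx =>
    rw [← Finset.mul_prod_erase Finset.univ s (Finset.mem_univ ⟨x, hx⟩), mul_comm, mul_smul]
    exact P.smul_mem _ (hs' ⟨x, hx⟩)
  | zero => rw [smul_zero]; exact P.zero_mem
  | add x y _ _ hx hy => rw [smul_add]; exact P.add_mem hx hy
  | smul a x _ hx => rw [smul_comm]; exact P.smul_mem a hx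

variable {B : Type u} [CommRing B] [Algebra A B]

theorem map_mulVec' (φ : Matrix (Fin (r + 1)) (Fin r) A) (w : Fin r → A) (i : Fin (r + 1)) :
    (φ.map (algebraMap A B)).mulVecLin (fun j => algebraMap A B (w j)) i =
      algebraMap A B (φ.mulVecLin w i) := by
  rw [Matrix.mulVecLin_apply, Matrix.mulVecLin_apply, RingHom.map_mulVec]
  rfl

theorem map_lc {n : ℕ} (f : Fin n → A) (v : Fin n → A) :
    Fintype.linearCombination B (fun i => algebraMap A B (f i)) (fun j => algebraMap A B (v j)) =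
      algebraMap A B (Fintype.linearCombination A f v) := by
  simp [Fintype.linearCombination_apply, map_sum]

/-- Clearing denominators in a vector. -/
theorem exists_num (S : Submonoid A) [IsLocalization S B] {n : ℕ} (v : Fin n → B) :
    ∃ (t : S) (v₀ : Fin n → A), ∀ i, algebraMap A B (v₀ i) = algebraMap A B t * v i := by
  obtain ⟨t, ht⟩ := IsLocalization.exist_integer_multiples_of_finite S v
  choose v₀ hv₀ using ht
  exact ⟨t, v₀, fun i => (hv₀ i).trans (Algebra.smul_def _ _)⟩

theorem exists_eq_zero (S : Submonoid A) [IsLocalization S B] {n : ℕ} (v₀ : Fin n → A)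
    (h : ∀ i, algebraMap A B (v₀ i) = 0) : ∃ t ∈ S, t • v₀ = 0 := by
  choose t ht using fun i => (IsLocalization.map_eq_zero_iff S B (v₀ i)).1 (h i)
  refine ⟨∏ i, (t i : A), Submonoid.prod_mem _ fun i _ => (t i).2, funext fun i => ?_⟩
  rw [Pi.smul_apply, smul_eq_mul, ← Finset.prod_erase_mul Finset.univ (fun i => (t i : A)) (Finset.mem_univ i),
    mul_assoc, ht i, mul_zero, Pi.zero_apply]

/-- A Hilbert–Burch presentation at a prime spreads to a principal neighbourhood. -/
theorem exists_spread [IsNoetherianRing A] (p : Ideal A) [p.IsPrime] (Ap : Type u) [CommRing Ap] [Algebra A Ap]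
    [IsLocalization.AtPrime Ap p] (I : Ideal A) (φ : Matrix (Fin (r + 1)) (Fin r) Ap)
    (hI : Ideal.span (Set.range (sMinor φ)) = I.map (algebraMap A Ap))
    (hinj : Function.Injective φ.mulVecLin)
    (hex : LinearMap.range φ.mulVecLin = LinearMap.ker (Fintype.linearCombination Ap (sMinor φ))) :
    ∃ h ∉ p, ∀ (B : Type u) [CommRing B] [Algebra A B] [IsLocalization.Away h B],
      ∃ ψ : Matrix (Fin (r + 1)) (Fin r) B,
        Ideal.span (Set.range (sMinor ψ)) = I.map (algebraMap A B) ∧ Function.Injective ψ.mulVecLin ∧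
          LinearMap.range ψ.mulVecLin = LinearMap.ker (Fintype.linearCombination B (sMinor ψ)) := by
  obtain ⟨c, hc⟩ := IsLocalization.exist_integer_multiples_of_finite p.primeCompl
    (fun x : Fin (r + 1) × Fin r => φ x.1 x.2)
  choose φ₀ hφ₀ using hc
  let Φ : Matrix (Fin (r + 1)) (Fin r) A := fun i j => φ₀ (i, j)
  let u := algebraMap A Ap c
  have hu : IsUnit u := IsLocalization.map_units Ap c
  have hΦ : Φ.map (algebraMap A Ap) = u • φ := by
    ext i j
    exact (hφ₀ (i, j)).trans (Algebra.smul_def _ _)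
  have hminor : (fun i => algebraMap A Ap (sMinor Φ i)) = fun i => u ^ r * sMinor φ i := funext fun i => by
    rw [map_sMinor, hΦ, sMinor_smul]
  let f : Fin (r + 1) → A := sMinor Φ
  -- the three facts over `A`
  have hK : ∀ v ∈ LinearMap.ker Φ.mulVecLin, ∃ s ∈ p.primeCompl, s • v ∈ (⊥ : Submodule A (Fin r → A)) := by
    intro v hv
    obtain ⟨t, ht, ht0⟩ := exists_eq_zero (B := Ap) p.primeCompl v fun i => by
      have h1 : (Φ.map (algebraMap A Ap)).mulVecLin (fun j => algebraMap A Ap (v j)) = 0 := funext fun i => by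
        rw [map_mulVec', show Φ.mulVecLin v = 0 from hv, Pi.zero_apply, map_zero, Pi.zero_apply]
      rw [hΦ, Matrix.mulVecLin_apply, Matrix.smul_mulVec, hu.smul_eq_zero, ← Matrix.mulVecLin_apply,
        map_eq_zero_iff _ hinj] at h1
      exact congrFun h1 i
    exact ⟨t, ht, ht0⟩
  have hE : ∀ v ∈ LinearMap.ker (Fintype.linearCombination A f),
      ∃ s ∈ p.primeCompl, s • v ∈ LinearMap.range Φ.mulVecLin := by
    intro v hv
    have h1 : (fun j => algebraMap A Ap (v j)) ∈ LinearMap.ker (Fintype.linearCombination Ap (sMinor φ)) := by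
      have h2 := map_lc (B := Ap) f v
      rw [show Fintype.linearCombination A f v = 0 from hv, map_zero] at h2
      rw [LinearMap.mem_ker]
      rw [show (fun i => algebraMap A Ap (f i)) = u ^ r • sMinor φ from hminor] at h2
      rw [Fintype.linearCombination_apply] at h2 ⊢
      simp only [Pi.smul_apply, smul_eq_mul, mul_left_comm _ (u ^ r), ← Finset.mul_sum] at h2
      exact (hu.pow r).mul_right_eq_zero.1 h2
    rw [← hex] at h1
    obtain ⟨w, hw⟩ := h1
    obtain ⟨t, w₀, hw₀⟩ := exists_num p.primeCompl w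
    obtain ⟨s, hs, hs0⟩ := exists_eq_zero (B := Ap) p.primeCompl
      ((t : A) • (c : A) • v - Φ.mulVecLin w₀) fun i => by
      rw [Pi.sub_apply, Pi.smul_apply, Pi.smul_apply, map_sub, smul_eq_mul, smul_eq_mul, map_mul, map_mul,
        ← map_mulVec' (B := Ap), hΦ,
        show (fun j => algebraMap A Ap (w₀ j)) = algebraMap A Ap t • w from funext hw₀,
        map_smul, Matrix.mulVecLin_apply, Matrix.smul_mulVec, ← Matrix.mulVecLin_apply, hw]
      simp only [u, Pi.smul_apply, smul_eq_mul]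
      ring_nf
    rw [smul_sub, sub_eq_zero] at hs0
    exact ⟨s * (t * c), mul_mem hs (mul_mem t.2 c.2),
      ⟨s • w₀, by rw [map_smul, ← hs0, mul_smul, mul_smul]⟩⟩
  have hspan : (Ideal.span (Set.range f)).map (algebraMap A Ap) = I.map (algebraMap A Ap) := by
    rw [Ideal.map_span, ← Set.range_comp, ← hI]
    show Ideal.span (Set.range fun i => algebraMap A Ap (sMinor Φ i)) = _
    rw [hminor]
    refine le_antisymm (Ideal.span_le.2 ?_) (Ideal.span_le.2 ?_)
    · rintro _ ⟨i, rfl⟩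
      exact Ideal.mul_mem_left _ _ (Ideal.subset_span ⟨i, rfl⟩)
    · rintro _ ⟨i, rfl⟩
      exact (Ideal.unit_mul_mem_iff_mem _ (hu.pow r)).1 (Ideal.subset_span ⟨i, rfl⟩)
  have hle : ∀ P Q : Ideal A, P.map (algebraMap A Ap) ≤ Q.map (algebraMap A Ap) →
      ∀ x ∈ P, ∃ s ∈ p.primeCompl, s • x ∈ Q := fun P Q hPQ x hx =>
    (IsLocalization.algebraMap_mem_map_algebraMap_iff p.primeCompl Ap Q x).1 (hPQ (Ideal.mem_map_of_mem _ hx))
  obtain ⟨h₁, hh₁, H₁⟩ := exists_smul_mem _ _ _ (IsNoetherian.noetherian _) hK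
  obtain ⟨h₂, hh₂, H₂⟩ := exists_smul_mem _ _ _ (IsNoetherian.noetherian _) hE
  obtain ⟨h₃, hh₃, H₃⟩ := exists_smul_mem _ _ _ (IsNoetherian.noetherian _) (hle _ _ hspan.le)
  obtain ⟨h₄, hh₄, H₄⟩ := exists_smul_mem _ _ _ (IsNoetherian.noetherian _) (hle _ _ hspan.ge)
  refine ⟨h₁ * h₂ * (h₃ * h₄), mul_mem (mul_mem hh₁ hh₂) (mul_mem hh₃ hh₄), fun B _ _ _ => ?_⟩
  have hunit : IsUnit (algebraMap A B (h₁ * h₂ * (h₃ * h₄))) :=
    IsLocalization.Away.algebraMap_isUnit _
  simp only [map_mul, IsUnit.mul_iff] at hunit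
  obtain ⟨⟨u₁, u₂⟩, u₃, u₄⟩ := hunit
  let S := Submonoid.powers (h₁ * h₂ * (h₃ * h₄))
  have hf : (fun i => algebraMap A B (f i)) = sMinor (Φ.map (algebraMap A B)) :=
    funext fun i => map_sMinor _ _ _
  refine ⟨Φ.map (algebraMap A B), ?_, ?_, le_antisymm ?_ ?_⟩
  · rw [← hf]
    have : Set.range (fun i => algebraMap A B (f i)) = algebraMap A B '' Set.range f := (Set.range_comp _ _).symm ▸ rfl
    rw [this, ← Ideal.map_span]
    refine le_antisymm (Ideal.map_le_iff_le_comap.2 fun x hx => ?_) (Ideal.map_le_iff_le_comap.2 fun x hx => ?_)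
    · rw [Ideal.mem_comap]
      refine (Ideal.unit_mul_mem_iff_mem _ u₃).1 ?_
      rw [← map_mul]
      exact Ideal.mem_map_of_mem _ (H₃ x hx)
    · rw [Ideal.mem_comap]
      refine (Ideal.unit_mul_mem_iff_mem _ u₄).1 ?_
      rw [← map_mul]
      exact Ideal.mem_map_of_mem _ (H₄ x hx)
  · rw [injective_iff_map_eq_zero]
    intro v hv
    obtain ⟨t, v₀, hv₀⟩ := exists_num S v
    obtain ⟨s, hs, hs0⟩ := exists_eq_zero (B := B) S (Φ.mulVecLin v₀) fun i => by
      rw [← map_mulVec' (B := B),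
        show (fun j => algebraMap A B (v₀ j)) = algebraMap A B t • v from funext hv₀, map_smul, hv, smul_zero,
        Pi.zero_apply]
    have h0 := (Submodule.mem_bot A).1 (H₁ (s • v₀) (by rw [LinearMap.mem_ker, map_smul, hs0]))
    funext i
    have h1 := congrArg (algebraMap A B) (congrFun h0 i)
    rw [Pi.smul_apply, Pi.smul_apply, smul_eq_mul, smul_eq_mul, map_mul, map_mul, Pi.zero_apply, map_zero,
      hv₀, u₁.mul_right_eq_zero, (IsLocalization.map_units B (⟨s, hs⟩ : S)).mul_right_eq_zero,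
      (IsLocalization.map_units B t).mul_right_eq_zero] at h1
    exact h1
  · rintro _ ⟨w, rfl⟩
    exact LinearMap.congr_fun (linearCombination_comp_mulVecLin (Φ.map (algebraMap A B))) w
  · intro v hv
    obtain ⟨t, v₀, hv₀⟩ := exists_num S v
    have h0 : algebraMap A B (Fintype.linearCombination A f v₀) = 0 := by
      rw [← map_lc, hf, show (fun j => algebraMap A B (v₀ j)) = algebraMap A B t • v from funext hv₀, map_smul,
        show Fintype.linearCombination B (sMinor (Φ.map (algebraMap A B))) v = 0 from hv, smul_zero]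
    obtain ⟨⟨s, hs⟩, hs0⟩ := (IsLocalization.map_eq_zero_iff S B _).1 h0
    obtain ⟨w₀, hw₀⟩ := H₂ (s • v₀) (by rw [LinearMap.mem_ker, map_smul, smul_eq_mul]; exact hs0)
    obtain ⟨a, ha⟩ := (u₂.mul ((IsLocalization.map_units B (⟨s, hs⟩ : S)).mul (IsLocalization.map_units B t))).exists_left_inv
    refine ⟨a • fun j => algebraMap A B (w₀ j), ?_⟩
    rw [map_smul]
    funext i
    rw [Pi.smul_apply, map_mulVec', hw₀, Pi.smul_apply, Pi.smul_apply, smul_eq_mul, smul_eq_mul, smul_eq_mul,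
      map_mul, map_mul, hv₀]
    calc _ = a * (algebraMap A B h₂ * (algebraMap A B s * algebraMap A B t)) * v i := by ring
      _ = v i := by rw [ha, one_mul]

end Algebra

section Stalk

variable {X Y : Scheme.{u}} (ι : Y ⟶ X) [IsClosedImmersion ι]

/-- The kernel on stalks of a closed immersion. -/
theorem ker_stalkMap (U : X.affineOpens) (y : Y) (hy : ι y ∈ (U : X.Opens)) :
    RingHom.ker (ι.stalkMap y).hom = (ι.ker.ideal U).map (X.presheaf.germ U.1 _ hy).hom := by
  let p := (U.2.primeIdealOf ⟨ι y, hy⟩).asIdeal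
  let _ := X.presheaf.algebra_section_stalk (⟨ι y, hy⟩ : U.1)
  have : IsLocalization.AtPrime (X.presheaf.stalk (ι y)) p := U.2.isLocalization_stalk ⟨ι y, hy⟩
  have key : ∀ b : Γ(X, U.1), ι.stalkMap y (X.presheaf.germ U.1 _ hy b) =
      Y.presheaf.germ (ι ⁻¹ᵁ U.1) y hy (ι.app U.1 b) := fun b =>
    Scheme.Hom.germ_stalkMap_apply ι U.1 y hy b
  have hker : ∀ b, b ∈ ι.ker.ideal U ↔ ι.app U.1 b = 0 := fun b => by
    rw [Scheme.Hom.ker_apply]; rfl
  refine le_antisymm (fun s hs => ?_) (Ideal.map_le_iff_le_comap.2 fun b hb => ?_)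
  · obtain ⟨⟨b, c⟩, hbc⟩ := IsLocalization.surj p.primeCompl s
    have hb : Y.presheaf.germ (ι ⁻¹ᵁ U.1) y hy (ι.app U.1 b) = 0 := by
      rw [← key]
      show (ι.stalkMap y).hom (algebraMap Γ(X, U.1) _ b) = 0
      rw [← hbc, map_mul, RingHom.mem_ker.1 hs, zero_mul]
    have hV : IsAffineOpen (ι ⁻¹ᵁ U.1) := U.2.preimage _
    let q := (hV.primeIdealOf ⟨y, hy⟩).asIdeal
    let _ := Y.presheaf.algebra_section_stalk (⟨y, hy⟩ : (ι ⁻¹ᵁ U.1 : Y.Opens))
    have : IsLocalization.AtPrime (Y.presheaf.stalk y) q := hV.isLocalization_stalk ⟨y, hy⟩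
    obtain ⟨⟨c', hc'⟩, h0⟩ := (IsLocalization.map_eq_zero_iff q.primeCompl (Y.presheaf.stalk y)
      (ι.app U.1 b)).1 hb
    obtain ⟨e, rfl⟩ := ι.app_surjective U.1 U.2 c'
    have he : IsUnit (algebraMap Γ(X, U.1) (X.presheaf.stalk (ι y)) e) := by
      refine isUnit_of_map_unit (ι.stalkMap y).hom _ ?_
      show IsUnit (ι.stalkMap y (X.presheaf.germ U.1 _ hy e))
      rw [key]
      exact IsLocalization.map_units (Y.presheaf.stalk y) (⟨_, hc'⟩ : q.primeCompl)
    have hmem : e * b ∈ ι.ker.ideal U := (hker _).2 (by rw [map_mul]; exact h0)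
    have h1 := Ideal.mem_map_of_mem (algebraMap Γ(X, U.1) (X.presheaf.stalk (ι y))) hmem
    rw [map_mul, Ideal.unit_mul_mem_iff_mem _ he, ← hbc,
      Ideal.mul_unit_mem_iff_mem _ (IsLocalization.map_units (X.presheaf.stalk (ι y)) c)] at h1
    exact h1
  · rw [Ideal.mem_comap, RingHom.mem_ker]
    show ι.stalkMap y (X.presheaf.germ U.1 _ hy b) = 0
    rw [key, (hker b).1 hb, map_zero]

end Stalk

end Groth.Agent.DeformNL.HBSpread
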