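import Groth.Agent.Hartogs.Basic
import Groth.Agent.FlatLoc6.Depth
import Groth.Agent.ParaFX.Ufd
import Groth.Prelude.Def_Pi1

/-!
# Depth two for flat families with normal fibre
-/

universe u

open AlgebraicGeometry CategoryTheory IsLocalRing

namespace Groth.Agent.DeformNL

theorem two_le_depth_of_flat_normal_fibre (C : Type u) [CommRing C] [IsLocalRing C] [IsArtinianRing C]
    (A : Type u) [CommRing A] [IsNoetherianRing A] [Algebra C A] [Module.Flat C A]
    (hnorm : Pi1.IsNormalScheme (Spec (CommRingCat.of (A ⧸ (maximalIdeal C).map (algebraMap C A)))))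
    (p : Ideal A) [p.IsPrime] (hp : (2 : ℕ∞) ≤ p.height) :
    (2 : ℕ∞) ≤ LocCoh.depth (Localization.AtPrime p) (Localization.AtPrime p) := by
  let I := (maximalIdeal C).map (algebraMap C A)
  have hIp : I ≤ p := by
    rw [Ideal.map_le_iff_le_comap]
    intro c hc
    obtain ⟨n, hn⟩ := IsArtinianRing.isNilpotent_jacobson_bot (R := C)
    have hc' : c ∈ Ideal.jacobson (⊥ : Ideal C) := by rwa [jacobson_eq_maximalIdeal ⊥ bot_ne_top]
    have : c ^ n = 0 := by
      have := Ideal.pow_mem_pow hc' n
      rwa [hn] at this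
    refine Ideal.IsPrime.mem_of_pow_mem ‹p.IsPrime› n ?_
    rw [← map_pow, this, map_zero]
    exact zero_mem _
  let q : Ideal (A ⧸ I) := p.map (Ideal.Quotient.mk I)
  have hq : q.IsPrime :=
    Ideal.map_isPrime_of_surjective Ideal.Quotient.mk_surjective (by rwa [Ideal.mk_ker])
  have hqc : q.comap (Ideal.Quotient.mk I) = p := by
    rw [Ideal.comap_map_of_surjective _ Ideal.Quotient.mk_surjective, ← RingHom.ker_eq_comap_bot,
      Ideal.mk_ker, sup_eq_left.mpr hIp]
  have hT : p.primeCompl.map (Ideal.Quotient.mk I) = q.primeCompl := by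
    ext y
    refine ⟨?_, fun hy => ?_⟩
    · rintro ⟨x, hx, rfl⟩ hmem
      exact hx (hqc.le hmem)
    · obtain ⟨x, rfl⟩ := Ideal.Quotient.mk_surjective y
      exact ⟨x, fun hx => hy (Ideal.mem_map_of_mem _ hx), rfl⟩
  let B := Localization.AtPrime p
  let φ : B →+* Localization.AtPrime q :=
    IsLocalization.map _ (Ideal.Quotient.mk I) (hT.symm ▸ p.primeCompl.le_comap_map)
  have hker : RingHom.ker φ = EGA4.mB C B := by
    show RingHom.ker (IsLocalization.map _ _ _) = _
    rw [IsLocalization.ker_map (Q := Localization.AtPrime q) (g := Ideal.Quotient.mk I) hT, Ideal.mk_ker, Ideal.map_map,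
      ← IsScalarTower.algebraMap_eq]
  have hsurj : Function.Surjective φ := by
    intro z
    obtain ⟨⟨y, t⟩, hz⟩ := IsLocalization.surj q.primeCompl z
    obtain ⟨x, rfl⟩ := Ideal.Quotient.mk_surjective y
    obtain ⟨s, hs, hst⟩ : (t : A ⧸ I) ∈ p.primeCompl.map (Ideal.Quotient.mk I) := hT.ge t.2
    refine ⟨IsLocalization.mk' B x (⟨s, hs⟩ : p.primeCompl), ?_⟩
    rw [IsLocalization.map_mk', IsLocalization.mk'_eq_iff_eq_mul]
    simpa [hst] using hz.symm
  let e : EGA4.FibRing C B ≃+* Localization.AtPrime q :=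
    (Ideal.quotEquivOfEq hker.symm).trans (RingHom.quotientKerEquivOfSurjective hsurj)
  let x : Spec (CommRingCat.of (A ⧸ I)) := (⟨q, hq⟩ : PrimeSpectrum (A ⧸ I))
  obtain ⟨hdom, hic⟩ := hnorm x
  let es : (Spec (CommRingCat.of (A ⧸ I))).presheaf.stalk x ≃+* Localization.AtPrime q :=
    (Spec.stalkIso (CommRingCat.of (A ⧸ I)) x).commRingCatIsoToRingEquiv
  haveI := hdom
  haveI := hic
  haveI : IsDomain (Localization.AtPrime q) := es.symm.injective.isDomain es.symm.toRingHom
  haveI : IsIntegrallyClosed (Localization.AtPrime q) := IsIntegrallyClosed.of_equiv es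
  haveI : IsNoetherianRing (Localization.AtPrime q) := IsLocalization.isNoetherianRing q.primeCompl _ inferInstance
  haveI : IsLocalHom (algebraMap C B) := ⟨fun c hc => by
    by_contra hcu
    have h1 : algebraMap A B (algebraMap C A c) ∈ maximalIdeal B :=
      (IsLocalization.AtPrime.to_map_mem_maximal_iff B p _).mpr
        (hIp (Ideal.mem_map_of_mem _ ((mem_maximalIdeal c).mpr hcu)))
    rw [← IsScalarTower.algebraMap_apply] at h1
    exact h1 hc⟩
  haveI : IsNoetherianRing B := IsLocalization.isNoetherianRing p.primeCompl _ inferInstance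
  haveI : Module.Flat A B := IsLocalization.flat B p.primeCompl
  haveI : Module.Flat C B := Module.Flat.trans C A B
  haveI : Nontrivial (EGA4.FibRing C B) := e.toEquiv.nontrivial
  haveI : IsLocalRing (EGA4.FibRing C B) := .of_surjective' _ Ideal.Quotient.mk_surjective
  have hdim : (2 : WithBot ℕ∞) ≤ ringKrullDim (Localization.AtPrime q) := by
    have h1 : ringKrullDim B = ringKrullDim (EGA4.FibRing C B) := by
      rw [ringKrullDim_quotient, (PrimeSpectrum.zeroLocus_eq_univ_iff _).mpr, Order.krullDim_eq_of_orderIso OrderIso.Set.univ]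
      · rfl
      show EGA4.mB C B ≤ nilradical B
      rw [EGA4.mB, Ideal.map_le_iff_le_comap]
      intro c hc
      obtain ⟨n, hn⟩ := IsArtinianRing.isNilpotent_jacobson_bot (R := C)
      refine ⟨n, ?_⟩
      have hc' : c ∈ Ideal.jacobson (⊥ : Ideal C) := by rwa [jacobson_eq_maximalIdeal ⊥ bot_ne_top]
      have := Ideal.pow_mem_pow hc' n
      rw [hn, Ideal.zero_eq_bot, Ideal.mem_bot] at this
      rw [← map_pow, this, map_zero]
      exact zero_mem _
    rw [← ringKrullDim_eq_of_ringEquiv e, ← h1, IsLocalization.AtPrime.ringKrullDim_eq_height p]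
    exact WithBot.coe_le_coe.mpr hp
  have hd := ParaFX.two_le_depth_of_normal (Localization.AtPrime q) hdim
  have h := FlatLoc6.depth_tensor (A := C) (B := B) (N := B) C
  have hl : LocCoh.depth B (TensorProduct C B C) = LocCoh.depth B B :=
    Alg6.depth_eq_of_semilinear (RingHom.id B) Function.surjective_id
      (TensorProduct.AlgebraTensorModule.rid C B B).toAddEquiv fun r x =>
        (TensorProduct.AlgebraTensorModule.rid C B B).map_smul r x
  have hr : LocCoh.depth (EGA4.FibRing C B) (EGA4.FibMod C B B) =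
      LocCoh.depth (Localization.AtPrime q) (Localization.AtPrime q) := by
    refine Alg6.depth_eq_of_semilinear e.toRingHom e.surjective
      (((Submodule.quotEquivOfEq _ _ (show EGA4.mB C B • (⊤ : Submodule B B) = EGA4.mB C B by simp)).toAddEquiv).trans e.toAddEquiv) fun r x => ?_
    obtain ⟨r, rfl⟩ := Ideal.Quotient.mk_surjective r
    obtain ⟨x, rfl⟩ := Submodule.Quotient.mk_surjective _ x
    exact (congrArg e (show _ = Ideal.Quotient.mk (EGA4.mB C B) r * Ideal.Quotient.mk (EGA4.mB C B) x from rfl)).trans (map_mul e _ _)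
  rw [hl, hr] at h
  exact h ▸ le_trans hd le_add_self

end Groth.Agent.DeformNL
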