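import Groth.Agent.LC.PdRegular
import Groth.Agent.CAlgOdd.AuslanderBuchsbaum
import Groth.Agent.McCoy.HilbertBurch
import Groth.Agent.S12907
import Groth.Agent.S12908

/-!
# Hilbert–Burch for Cohen–Macaulay quotients of codimension two
-/

universe u

open IsLocalRing Groth.Agent.RegLoc6

namespace Groth.Agent.DeformNL

theorem exists_hilbertBurch (A : Type u) [CommRing A] [IsRegularLocalRing A] (I : Ideal A)
    [LocCoh.IsCohenMacaulayLocalRing (A ⧸ I)]
    (hcodim : ringKrullDim (A ⧸ I) + 2 = ringKrullDim A) :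
    ∃ (r : ℕ) (φ : Matrix (Fin (r + 1)) (Fin r) A),
      Ideal.span (Set.range (fun i : Fin (r + 1) => (-1 : A) ^ (i : ℕ) * (φ.submatrix i.succAbove id).det)) = I ∧
      I.spanFinrank = r + 1 ∧
      Function.Injective φ.mulVecLin ∧
      LinearMap.range φ.mulVecLin =
        LinearMap.ker (Fintype.linearCombination A (fun i : Fin (r + 1) => (-1 : A) ^ (i : ℕ) * (φ.submatrix i.succAbove id).det)) := by
  classical
  haveI : Nontrivial (A ⧸ I) := inferInstance
  have hIne : I ≠ ⊤ := Ideal.Quotient.nontrivial_iff.mp inferInstance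
  obtain ⟨d, hd⟩ : ∃ d : ℕ, ringKrullDim A = d :=
    ⟨_, IsRegularLocalRing.spanFinrank_maximalIdeal.symm⟩
  obtain ⟨c, hc⟩ : ∃ c : ℕ, LocCoh.depth (A ⧸ I) (A ⧸ I) = c :=
    LC.exists_depth_eq_nat (R := A ⧸ I) (A ⧸ I)
  have hdimq : ringKrullDim (A ⧸ I) = c := by
    rw [← Module.supportDim_self_eq_ringKrullDim, LocCoh.IsCohenMacaulayLocalRing.supportDim_eq_depth, hc]
    rfl
  have hcd : c + 2 = d := by
    rw [hdimq, hd] at hcodim
    exact_mod_cast hcodim
  have hdep : LocCoh.depth A (A ⧸ I) = c := by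
    rw [← hc]
    exact Alg6.depth_eq_of_semilinear (Ideal.Quotient.mk I) Ideal.Quotient.mk_surjective (AddEquiv.refl _)
      fun r x => rfl
  have hpd : PdLE A 2 (A ⧸ I) :=
    LC.pdLE_of_le_depth A d hd (A ⧸ I) 2 (by rw [hdep, ← hcd]; push_cast; rfl)
  have hpdI : PdLE A 1 (LinearMap.ker (I.mkQ)) :=
    (pdLE_succ_iff I.mkQ (Submodule.mkQ_surjective I)).mp hpd
  obtain ⟨s, hs, hsI⟩ := Submodule.FG.exists_span_finset_card_eq_spanFinrank (IsNoetherian.noetherian I)
  let gen : Fin s.card → A := fun i => (s.equivFin.symm i).1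
  have hgen : Set.range gen = (s : Set A) := by
    ext x
    exact ⟨fun ⟨i, hi⟩ => hi ▸ (s.equivFin.symm i).2, fun hx => ⟨s.equivFin ⟨x, hx⟩, by simp [gen]⟩⟩
  let π : (Fin s.card → A) →ₗ[A] A := Fintype.linearCombination A gen
  have hrange : LinearMap.range π = I := by
    rw [Fintype.range_linearCombination, hgen, hsI]
  let g : (Fin s.card → A) →ₗ[A] LinearMap.ker (I.mkQ) :=
    π.codRestrict _ fun x => by rw [Submodule.ker_mkQ]; exact hrange.le ⟨x, rfl⟩
  have hg : Function.Surjective g := fun y => by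
    obtain ⟨x, hx⟩ := hrange.ge ((Submodule.ker_mkQ I).le y.2)
    exact ⟨x, Subtype.ext hx⟩
  have hker : LinearMap.ker g = LinearMap.ker π := LinearMap.ker_codRestrict _ _ _
  haveI : Module.Projective A (LinearMap.ker g) := pdLE_zero_iff.mp ((pdLE_succ_iff g hg).mp hpdI)
  haveI : Module.Free A (LinearMap.ker g) := Module.free_of_flat_of_isLocalRing
  let b := Module.finBasis A (LinearMap.ker g)
  let m := Module.finrank A (LinearMap.ker g)
  let Ψ : Matrix (Fin s.card) (Fin m) A :=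
    LinearMap.toMatrix' ((LinearMap.ker g).subtype ∘ₗ b.equivFun.symm.toLinearMap)
  have hΨlin : Ψ.mulVecLin = (LinearMap.ker g).subtype ∘ₗ b.equivFun.symm.toLinearMap := by
    rw [← Matrix.toLin'_apply']; exact Matrix.toLin'_toMatrix' _
  have hIbot : I ≠ ⊥ := by
    rintro rfl
    have h : ringKrullDim (A ⧸ (⊥ : Ideal A)) = ringKrullDim A :=
      ringKrullDim_eq_of_ringEquiv (RingEquiv.quotientBot A)
    rw [hdimq, hd] at h
    have : c = d := by exact_mod_cast h
    omega
  obtain ⟨hn, ⟨a, ha, hIa⟩, hdepth⟩ := S12907.result m s.card Ψ π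
    (by rw [hΨlin]; exact LinearMap.ker_eq_bot.mpr (Subtype.val_injective.comp b.equivFun.symm.injective))
    (by rw [hΨlin, LinearMap.range_comp, LinearEquiv.range, Submodule.map_top, Submodule.range_subtype, hker])
    (by rwa [hrange])
  rw [hrange] at hIa
  have haunit : IsUnit a := by
    by_contra hau
    have hle : I ≤ Ideal.span {a} := hIa.le.trans Ideal.mul_le_left
    have hle' : Ideal.span {a} ≤ Ring.jacobson A := by
      rw [IsLocalRing.ringJacobson_eq_maximalIdeal, Ideal.span_singleton_le_iff_mem]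
      exact (mem_maximalIdeal a).mpr hau
    have h1 := ringKrullDim_le_ringKrullDim_quotient_add_spanFinrank (Ideal.span {a}) hle'
    have h2 : ringKrullDim (A ⧸ Ideal.span {a}) ≤ ringKrullDim (A ⧸ I) :=
      ringKrullDim_le_of_surjective _ (Ideal.Quotient.factor_surjective hle)
    have h3 : (Ideal.span {a}).spanFinrank ≤ 1 :=
      (Submodule.spanFinrank_span_le_ncard_of_finite (Set.finite_singleton a)).trans (Set.ncard_singleton a).le
    have h4 : ringKrullDim A ≤ ringKrullDim (A ⧸ I) + (1 : ℕ) :=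
      h1.trans (add_le_add h2 (by exact_mod_cast h3))
    rw [hdimq, hd] at h4
    have : d ≤ c + 1 := by exact_mod_cast h4
    omega
  rw [Ideal.span_singleton_eq_top.mpr haunit, Ideal.top_mul] at hIa
  let φ : Matrix (Fin (m + 1)) (Fin m) A := Ψ.submatrix (finCongr hn.symm) id
  have hφminor : CAlgX.minorIdeal φ m = I := by
    rw [hIa, CAlgX.minorIdeal, CAlgX.minorIdeal]
    refine le_antisymm (Ideal.span_mono ?_) (Ideal.span_mono ?_)
    · rintro _ ⟨⟨f, g'⟩, rfl⟩
      exact ⟨⟨finCongr hn.symm ∘ f, g'⟩, rfl⟩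
    · rintro _ ⟨⟨f, g'⟩, rfl⟩
      refine ⟨⟨finCongr hn ∘ f, g'⟩, ?_⟩
      simp [φ, Function.comp_def]
  obtain ⟨e1, e2, -⟩ := S12908.result m φ (by rw [hφminor, hIa]; exact hdepth) 1 (one_mem _)
  refine ⟨m, φ, ?_, ?_, LinearMap.ker_eq_bot.mp e1, ?_⟩
  · exact (McCoy.minorIdeal_eq_span_delta φ).symm.trans hφminor
  · rw [← hn]; exact hs.symm
  · rw [← e2]; simp only [one_mul]

end Groth.Agent.DeformNL
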