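import Groth.Agent.DeformNL.MinorsLift
import Groth.Agent.DeformNL.Hartogs
import Groth.Agent.McCoy.HilbertBurch
import Groth.Agent.LC.DepthLoc
import Groth.Agent.CotTLib.SmoothField
import Groth.Agent.RegLoc6.Basic
import Groth.Agent.RegUFD.Basic

/-!
# Lifting Hilbert–Burch matrices in codimension two
-/

universe u

open scoped TensorProduct Matrix
open AlgebraicGeometry IsLocalRing

namespace Groth.Agent.DeformNL

section dual

variable {R : Type u} [CommRing R] {t : ℕ} (Ψ : Matrix (Fin (t + 1)) (Fin t) R)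

theorem delta_eq_sMinor : McCoy.delta Ψ = sMinor Ψ := rfl

/-- A row vector killing all columns is, up to the minors, proportional to the minors. -/
theorem delta_mul_cross_eq_zero (h : Fin (t + 1) → R) (hh : ∀ j, ∑ i, h i * Ψ i j = 0)
    (l i : Fin (t + 1)) :
    McCoy.delta Ψ l * (McCoy.delta Ψ l * h i - h l * McCoy.delta Ψ i) = 0 := by
  let v : Fin (t + 1) → R := fun i => McCoy.delta Ψ l * h i - h l * McCoy.delta Ψ i
  let M := Ψ.submatrix l.succAbove id
  have hv : ∀ j, ∑ i, v i * Ψ i j = 0 := fun j => by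
    simp only [v, sub_mul, mul_assoc, Finset.sum_sub_distrib, ← Finset.mul_sum, hh j, mul_zero,
      zero_sub, neg_eq_zero]
    rw [show ∑ i, McCoy.delta Ψ i * Ψ i j = 0 from S12906.result t Ψ j, mul_zero]
  have hl : v l = 0 := by simp [v, mul_comm]
  have hM : (v ∘ l.succAbove) ᵥ* M = 0 := funext fun j => by
    have := hv j
    rw [Fin.sum_univ_succAbove _ l, hl, zero_mul, zero_add] at this
    exact this
  have h2 : M.det • (v ∘ l.succAbove) = 0 := by
    have := congrArg (fun w => w ᵥ* M.adjugate) hM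
    simpa [Matrix.vecMul_vecMul, Matrix.mul_adjugate, Matrix.vecMul_smul, Matrix.zero_vecMul] using this
  show McCoy.delta Ψ l * v i = 0
  induction i using Fin.succAboveCases l with
  | x => rw [hl, mul_zero]
  | p j => rw [McCoy.delta, mul_assoc, show M.det * v (l.succAbove j) = 0 from congrFun h2 j, mul_zero]

/-- Dual exactness: if the minors contain a regular pair, only multiples of the minors kill the columns. -/
theorem exists_eq_smul_delta (hR : McCoy.HasRegularPair (CAlgX.minorIdeal Ψ t)) (h : Fin (t + 1) → R)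
    (hh : ∀ j, ∑ i, h i * Ψ i j = 0) : ∃ c : R, ∀ i, h i = c * McCoy.delta Ψ i := by
  have hann := McCoy.annihilator_eq_bot_of_hasRegularPair hR
  have kill : ∀ a : R, (∀ l, McCoy.delta Ψ l * a = 0) → a = 0 := fun a ha => by
    rw [← Ideal.mem_bot, ← hann, McCoy.minorIdeal_eq_span_delta, Submodule.mem_annihilator_span]
    rintro ⟨_, l, rfl⟩
    rw [smul_eq_mul, mul_comm]
    exact ha l
  have kill_sq : ∀ a : R, (∀ l, McCoy.delta Ψ l ^ 2 * a = 0) → a = 0 := fun a ha => by
    have hrad : CAlgX.minorIdeal Ψ t ≤ (Submodule.annihilator (Ideal.span {a})).radical := by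
      rw [McCoy.minorIdeal_eq_span_delta, Ideal.span_le]
      rintro _ ⟨l, rfl⟩
      exact ⟨2, (Submodule.mem_annihilator_span_singleton a _).2 (ha l)⟩
    rcases hR with htop | ⟨x, hxI, -, -, hx, -⟩
    · obtain ⟨N, hN⟩ := hrad (htop ▸ Submodule.mem_top : (1 : R) ∈ _)
      simpa using (Submodule.mem_annihilator_span_singleton a _).1 hN
    · obtain ⟨N, hN⟩ := hrad hxI
      exact (mem_nonZeroDivisors_iff.1 (pow_mem hx N)).1 a
        ((Submodule.mem_annihilator_span_singleton a _).1 hN)
  have hD : ∀ i k, McCoy.delta Ψ k * h i = h k * McCoy.delta Ψ i := fun i k => sub_eq_zero.1 <|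
    kill_sq _ fun l => by
      linear_combination McCoy.delta Ψ k * delta_mul_cross_eq_zero Ψ h hh l i -
        McCoy.delta Ψ i * delta_mul_cross_eq_zero Ψ h hh l k
  have hz : ∀ z ∈ CAlgX.minorIdeal Ψ t, ∃ p, ∀ i, z * h i = p * McCoy.delta Ψ i := fun z hz => by
    rw [McCoy.minorIdeal_eq_span_delta] at hz
    obtain ⟨c, rfl⟩ := Ideal.mem_span_range_iff_exists_fun.1 hz
    refine ⟨∑ k, c k * h k, fun i => ?_⟩
    rw [Finset.sum_mul, Finset.sum_mul]
    exact Finset.sum_congr rfl fun k _ => by rw [mul_assoc, hD i k, mul_assoc]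
  rcases hR with htop | ⟨x, hxI, y, hyI, hx, hy⟩
  · obtain ⟨p, hp⟩ := hz 1 (htop ▸ Submodule.mem_top)
    exact ⟨p, fun i => by simpa using hp i⟩
  obtain ⟨p, hp⟩ := hz x hxI
  obtain ⟨q, hq⟩ := hz y hyI
  have hpq : y * p = x * q := sub_eq_zero.1 <| kill _ fun l => by
    linear_combination x * hq l - y * hp l
  obtain ⟨c, rfl⟩ := hy p ⟨q, hpq⟩
  exact ⟨c, fun i => (mul_cancel_left_mem_nonZeroDivisors hx).1 (by rw [hp, mul_assoc])⟩

end dual

/-- Nakayama for a nilpotent ideal. -/
theorem le_of_le_sup_mul {R : Type u} [CommRing R] {K S I : Ideal R} {n : ℕ} (hn : K ^ n = ⊥)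
    (h : I ≤ S ⊔ K * I) : I ≤ S := by
  have h2 : ∀ k : ℕ, I ≤ S ⊔ K ^ k * I := fun k => by
    induction k with
    | zero => simp
    | succ k ih =>
      refine h.trans (sup_le le_sup_left ((Ideal.mul_mono_right ih).trans ?_))
      rw [Ideal.mul_sup, ← mul_assoc, ← pow_succ']
      exact sup_le (le_sup_of_le_left (Ideal.mul_le.2 fun a _ b hb => S.mul_mem_left a hb)) le_sup_right
  simpa [hn] using h2 n

section

variable (C : Type u) [CommRing C] [IsLocalRing C] [IsArtinianRing C]
variable (A : Type u) [CommRing A] [Algebra C A]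

theorem map_isNilpotent (J : Ideal C) (hJ : J ≠ ⊤) : ∃ n : ℕ, (J.map (algebraMap C A)) ^ n = ⊥ := by
  obtain ⟨n, hn⟩ := IsArtinianRing.isNilpotent_jacobson_bot (R := C)
  refine ⟨n, le_bot_iff.1 ?_⟩
  rw [← Ideal.map_pow]
  refine (Ideal.map_mono ((Ideal.pow_right_mono (IsLocalRing.le_maximalIdeal hJ) n).trans ?_)).trans
    (Ideal.map_bot.le)
  rw [← jacobson_eq_maximalIdeal ⊥ bot_ne_top, hn]
  rfl

theorem map_le_prime (J : Ideal C) (hJ : J ≠ ⊤) (p : Ideal A) [p.IsPrime] :
    J.map (algebraMap C A) ≤ p := by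
  obtain ⟨n, hn⟩ := map_isNilpotent C A J hJ
  intro x hx
  refine Ideal.IsPrime.mem_of_pow_mem ‹p.IsPrime› n ?_
  have := Ideal.pow_mem_pow hx n
  rw [hn, Ideal.mem_bot] at this
  rw [this]; exact zero_mem _

omit [IsLocalRing C] [IsArtinianRing C] in
/-- The spectrum of a smooth algebra over a field is normal. -/
theorem isNormalScheme_of_smooth (k : Type u) [Field k] (B : Type u) [CommRing B] [Algebra k B]
    [Algebra.Smooth k B] : Pi1.IsNormalScheme (Spec (CommRingCat.of B)) := by
  intro x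
  change PrimeSpectrum B at x
  haveI : Algebra.IsSmoothAt k x.asIdeal := Algebra.FormallySmooth.comp k B _
  haveI := CotTLib.isRegularLocalRing_of_isSmoothAt (k := k) x.asIdeal
  obtain ⟨hd, hu⟩ := RegUFD.ufd (Localization.AtPrime x.asIdeal)
  haveI := hd
  haveI := hu
  let es := (Spec.stalkIso (CommRingCat.of B) x).commRingCatIsoToRingEquiv
  haveI : IsDomain ((Spec (CommRingCat.of B)).presheaf.stalk x) := es.injective.isDomain es.toRingHom
  exact ⟨inferInstance, IsIntegrallyClosed.of_equiv es.symm⟩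

/-- In a flat family with smooth fibre, ideals of height `≥ 2` contain regular pairs. -/
theorem hasRegularPair_of_height [Module.Flat C A] [Algebra.FiniteType C A]
    [Algebra.Smooth (C ⧸ maximalIdeal C) (A ⧸ (maximalIdeal C).map (algebraMap C A))]
    (K : Ideal A) (hK : ∀ p : Ideal A, p.IsPrime → K ≤ p → (2 : ℕ∞) ≤ p.height) :
    McCoy.HasRegularPair K := by
  haveI : IsNoetherianRing A := Algebra.FiniteType.isNoetherianRing C A
  letI := Ideal.Quotient.field (maximalIdeal C)
  have hnorm := isNormalScheme_of_smooth (C ⧸ maximalIdeal C)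
    (A ⧸ (maximalIdeal C).map (algebraMap C A))
  refine McCoy.hasRegularPair_of_idealDepth ?_
  rw [LC.idealDepth_eq_iInf_depth]
  exact le_iInf₂ fun p hp => two_le_depth_of_flat_normal_fibre C A hnorm p.asIdeal (hK _ p.2 hp)

theorem height_quotient_eq (J : Ideal C) (hJ : J ≠ ⊤) (p : Ideal (A ⧸ J.map (algebraMap C A)))
    [p.IsPrime] : (p.comap (Ideal.Quotient.mk (J.map (algebraMap C A)))).height = p.height := by
  let K := J.map (algebraMap C A)
  let e : PrimeSpectrum (A ⧸ K) ≃o PrimeSpectrum A :=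
    K.primeSpectrumQuotientOrderIsoZeroLocus.trans
      ((OrderIso.setCongr _ _ (Set.eq_univ_of_forall fun q : PrimeSpectrum A =>
        (PrimeSpectrum.mem_zeroLocus q _).2 (map_le_prime C A J hJ q.asIdeal))).trans OrderIso.Set.univ)
  let q : PrimeSpectrum (A ⧸ K) := ⟨p, inferInstance⟩
  show (e q).asIdeal.height = q.asIdeal.height
  rw [PrimeSpectrum.height_eq_orderHeight, PrimeSpectrum.height_eq_orderHeight, Order.height_orderIso]

/-- Flatness of the quotient: an ideal meets `JA` in `J` times itself. -/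
theorem mem_smul_of_mem_map (J : Ideal C) (I : Ideal A) [Module.Flat C (A ⧸ I)] {x : A} (hxI : x ∈ I)
    (hx : x ∈ J.map (algebraMap C A)) : x ∈ J • I.restrictScalars C := by
  let N := I.restrictScalars C
  let q : A →ₗ[C] A ⧸ I := (Ideal.Quotient.mkₐ C I).toLinearMap
  have hex : Function.Exact N.subtype q := fun y => by
    simp [q, N, Ideal.Quotient.eq_zero_iff_mem]
  have hx' : x ∈ J • (⊤ : Submodule C A) := by rw [Ideal.smul_top_eq_map]; exact hx
  rw [← ExactLift.range_mu] at hx'
  obtain ⟨z, rfl⟩ := hx'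
  have h0 : q.lTensor J z = 0 := ExactLift.mu_injective J _ (by
    rw [ExactLift.mu_natural, map_zero]
    exact Ideal.Quotient.eq_zero_iff_mem.2 hxI)
  obtain ⟨w, rfl⟩ := (lTensor_exact J hex Ideal.Quotient.mk_surjective z).1 h0
  rw [ExactLift.mu_natural]
  have hw : ExactLift.mu J N w ∈ J • (⊤ : Submodule C N) := ExactLift.range_mu J N ▸ ⟨w, rfl⟩
  have := Submodule.mem_map_of_mem (f := N.subtype) hw
  rwa [Submodule.map_smul'', Submodule.map_subtype_top] at this

variable {C A} {r : ℕ}

/-- A codimension two ideal with flat quotient lifting a determinantal ideal is determinantal,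
and the matrix can be chosen lifting the given one. -/
theorem exists_matrix_lift (J : Ideal C) (hJ : J ≠ ⊤) [Module.Flat C A] [Algebra.FiniteType C A]
    [Algebra.Smooth (C ⧸ maximalIdeal C) (A ⧸ (maximalIdeal C).map (algebraMap C A))]
    (φb : Matrix (Fin (r + 1)) (Fin r) (A ⧸ J.map (algebraMap C A)))
    (hcodim : ∀ p : Ideal (A ⧸ J.map (algebraMap C A)), p.IsPrime →
      Ideal.span (Set.range (sMinor φb)) ≤ p → (2 : ℕ∞) ≤ p.height)
    (I : Ideal A) [Module.Flat C (A ⧸ I)]
    (hI : I.map (Ideal.Quotient.mk (J.map (algebraMap C A))) = Ideal.span (Set.range (sMinor φb))) :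
    ∃ φ : Matrix (Fin (r + 1)) (Fin r) A, φ.map (Ideal.Quotient.mk (J.map (algebraMap C A))) = φb ∧
      I = Ideal.span (Set.range (sMinor φ)) ∧ McCoy.HasRegularPair (CAlgX.minorIdeal φ r) := by
  classical
  let K := J.map (algebraMap C A)
  let mk := Ideal.Quotient.mk K
  obtain ⟨n, hn⟩ := map_isNilpotent C A J hJ
  have hsurj : Function.Surjective mk := Ideal.Quotient.mk_surjective
  have hg : ∀ i, ∃ x ∈ I, mk x = sMinor φb i := fun i =>
    (Ideal.mem_map_iff_of_surjective _ hsurj).1 (hI ▸ Ideal.subset_span ⟨i, rfl⟩)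
  choose g hgI hg using hg
  have hle : ∀ {x : A}, x ∈ I → x ∈ K → x ∈ K * I := fun {x} hx hxK => by
    refine Submodule.smul_induction_on (mem_smul_of_mem_map C A J I hx hxK) (fun c hc y hy => ?_)
      fun a b ha hb => add_mem ha hb
    rw [Algebra.smul_def]
    exact Ideal.mul_mem_mul (Ideal.mem_map_of_mem _ hc) hy
  have hIg : I = Ideal.span (Set.range g) := by
    refine le_antisymm ?_ (Ideal.span_le.2 (Set.range_subset_iff.2 hgI))
    have h1 : I ≤ Ideal.span (Set.range g) ⊔ K * I := fun x hx => by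
      have : mk x ∈ (Ideal.span (Set.range g)).map mk := by
        rw [Ideal.map_span, ← Set.range_comp, show mk ∘ g = sMinor φb from funext hg, ← hI]
        exact Ideal.mem_map_of_mem _ hx
      obtain ⟨y, hy, hxy⟩ := (Ideal.mem_map_iff_of_surjective _ hsurj).1 this
      refine Submodule.mem_sup.2 ⟨y, hy, x - y, hle (sub_mem hx (Ideal.span_le.2
        (Set.range_subset_iff.2 hgI) hy)) (Ideal.Quotient.eq.1 hxy.symm), by ring⟩
    exact le_of_le_sup_mul hn h1
  have hcol : ∀ j, ∃ w : Fin (r + 1) → A, (∀ i, mk (w i) = φb i j) ∧ ∑ i, g i * w i = 0 := fun j => by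
    choose w hw using fun i => hsurj (φb i j)
    have h1 : ∑ i, g i * w i ∈ K * I := by
      refine hle (sum_mem fun i _ => Ideal.mul_mem_right _ _ (hgI i)) ?_
      rw [← Ideal.Quotient.eq_zero_iff_mem, map_sum]
      simp only [map_mul]
      rw [← S12906.result r φb j]
      exact Finset.sum_congr rfl fun i _ => by show mk (g i) * mk (w i) = _; rw [hg i, hw i]
    rw [hIg, mul_comm] at h1
    have h1' : ∑ i, g i * w i ∈ K • Submodule.span A (Set.range g) := by
      rw [smul_eq_mul, mul_comm]; exact h1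
    obtain ⟨a, ha, hag⟩ := (Submodule.mem_ideal_smul_span_iff_exists_sum _ g _).1 h1'
    refine ⟨fun i => w i - a i, fun i => ?_, ?_⟩
    · rw [map_sub, hw, Ideal.Quotient.eq_zero_iff_mem.2 (ha i), sub_zero]
    · simp only [mul_sub, Finset.sum_sub_distrib]
      rw [sub_eq_zero, ← hag, Finsupp.sum_fintype _ _ (by simp)]
      exact Finset.sum_congr rfl fun i _ => by rw [smul_eq_mul, mul_comm]
  choose w hw hwg using hcol
  let φ : Matrix (Fin (r + 1)) (Fin r) A := fun i j => w j i
  have hφ : φ.map mk = φb := Matrix.ext fun i j => hw j i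
  have hred : ∀ i, mk (sMinor φ i) = sMinor φb i := fun i => by rw [map_sMinor, hφ]
  have hht : ∀ h : Fin (r + 1) → A, (∀ i, mk (h i) = sMinor φb i) → ∀ p : Ideal A, p.IsPrime →
      Ideal.span (Set.range h) ≤ p → (2 : ℕ∞) ≤ p.height := fun h hh p hp hle => by
    haveI := hp
    let q := p.map mk
    have hKp : K ≤ p := map_le_prime C A J hJ p
    have hq : q.IsPrime := Ideal.map_isPrime_of_surjective hsurj (by rwa [Ideal.mk_ker])
    have hqp : q.comap mk = p := by
      rw [Ideal.comap_map_of_surjective _ hsurj, ← RingHom.ker_eq_comap_bot, Ideal.mk_ker,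
        sup_eq_left.mpr hKp]
    rw [← hqp, height_quotient_eq C A J hJ q]
    refine hcodim q hq (Ideal.span_le.2 ?_)
    rintro _ ⟨i, rfl⟩
    rw [← hh i]
    exact Ideal.mem_map_of_mem _ (hle (Ideal.subset_span ⟨i, rfl⟩))
  have hR : McCoy.HasRegularPair (CAlgX.minorIdeal φ r) := by
    refine hasRegularPair_of_height C A _ fun p hp hle => hht _ hred p hp ?_
    rwa [McCoy.minorIdeal_eq_span_delta] at hle
  obtain ⟨c, hc⟩ := exists_eq_smul_delta φ hR g fun j => hwg j
  -- `c` is a unit by Krull's principal ideal theorem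
  have hcu : IsUnit c := by
    haveI : IsNoetherianRing A := Algebra.FiniteType.isNoetherianRing C A
    rw [← Ideal.span_singleton_eq_top]
    by_contra hne
    obtain ⟨p, hp⟩ := Ideal.nonempty_minimalPrimes hne
    have h2 : (2 : ℕ∞) ≤ p.height := hht g hg p hp.1.1 (Ideal.span_le.2 (Set.range_subset_iff.2
      fun i => by
        rw [hc i]
        exact Ideal.mul_mem_right _ _ (hp.1.2 (Ideal.subset_span rfl))))
    exact absurd (h2.trans (Ideal.height_le_one_of_isPrincipal_of_mem_minimalPrimes _ p hp)) (by norm_num)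
  refine ⟨φ, hφ, ?_, hR⟩
  rw [hIg]
  refine le_antisymm (Ideal.span_le.2 ?_) (Ideal.span_le.2 ?_)
  · rintro _ ⟨i, rfl⟩
    rw [hc i]
    exact Ideal.mul_mem_left _ _ (Ideal.subset_span ⟨i, rfl⟩)
  · rintro _ ⟨i, rfl⟩
    obtain ⟨d, hd⟩ := hcu.exists_left_inv
    have : sMinor φ i = d * g i := by rw [hc i, ← mul_assoc, hd, one_mul]; rfl
    rw [this]
    exact Ideal.mul_mem_left _ _ (Ideal.subset_span ⟨i, rfl⟩)

end

end Groth.Agent.DeformNL
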