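import Groth.Agent.DeformNL.HilbGood
import Groth.Agent.DeformNL.MatrixLift
import Groth.Agent.S11460

/-!
# Cohen–Macaulay codimension two subschemes of smooth schemes are locally liftable
-/

set_option autoImplicit false
set_option linter.style.haveILetI false
set_option backward.isDefEq.respectTransparency false
universe u

open CategoryTheory CategoryTheory.Limits AlgebraicGeometry ArtFun ArtFun.Art Opposite

namespace Groth.Agent.DeformNL.HilbCM

open Groth.Agent Groth.Agent.ArtFunLib Groth.Agent.ArtFunLib.HilbAffine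

variable {k : Type u} [Field k] {X : Scheme.{u}} (x : X ⟶ specPt k) {I₀ : X.IdealSheafData}

/-- Primes containing the ideal have height at least two. -/
theorem two_le_height (hcodim : ∀ y : I₀.subscheme, ringKrullDim (I₀.subscheme.presheaf.stalk y) + 2 =
      ringKrullDim (X.presheaf.stalk (I₀.subschemeι.base y)))
    (U : X.affineOpens) (q : Ideal Γ(X, U.1)) (hq : q.IsPrime) (h : I₀.ideal U ≤ q) :
    (2 : ℕ∞) ≤ q.height := by
  let q' : PrimeSpectrum Γ(X, U.1) := ⟨q, hq⟩
  have hz : q' ∈ PrimeSpectrum.zeroLocus (I₀.ideal U : Set Γ(X, U.1)) := h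
  have hmem := (U.2.fromSpec_image_zeroLocus (I₀.ideal U : Set Γ(X, U.1))).le ⟨q', hz, rfl⟩
  have hs : U.2.fromSpec q' ∈ I₀.support :=
    (Scheme.IdealSheafData.mem_support_iff_of_mem hmem.2).2 hmem.1
  obtain ⟨y, hy⟩ : U.2.fromSpec q' ∈ Set.range I₀.subschemeι := by rw [I₀.range_subschemeι]; exact hs
  letI := X.presheaf.algebra_section_stalk (⟨U.2.fromSpec q', hmem.2⟩ : U.1)
  haveI := U.2.isLocalization_stalk' q' hmem.2
  have hd := IsLocalization.AtPrime.ringKrullDim_eq_height q (X.presheaf.stalk (U.2.fromSpec q'))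
  have h0 := ringKrullDim_nonneg_of_nontrivial (R := I₀.subscheme.presheaf.stalk y)
  have h2 : (2 : WithBot ℕ∞) ≤ ringKrullDim (X.presheaf.stalk (I₀.subschemeι.base y)) := by
    rw [← hcodim y]
    simpa using add_le_add_left h0 (2 : WithBot ℕ∞)
  rw [show I₀.subschemeι.base y = U.2.fromSpec q' from hy, hd] at h2
  exact WithBot.coe_le_coe.1 h2

theorem smooth_c [Smooth x] (A : Art k k) (U : X.affineOpens) : (c x A U).Smooth := by
  haveI : Smooth (XApr x A) :=
    inferInstanceAs (Smooth (pullback.snd x (specOver A)))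
  exact (RingHom.Smooth.of_bijective (ConcreteCategory.bijective_of_isIso
    (Scheme.ΓSpecIso (CommRingCat.of A)).inv)).comp
      (HasRingHomProperty.appLE @Smooth (XApr x A) inferInstance ⟨⊤, isAffineOpen_top _⟩ (W x A U) _)

set_option maxHeartbeats 1000000 in
/-- Hilbert–Burch matrices lift along flat embedded deformations. -/
theorem exists_matrix [Smooth x]
    (hcodim : ∀ y : I₀.subscheme, ringKrullDim (I₀.subscheme.presheaf.stalk y) + 2 =
      ringKrullDim (X.presheaf.stalk (I₀.subschemeι.base y)))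
    {A : Art k k} (IA : (localHilb X x I₀).obj A) (U : X.affineOpens) {r : ℕ}
    (ψ : Matrix (Fin (r + 1)) (Fin r) Γ(X, U.1)) (hψ : Ideal.span (Set.range (sMinor ψ)) = I₀.ideal U) :
    ∃ φ : Matrix (Fin (r + 1)) (Fin r) Γ(XA x A, (W x A U).1), φ.map (rho x A U) = ψ ∧
      ∀ i, sMinor φ i ∈ IA.1.ideal (W x A U) := by
  letI : Algebra A Γ(XA x A, (W x A U).1) := (c x A U).toAlgebra
  haveI : Algebra.Smooth A Γ(XA x A, (W x A U).1) := RingHom.smooth_algebraMap.1 (smooth_c x A U)
  haveI : Algebra.Smooth (A ⧸ IsLocalRing.maximalIdeal A)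
      (Γ(XA x A, (W x A U).1) ⧸ (IsLocalRing.maximalIdeal A).map (algebraMap A Γ(XA x A, (W x A U).1))) :=
    Algebra.Smooth.of_equiv
      (Algebra.TensorProduct.quotIdealMapEquivQuotTensor Γ(XA x A, (W x A U).1) (IsLocalRing.maximalIdeal A)).symm
  haveI : Module.Flat A Γ(XA x A, (W x A U).1) := HilbSit.flat_c x A U
  haveI : Module.Flat A (Γ(XA x A, (W x A U).1) ⧸ IA.1.ideal (W x A U)) := by
    have h := flat_quotient x IA.1 IA.2.1 U
    rw [← RingHom.flat_algebraMap_iff]
    exact h
  let K := (IsLocalRing.maximalIdeal A).map (algebraMap A Γ(XA x A, (W x A U).1))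
  let e : (Γ(XA x A, (W x A U).1) ⧸ K) ≃+* Γ(X, U.1) :=
    (Ideal.quotEquivOfEq (rho_spec x A U).2.symm).trans
      (RingHom.quotientKerEquivOfSurjective (rho_spec x A U).1)
  have he : ∀ a, e (Ideal.Quotient.mk K a) = rho x A U a := fun a => rfl
  let φb := ψ.map e.symm.toRingHom
  have hb : ∀ i, sMinor φb i = e.symm (sMinor ψ i) := fun i => (map_sMinor e.symm.toRingHom ψ i).symm
  have hcd : ∀ p : Ideal (Γ(XA x A, (W x A U).1) ⧸ K), p.IsPrime →
      Ideal.span (Set.range (sMinor φb)) ≤ p → (2 : ℕ∞) ≤ p.height := fun p hp hle => by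
    rw [← RingEquiv.height_comap e.symm p]
    refine two_le_height hcodim U _ (Ideal.comap_isPrime _ p) ?_
    rw [← hψ, Ideal.span_le]
    rintro _ ⟨i, rfl⟩
    rw [SetLike.mem_coe, Ideal.mem_comap]
    exact hle (Ideal.subset_span ⟨i, hb i⟩)
  have hI : (IA.1.ideal (W x A U)).map (Ideal.Quotient.mk K) = Ideal.span (Set.range (sMinor φb)) := by
    have h : ((IA.1.ideal (W x A U)).map (Ideal.Quotient.mk K)).map e.toRingHom = I₀.ideal U := by
      rw [Ideal.map_map, show e.toRingHom.comp (Ideal.Quotient.mk K) = rho x A U from RingHom.ext he,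
        ← comap_incl_ideal, IA.2.2]
    have h' : (Ideal.span (Set.range (sMinor φb))).map e.toRingHom = I₀.ideal U := by
      rw [Ideal.map_span, ← Set.range_comp, ← hψ]
      exact congrArg (fun f => Ideal.span (Set.range f)) (funext fun i => by
        show e (sMinor φb i) = _
        rw [hb, e.apply_symm_apply])
    rw [← Ideal.comap_map_of_bijective e.toRingHom e.bijective (I := (IA.1.ideal (W x A U)).map (Ideal.Quotient.mk K)), h,
      ← h', Ideal.comap_map_of_bijective e.toRingHom e.bijective]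
  obtain ⟨φ, hφ, hspan, -⟩ := exists_matrix_lift (IsLocalRing.maximalIdeal A)
    (IsLocalRing.maximalIdeal.isMaximal A).ne_top φb hcd (IA.1.ideal (W x A U)) hI
  refine ⟨φ, Matrix.ext fun i j => ?_, fun i => hspan.ge (Ideal.subset_span ⟨i, rfl⟩)⟩
  show rho x A U (φ i j) = ψ i j
  rw [← he, show Ideal.Quotient.mk K (φ i j) = e.symm (ψ i j) from congrFun (congrFun hφ i) j, e.apply_symm_apply]

/-- Determinantal presentations give good local generators on every small extension. -/
theorem locallyLiftable [Smooth x] (hCM : ∀ y : I₀.subscheme, LocCoh.IsCohenMacaulayLocalRing (I₀.subscheme.presheaf.stalk y))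
    (hcodim : ∀ y : I₀.subscheme, ringKrullDim (I₀.subscheme.presheaf.stalk y) + 2 =
      ringKrullDim (X.presheaf.stalk (I₀.subschemeι.base y))) :
    HilbLocSmooth.LocallyLiftable X x I₀ := by
  intro B A p hp IA z
  by_cases hz : z ∈ I₀.support
  · obtain ⟨y, rfl⟩ : z ∈ Set.range I₀.subschemeι := by rw [I₀.range_subschemeι]; exact hz
    obtain ⟨U, hyU, r, ψ, hψI, -, hex⟩ := S11460.result k X I₀.subscheme x I₀.subschemeι hCM hcodim y
    rw [Scheme.IdealSheafData.ker_subschemeι] at hψI
    refine ⟨U, hyU, fun P hP => ?_⟩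
    obtain ⟨φA, hφA, hmem⟩ := exists_matrix x hcodim IA U ψ hψI
    choose φB hφB using fun i j => (pi_spec x p hp.1 U).1 (φA i j)
    let φ : Matrix (Fin (r + 1)) (Fin r) Γ(XA x B, (W x B U).1) := fun i j => φB i j
    have hφ : φ.map (rho x B U) = ψ := by
      rw [← hφA]
      exact Matrix.ext fun i j => by
        show rho x B U (φB i j) = rho x A U (φA i j)
        rw [← HilbSit.rho_pi x p U, hφB]
    have hρ : ∀ i, rho x B U (sMinor φ i) = sMinor ψ i := fun i => by rw [map_sMinor, hφ]
    refine ⟨r + 1, sMinor φ, fun i => ?_, ?_, fun a ha => ?_⟩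
    · rw [hP, Ideal.mem_comap, map_sMinor, show φ.map (pi x p U) = φA from Matrix.ext fun i j => hφB i j]
      exact hmem i
    · rw [funext hρ]; exact hψI
    · obtain ⟨w, hw⟩ := hex.ge (show a ∈ LinearMap.ker (Fintype.linearCombination Γ(X, U.1) (sMinor ψ)) by
        rw [LinearMap.mem_ker, Fintype.linearCombination_apply, ← ha]
        exact Finset.sum_congr rfl fun i _ => by rw [hρ, smul_eq_mul])
      choose w' hw' using fun j => (rho_spec x B U).1 (w j)
      refine ⟨φ.mulVecLin w', fun i => ?_, ?_⟩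
      · rw [← hw, ← hφ]
        refine (RingHom.map_mulVec (rho x B U) φ w' i).trans ?_
        rw [show rho x B U ∘ w' = w from funext hw']
        rfl
      · have h0 := LinearMap.congr_fun (linearCombination_comp_mulVecLin φ) w'
        rw [LinearMap.comp_apply, Fintype.linearCombination_apply, LinearMap.zero_apply] at h0
        simp only [smul_eq_mul] at h0
        rw [h0]
        exact zero_mem _
  · obtain ⟨U, hzU, htop⟩ := HilbGood.exists_ideal_eq_top hz
    refine ⟨U, hzU, fun P hP => HilbGood.goodLocal_of_h1 x P U (HilbGood.map_rho x p hp.1 IA P hP U)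
      (fun _ : Fin 1 => 1) (fun a ha => ?_) (by rw [htop, Set.range_const, Ideal.span_singleton_one])⟩
    have : a = 0 := funext fun i => by
      rw [Fin.sum_univ_one, mul_one] at ha
      rw [Subsingleton.elim i 0, ha, Pi.zero_apply]
    rw [this]
    exact zero_mem _

end Groth.Agent.DeformNL.HilbCM
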