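import Groth.Agent.DeformNL.HilbLoc
import Groth.Agent.ArtFunLib.HilbSmooth

/-!
# Vanishing of `Ext¹` of the conormal sheaf
-/

set_option autoImplicit false
set_option linter.style.haveILetI false
set_option backward.isDefEq.respectTransparency false
universe u

open CategoryTheory CategoryTheory.Limits AlgebraicGeometry Opposite

namespace Groth.Agent.DeformNL.HilbExt

open Groth.Agent

variable {X Y : Scheme.{u}} (i : Y ⟶ X)

/-- Restriction to opens commutes with pulling back. -/
noncomputable def restrictPullIso (U : X.Opens) :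
    Scheme.Modules.pullback i ⋙ Scheme.Modules.restrictFunctor (i ⁻¹ᵁ U).ι ≅
      Scheme.Modules.restrictFunctor U.ι ⋙ Scheme.Modules.pullback (i ∣_ U) :=
  Functor.isoWhiskerLeft _ (Scheme.Modules.restrictFunctorIsoPullback (i ⁻¹ᵁ U).ι) ≪≫
    Scheme.Modules.pullbackComp (i ⁻¹ᵁ U).ι i ≪≫
    Scheme.Modules.pullbackCongr (morphismRestrict_ι i U).symm ≪≫
    (Scheme.Modules.pullbackComp (i ∣_ U) U.ι).symm ≪≫
    Functor.isoWhiskerRight (Scheme.Modules.restrictFunctorIsoPullback U.ι).symm _

variable [HasExt.{u} Y.Modules]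

/-- Extending a morphism into a direct image that extends locally. -/
theorem exists_extend {S : ShortComplex X.Modules} (hS : S.ShortExact) (N : Y.Modules)
    (κ : S.X₁ ⟶ (Scheme.Modules.pushforward i).obj N)
    (hloc : ∀ x : X, ∃ U : X.Opens, x ∈ U ∧ ∃ θ : (Scheme.Modules.restrictFunctor U.ι).obj S.X₂ ⟶
      (Scheme.Modules.restrictFunctor U.ι).obj ((Scheme.Modules.pushforward i).obj N),
      (Scheme.Modules.restrictFunctor U.ι).map S.f ≫ θ = (Scheme.Modules.restrictFunctor U.ι).map κ)
    (h : Subsingleton (Abelian.Ext.{u} ((Scheme.Modules.pullback i).obj S.X₃) N 1)) :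
    ∃ θ : S.X₂ ⟶ (Scheme.Modules.pushforward i).obj N, S.f ≫ θ = κ := by
  let F := Scheme.Modules.pullback i
  let adj := Scheme.Modules.pullbackPushforwardAdjunction i
  haveI : PreservesColimitsOfSize.{0, 0} F := adj.leftAdjoint_preservesColimits
  haveI : PreservesFiniteColimits F := ⟨fun _ => inferInstance⟩
  haveI := hS.epi_g
  have hz : F.map S.f ≫ F.map S.g = 0 := by rw [← F.map_comp, S.zero, Functor.map_zero]
  let T : ShortComplex Y.Modules := ShortComplex.mk (F.map S.f) (F.map S.g) hz
  haveI : Epi T.g := F.map_epi S.g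
  have hT : T.Exact := hS.exact.map_of_epi_of_preservesCokernel F inferInstance inferInstance
  have hk : kernel.ι T.f ≫ (adj.homEquiv _ _).symm κ = 0 := by
    refine SheafHomX.eq_zero_of_restrict (fun y : Y => (i ⁻¹ᵁ (hloc (i y)).choose).ι)
      (fun y => ⟨y, ⟨⟨y, (hloc (i y)).choose_spec.1⟩, rfl⟩⟩) _ fun y => ?_
    obtain ⟨θ, hθ⟩ := (hloc (i y)).choose_spec.2
    let R := Scheme.Modules.restrictFunctor (i ⁻¹ᵁ (hloc (i y)).choose).ι
    let η := restrictPullIso i (hloc (i y)).choose
    have h1 : R.map (F.map κ) = R.map (F.map S.f) ≫ η.hom.app _ ≫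
        (Scheme.Modules.pullback (i ∣_ (hloc (i y)).choose)).map θ ≫ η.inv.app _ := by
      rw [← Category.assoc, show R.map (F.map S.f) ≫ η.hom.app _ = η.hom.app _ ≫
        (Scheme.Modules.pullback (i ∣_ (hloc (i y)).choose)).map
          ((Scheme.Modules.restrictFunctor ((hloc (i y)).choose).ι).map S.f) from η.hom.naturality S.f,
        Category.assoc, ← Category.assoc ((Scheme.Modules.pullback _).map _), ← Functor.map_comp, hθ,
        ← Category.assoc, show η.hom.app _ ≫ (Scheme.Modules.pullback (i ∣_ (hloc (i y)).choose)).map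
          ((Scheme.Modules.restrictFunctor ((hloc (i y)).choose).ι).map κ) = R.map (F.map κ) ≫ η.hom.app _
          from (η.hom.naturality κ).symm, Category.assoc, Iso.hom_inv_id_app]
      exact (Category.comp_id _).symm
    rw [Adjunction.homEquiv_counit, Functor.map_comp, Functor.map_comp]
    show R.map (kernel.ι T.f) ≫ R.map (F.map κ) ≫ _ = 0
    rw [h1, ← Category.assoc, ← Category.assoc (R.map (kernel.ι T.f)), ← R.map_comp,
      show kernel.ι T.f ≫ F.map S.f = 0 from kernel.condition T.f, R.map_zero, zero_comp, zero_comp]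
  -- factor through the image and extend
  let a : T.X₁ ⟶ kernel T.g := kernel.lift _ T.f T.zero
  haveI : Epi a := (ShortComplex.exact_iff_epi_kernel_lift T).1 hT
  have hexa : (ShortComplex.mk (kernel.ι a) a (kernel.condition a)).Exact :=
    ShortComplex.exact_of_f_is_kernel _ (kernelIsKernel a)
  have hka : kernel.ι a ≫ (adj.homEquiv _ _).symm κ = 0 := by
    have h2 : kernel.ι a ≫ T.f = 0 := by
      rw [← kernel.lift_ι T.g T.f T.zero, ← Category.assoc, show kernel.ι a ≫ a = 0 from kernel.condition a,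
        zero_comp]
    rw [← kernel.lift_ι T.f (kernel.ι a) h2, Category.assoc, hk, comp_zero]
  haveI : Epi (ShortComplex.mk (kernel.ι a) a (kernel.condition a)).g := ‹Epi a›
  obtain ⟨θ', hθ'⟩ := ArtFunLib.HilbMod.exists_extend T.g (hexa.desc _ hka) h
  refine ⟨adj.homEquiv _ _ θ', (adj.homEquiv _ _).symm.injective ?_⟩
  rw [← Adjunction.homEquiv_naturality_left, Equiv.symm_apply_apply]
  show T.f ≫ θ' = _
  rw [← kernel.lift_ι T.g T.f T.zero, Category.assoc, hθ']
  exact hexa.g_desc _ hka

/-- Vanishing of `Ext¹` of the conormal sheaf lets local extensions glue. -/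
theorem extends_of_ext {k : Type u} [Field k] {X : Scheme.{u}} {x : X ⟶ ArtFun.Art.specPt k}
    (I₀ : X.IdealSheafData) [HasExt.{u} I₀.subscheme.Modules]
    (h : Subsingleton (Abelian.Ext.{u} (Omega.conormal I₀.subschemeι) (Coh.structureModule I₀.subscheme) 1)) :
    HilbLoc.Extends (x := x) I₀ := by
  intro B P φ _ κ hloc
  have hS : (ShortComplex.mk (kernel.ι φ) φ (kernel.condition φ)).ShortExact :=
    { exact := ShortComplex.exact_of_f_is_kernel _ (kernelIsKernel φ) }
  refine exists_extend I₀.subschemeι hS (Coh.structureModule I₀.subscheme) κ (fun y => ?_) ?_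
  · obtain ⟨U, hy, hs⟩ := hloc y
    exact ⟨U, hy, HilbLoc.exists_theta_on P I₀ φ κ U hs⟩
  · rw [Omega.conormal, Scheme.IdealSheafData.ker_subschemeι] at h
    exact h

end Groth.Agent.DeformNL.HilbExt
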