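import Groth.Agent.ArtFunLib.ObsBound

/-!
# Dimension bounds for the ring of a hull
-/

set_option autoImplicit false

universe u v

open CategoryTheory ArtFun IsLocalRing TensorProduct

namespace Groth.Agent.DeformNL.HullBounds

variable {k : Type u} [Field k]

section Tangent

variable {R : CRing k k}

theorem sub_res_mem (r : R.carrier) : r - algebraMap k R.carrier (R.res r) ∈ maximalIdeal R.carrier := by
  rw [CRing.mem_maximalIdeal_iff, map_sub, AlgHom.commutes]
  exact sub_self _

/-- `r ↦` class of `r - res r` in the cotangent space -/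
noncomputable def lin : R.carrier →ₗ[k] (maximalIdeal R.carrier).Cotangent :=
  ((maximalIdeal R.carrier).toCotangent.restrictScalars k).comp
    (LinearMap.codRestrict ((maximalIdeal R.carrier).restrictScalars k)
      (LinearMap.id - (Algebra.linearMap k R.carrier).comp R.res.toLinearMap) sub_res_mem)

theorem lin_apply (r : R.carrier) :
    lin r = (maximalIdeal R.carrier).toCotangent ⟨r - algebraMap k R.carrier (R.res r), sub_res_mem r⟩ := rfl

theorem lin_mem (x : maximalIdeal R.carrier) : lin (x : R.carrier) = (maximalIdeal R.carrier).toCotangent x := by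
  rw [lin_apply]
  congr 1
  refine Subtype.ext ?_
  show (x : R.carrier) - algebraMap k R.carrier (R.res (x : R.carrier)) = x
  rw [show R.res (x : R.carrier) = 0 from (CRing.mem_maximalIdeal_iff R _).1 x.2, map_zero, sub_zero]

theorem lin_mul (r s : R.carrier) : lin (r * s) = R.res r • lin s + R.res s • lin r := by
  rw [lin_apply, lin_apply, lin_apply, ← LinearMap.map_smul_of_tower, ← LinearMap.map_smul_of_tower, ← map_add,
    Ideal.toCotangent_eq]
  simp only [Submodule.coe_add, Submodule.coe_smul_of_tower, map_mul, Algebra.smul_def]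
  rw [sq]
  have : r * s - algebraMap k R.carrier (R.res r) * algebraMap k R.carrier (R.res s) -
      (algebraMap k R.carrier (R.res r) * (s - algebraMap k R.carrier (R.res s)) +
        algebraMap k R.carrier (R.res s) * (r - algebraMap k R.carrier (R.res r))) =
      (r - algebraMap k R.carrier (R.res r)) * (s - algebraMap k R.carrier (R.res s)) := by ring
  rw [this]
  exact Ideal.mul_mem_mul (sub_res_mem r) (sub_res_mem s)

theorem snd_mul_eq_zero (a b : TrivSqZeroExt k k) (ha : a.fst = 0) (hb : b.fst = 0) : (a * b).snd = 0 := by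
  rw [TrivSqZeroExt.snd_mul, ha, hb]
  simp

/-- The point of `h_R(k ⊕ M)` attached to a linear map on the cotangent space. -/
noncomputable def toTsze {M : Type u} [AddCommGroup M] [Module k M] [Module kᵐᵒᵖ M] [IsCentralScalar k M]
    (v : (maximalIdeal R.carrier).Cotangent →ₗ[k] M) : R.carrier →ₐ[k] TrivSqZeroExt k M :=
  AlgHom.ofLinearMap
    ((TrivSqZeroExt.inlAlgHom k k M).toLinearMap.comp R.res.toLinearMap +
      (TrivSqZeroExt.inrHom k M).restrictScalars k ∘ₗ v.comp lin)
    (by
      refine TrivSqZeroExt.ext ?_ ?_ <;>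
        simp [lin_apply, show (⟨0, zero_mem _⟩ : maximalIdeal R.carrier) = 0 from rfl])
    (fun r s => by
      refine TrivSqZeroExt.ext ?_ ?_
      · simp
      · simp [lin_mul, op_smul_eq_smul])

theorem toTsze_apply {M : Type u} [AddCommGroup M] [Module k M] [Module kᵐᵒᵖ M] [IsCentralScalar k M]
    (v : (maximalIdeal R.carrier).Cotangent →ₗ[k] M) (r : R.carrier) :
    (toTsze v r).fst = R.res r ∧ (toTsze v r).snd = v (lin r) := by
  constructor <;> simp [toTsze]

theorem exists_tangent_equiv {F : Art k k ⥤ Type v} (ξ : Family R.carrier R.res F)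
    (hξ : Function.Bijective (ξ.app (Art.dual k k))) {V : Type u} [AddCommGroup V] [Module k V]
    (e : F.obj (Art.dual k k) → V) (he : Function.Bijective e)
    (hadd : ∀ z, e (F.map Art.plus z) = e (F.map Art.pr₁ z) + e (F.map Art.pr₂ z))
    (hscale : ∀ c : k, c ≠ 0 → ∀ z, e (F.map (Art.scale c) z) = c • e z) :
    Nonempty (Module.Dual k (maximalIdeal R.carrier).Cotangent ≃ₗ[k] V) := by
  let h : Module.Dual k (maximalIdeal R.carrier).Cotangent → HomSet R.carrier R.res (Art.dual k k) :=
    fun v => ⟨toTsze v, AlgHom.ext fun r => (toTsze_apply v r).1⟩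
  let h2 : ((maximalIdeal R.carrier).Cotangent →ₗ[k] k × k) → HomSet R.carrier R.res (Art.dual2 k k) :=
    fun v => ⟨toTsze v, AlgHom.ext fun r => (toTsze_apply v r).1⟩
  have happ : ∀ v (r : R.carrier), ((h v).1 r : TrivSqZeroExt k k) = toTsze v r := fun _ _ => rfl
  have hh : Function.Bijective h := by
    refine ⟨fun v w hvw => LinearMap.ext fun z => ?_, fun φ => ?_⟩
    · obtain ⟨x, rfl⟩ := (maximalIdeal R.carrier).toCotangent_surjective z
      have := congrArg (fun t : HomSet R.carrier R.res (Art.dual k k) => ((t.1 x : TrivSqZeroExt k k)).snd) hvw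
      simp only [happ, (toTsze_apply _ _).2, lin_mem] at this
      exact this
    · let d : R.carrier →ₗ[k] k := (TrivSqZeroExt.sndHom k k).restrictScalars k ∘ₗ φ.1.toLinearMap
      have hd : ∀ r, d r = ((φ.1 r : TrivSqZeroExt k k)).snd := fun _ => rfl
      have hfst : ∀ r, ((φ.1 r : TrivSqZeroExt k k)).fst = R.res r := fun r => congr($(φ.2) r)
      let f : ↥((maximalIdeal R.carrier).restrictScalars k) →ₗ[k] k :=
        d ∘ₗ ((maximalIdeal R.carrier).restrictScalars k).subtype
      let g : ↥((maximalIdeal R.carrier).restrictScalars k) →ₗ[k] (maximalIdeal R.carrier).Cotangent :=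
        (maximalIdeal R.carrier).toCotangent.restrictScalars k
      have hker : LinearMap.ker g ≤ LinearMap.ker f := fun x hx => by
        have hx2 : (x : R.carrier) ∈ maximalIdeal R.carrier ^ 2 :=
          ((maximalIdeal R.carrier).toCotangent_eq_zero ⟨x.1, x.2⟩).1 hx
        rw [sq] at hx2
        show d (x : R.carrier) = 0
        refine Submodule.mul_induction_on hx2 (fun a ha b hb => ?_) fun a b ha hb => by rw [map_add, ha, hb, add_zero]
        have h0 : ∀ a ∈ maximalIdeal R.carrier, ((φ.1 a : TrivSqZeroExt k k)).fst = 0 := fun a ha =>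
          (hfst a).trans ((CRing.mem_maximalIdeal_iff R a).1 ha)
        rw [hd]
        show ((φ.1 (a * b) : TrivSqZeroExt k k)).snd = 0
        have h3 : (φ.1 (a * b) : TrivSqZeroExt k k) = (φ.1 a : TrivSqZeroExt k k) * (φ.1 b : TrivSqZeroExt k k) :=
          map_mul φ.1 a b
        exact (congrArg TrivSqZeroExt.snd h3).trans (snd_mul_eq_zero _ _ (h0 a ha) (h0 b hb))
      have hgs : Function.Surjective g := (maximalIdeal R.carrier).toCotangent_surjective
      let v : (maximalIdeal R.carrier).Cotangent →ₗ[k] k :=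
        (LinearMap.ker g).liftQ f hker ∘ₗ (g.quotKerEquivOfSurjective hgs).symm.toLinearMap
      have hv : ∀ x, v (g x) = f x := fun x => by
        show (LinearMap.ker g).liftQ f hker ((g.quotKerEquivOfSurjective hgs).symm (g x)) = f x
        rw [show (g.quotKerEquivOfSurjective hgs).symm (g x) = Submodule.Quotient.mk x from
          (LinearEquiv.symm_apply_eq _).2 rfl, Submodule.liftQ_apply]
      refine ⟨v, Subtype.ext (AlgHom.ext fun r => ?_)⟩
      show (toTsze v r : TrivSqZeroExt k k) = (φ.1 r : TrivSqZeroExt k k)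
      refine TrivSqZeroExt.ext ((toTsze_apply v r).1.trans (hfst r).symm) ((toTsze_apply v r).2.trans ?_)
      refine (hv ⟨_, sub_res_mem r⟩).trans ?_
      show d (r - algebraMap k R.carrier (R.res r)) = ((φ.1 r : TrivSqZeroExt k k)).snd
      rw [map_sub, hd, hd]
      have h4 : (φ.1 (algebraMap k R.carrier (R.res r)) : TrivSqZeroExt k k) =
          algebraMap k (TrivSqZeroExt k k) (R.res r) := φ.1.commutes _
      rw [h4]
      simp [TrivSqZeroExt.algebraMap_eq_inl']
  have hmap : ∀ (l : k × k →ₗ[k] k) (g : Art.dual2 k k ⟶ Art.dual k k),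
      (∀ x : Art.dual2 k k, g x = Art.tszeMap (Λ := k) l (x : TrivSqZeroExt k (k × k))) →
      ∀ w, HomSet.map g (h2 w) = h (l.comp w) := fun l g hg w => by
    refine Subtype.ext (AlgHom.ext fun r => (hg _).trans ?_)
    show (Art.tszeMap (Λ := k) l (toTsze w r) : TrivSqZeroExt k k) = toTsze (l.comp w) r
    refine TrivSqZeroExt.ext ?_ ?_
    · exact (toTsze_apply w r).1.trans (toTsze_apply (l.comp w) r).1.symm
    · exact (congrArg l (toTsze_apply w r).2).trans (toTsze_apply (l.comp w) r).2.symm
  let Φ : Module.Dual k (maximalIdeal R.carrier).Cotangent → V := fun v => e (ξ.app _ (h v))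
  have hΦadd : ∀ v w, Φ (v + w) = Φ v + Φ w := fun v w => by
    have := hadd (ξ.app _ (h2 (v.prod w)))
    rw [← ξ.natural, ← ξ.natural, ← ξ.natural, hmap _ Art.plus (fun _ => rfl), hmap _ Art.pr₁ (fun _ => rfl),
      hmap _ Art.pr₂ (fun _ => rfl)] at this
    exact this
  have hΦsmul : ∀ (c : k) v, Φ (c • v) = c • Φ v := fun c v => by
    rcases eq_or_ne c 0 with rfl | hc
    · rw [zero_smul, zero_smul]
      have := hΦadd 0 0
      rw [add_zero] at this
      exact left_eq_add.1 this
    · have h5 : h (c • v) = HomSet.map (Art.scale c) (h v) := by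
        refine Subtype.ext (AlgHom.ext fun r => ?_)
        show (toTsze (c • v) r : TrivSqZeroExt k k) =
          Art.tszeMap (Λ := k) (c • LinearMap.id) (toTsze v r : TrivSqZeroExt k k)
        refine TrivSqZeroExt.ext ?_ ?_
        · exact (toTsze_apply (c • v) r).1.trans (toTsze_apply v r).1.symm
        · refine (toTsze_apply (c • v) r).2.trans ?_
          show c • v (lin r) = c • (toTsze v r).snd
          rw [(toTsze_apply v r).2]
      show e (ξ.app _ (h (c • v))) = c • e (ξ.app _ (h v))
      rw [h5, ξ.natural, hscale c hc]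
  exact ⟨LinearEquiv.ofBijective ({ toFun := Φ, map_add' := hΦadd, map_smul' := hΦsmul } :
    Module.Dual k (maximalIdeal R.carrier).Cotangent →ₗ[k] V) (he.comp (hξ.comp hh))⟩

theorem finrank_cotangentSpace (R : CRing k k) :
    Module.finrank (ResidueField R.carrier) (CotangentSpace R.carrier) =
      Module.finrank k (maximalIdeal R.carrier).Cotangent := by
  let φ : k →+* ResidueField R.carrier := (residue R.carrier).comp (algebraMap k R.carrier)
  have hφ : Function.Bijective φ := by
    refine ⟨φ.injective, fun y => ?_⟩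
    obtain ⟨r, rfl⟩ := residue_surjective y
    exact ⟨R.res r, (Ideal.Quotient.eq.2 (sub_res_mem r)).symm⟩
  let bs := Module.finBasis (ResidueField R.carrier) (CotangentSpace R.carrier)
  let b' : Module.Basis _ k (maximalIdeal R.carrier).Cotangent :=
    bs.mapCoeffs (RingEquiv.ofBijective φ hφ).symm fun c x => by
      obtain ⟨c, rfl⟩ := (RingEquiv.ofBijective φ hφ).surjective c
      rw [RingEquiv.symm_apply_apply]
      show c • x = residue R.carrier (algebraMap k R.carrier c) • x
      rw [← algebraMap_smul R.carrier c x]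
      rfl
  rw [Module.finrank_eq_card_basis b', Fintype.card_fin]

theorem finrank_tangent (R : CRing k k) {F : Art k k ⥤ Type v} (ξ : Family R.carrier R.res F)
    (hξ : Function.Bijective (ξ.app (Art.dual k k))) {V : Type u} [AddCommGroup V] [Module k V]
    (e : F.obj (Art.dual k k) → V) (he : Function.Bijective e)
    (hadd : ∀ z, e (F.map Art.plus z) = e (F.map Art.pr₁ z) + e (F.map Art.pr₂ z))
    (hscale : ∀ c : k, c ≠ 0 → ∀ z, e (F.map (Art.scale c) z) = c • e z) :
    Module.finrank (ResidueField R.carrier) (CotangentSpace R.carrier) = Module.finrank k V := by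
  obtain ⟨E⟩ := exists_tangent_equiv ξ hξ e he hadd hscale
  rw [finrank_cotangentSpace, ← E.finrank_eq, Subspace.dual_finrank_eq]

end Tangent

section Hull

variable {F : Art k k ⥤ Type v}

/-- An obstruction theory pulls back along a versal family. -/
theorem hasObsTheory_of_versal {R : Type u} [CommRing R] [Algebra k R] {resR : R →ₐ[k] k}
    (ξ : Family R resR F) (hξ : IsVersal ξ) {W : Type u} [AddCommGroup W] [Module k W]
    (T : ObsTheory F W) : HasObsTheory (hR R resR) W := by
  exact ⟨{ obs := fun {C' C} p hp φ => T.obs p hp (ξ.app C φ)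
           obs_eq_zero_iff := fun {C' C} p hp φ => by
             rw [T.obs_eq_zero_iff]
             constructor
             · rintro ⟨y, hy⟩
               obtain ⟨ψ, hψ, -⟩ := hξ p hp.1 φ y hy
               exact ⟨ψ, hψ⟩
             · rintro ⟨ψ, hψ⟩
               exact ⟨ξ.app C' ψ, (ξ.natural p ψ).symm.trans (congrArg (ξ.app C) hψ)⟩
           obs_quot := fun {C' C} p hp K hK hKJ hq φ => T.obs_quot p hp K hK hKJ hq (ξ.app C φ) }⟩

/-- A miniversal family is surjective at every object. -/
theorem surjective_app (H : Hull F) (A : Art k k) : Function.Surjective (H.family.app A) := by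
  intro y
  obtain ⟨φ0, h0⟩ := H.miniversal.2.2 (F.map Art.baseToDual (F.map (Art.toBase A) y))
  have hcomp : (Art.baseToDual : Art.base k k ⟶ Art.dual k k) ≫ Art.toBase (Art.dual k k) = 𝟙 (Art.base k k) := by
    rw [Art.eq_toBase (𝟙 (Art.base k k)), Art.eq_toBase (_ ≫ _)]
  have hbase : H.family.app _ (HomSet.map (Art.toBase (Art.dual k k)) φ0) = F.map (Art.toBase A) y := by
    rw [H.family.natural, h0, ← ConcreteCategory.comp_apply, ← F.map_comp, hcomp, F.map_id]
    rfl
  obtain ⟨ψ, -, hψ⟩ := H.miniversal.1 (Art.toBase A) A.res_surjective _ y hbase.symm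
  exact ⟨ψ, hψ⟩

theorem isSmoothFunctor_iff (H : Hull F) :
    IsSmoothFunctor F ↔ IsSmoothFunctor (hR H.ring.carrier H.ring.res) := by
  constructor
  · intro h B A μ hμ φ
    obtain ⟨y, hy⟩ := h μ hμ (H.family.app A φ)
    obtain ⟨ψ, hψ, -⟩ := H.miniversal.1 μ hμ φ y hy
    exact ⟨ψ, hψ⟩
  · intro h B A μ hμ y
    obtain ⟨φ, rfl⟩ := surjective_app H A y
    obtain ⟨ψ, hψ⟩ := h μ hμ φ
    exact ⟨H.family.app B ψ, (H.family.natural μ ψ).symm.trans (congrArg (H.family.app A) hψ)⟩

theorem exists_minimal_presentation' (R : CRing k k) :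
    ∃ π : MvPowerSeries (Fin (Module.finrank (ResidueField R.carrier) (CotangentSpace R.carrier))) k →ₐ[k] R.carrier,
      Function.Surjective π ∧
      RingHom.ker π ≤ maximalIdeal
        (MvPowerSeries (Fin (Module.finrank (ResidueField R.carrier) (CotangentSpace R.carrier))) k) ^ 2 := by
  haveI := R.isAdicComplete
  let bs := Module.finBasis (ResidueField R.carrier) (CotangentSpace R.carrier)
  choose b hb using fun i => (maximalIdeal R.carrier).toCotangent_surjective (bs i)
  obtain ⟨π, hπ⟩ := PSLib.exists_algHom (R := k) (maximalIdeal R.carrier) (fun i => (b i).1) fun i => (b i).2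
  have hres : Function.Surjective ((residue R.carrier).comp (algebraMap k R.carrier)) := fun y => by
    obtain ⟨y, rfl⟩ := residue_surjective y
    exact ⟨R.res y, (Ideal.Quotient.eq.2 (sub_res_mem y)).symm⟩
  have hgen := PSLib.le_span_sup_sq (b := fun i => (b i).1) (fun i => (b i).2) (by
    rw [show (fun i => (maximalIdeal R.carrier).toCotangent ⟨(b i).1, (b i).2⟩) = bs from funext hb]
    exact bs.span_eq)
  have hsurj := PSLib.surjective_of_span hres π (fun i => by rw [hπ]; exact (b i).2) (by simpa only [hπ] using hgen)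
  refine ⟨π, hsurj, fun j hj => ?_⟩
  have hjm : j ∈ maximalIdeal (MvPowerSeries _ k) := fun hu => not_isUnit_zero (RingHom.mem_ker.1 hj ▸ hu.map π)
  rw [ArtFunLib.ObsHR.maximalIdeal_eq_vars, PSLib.vars] at hjm
  obtain ⟨c, hc⟩ := Ideal.mem_span_range_iff_exists_fun.1 hjm
  have h0 : ∑ i, residue R.carrier (π (c i)) • bs i = 0 := by
    have h1 : (maximalIdeal R.carrier).toCotangent (∑ i, π (c i) • b i) = 0 := by
      rw [Ideal.toCotangent_eq_zero]
      have : ((∑ i, π (c i) • b i : ↥(maximalIdeal R.carrier)) : R.carrier) = π j := by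
        rw [← hc, map_sum, AddSubmonoidClass.coe_finsetSum]
        exact Finset.sum_congr rfl fun i _ => by rw [map_mul, hπ]; rfl
      rw [this, RingHom.mem_ker.1 hj]
      exact zero_mem _
    rw [map_sum] at h1
    rw [← h1]
    exact Finset.sum_congr rfl fun i _ => by rw [map_smul, hb]; rfl
  rw [← hc, sq]
  refine Ideal.sum_mem _ fun i _ => Ideal.mul_mem_mul ?_
    ((ArtFunLib.ObsHR.maximalIdeal_eq_vars (k := k) (d := _)).symm ▸ Ideal.subset_span ⟨i, rfl⟩)
  intro hu
  exact (residue_ne_zero_iff_isUnit _).2 (hu.map π) (Fintype.linearIndependent_iff.1 bs.linearIndependent _ h0 i)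

/-- The bounds for a coefficient ring. -/
theorem ring_bounds (R : CRing k k) :
    ringKrullDim R.carrier ≤ (Module.finrank (ResidueField R.carrier) (CotangentSpace R.carrier) : WithBot ℕ∞) ∧
      (∀ (W : Type u) [AddCommGroup W] [Module k W] [Module.Finite k W], ObsTheory (hR R.carrier R.res) W →
        (Module.finrank (ResidueField R.carrier) (CotangentSpace R.carrier) : WithBot ℕ∞) ≤
          ringKrullDim R.carrier + (Module.finrank k W : WithBot ℕ∞)) ∧
      (ringKrullDim R.carrier = (Module.finrank (ResidueField R.carrier) (CotangentSpace R.carrier) : WithBot ℕ∞) ↔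
        IsSmoothFunctor (hR R.carrier R.res)) := by
  obtain ⟨π, hπ, hJ⟩ := exists_minimal_presentation' R
  haveI := PSLib.isRegularLocalRing k (Module.finrank (ResidueField R.carrier) (CotangentSpace R.carrier))
  refine ⟨(ringKrullDim_le_of_surjective π.toRingHom hπ).trans (PSLib.ringKrullDim_eq k _).le,
    fun W _ _ _ T => (ArtFunLib.ObsBound.bounds R.res π hπ hJ T).2.1, fun h => ?_, fun h => ?_⟩
  · intro B A μ hμ φ
    have hb := PSLib.bijective_of_surjective (K := k) (n := _) π.toRingHom hπ h
    let e := AlgEquiv.ofBijective π hb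
    let resP := R.res.comp π
    let φ' : HomSet R.carrier R.res A := φ
    obtain ⟨ψ, hψ⟩ := ArtFunLib.ObsHR.isSmoothFunctor_powerSeries resP μ hμ
      (⟨φ'.1.comp π, by rw [← AlgHom.comp_assoc, φ'.2]⟩ : HomSet _ resP A)
    let ψ' : HomSet _ resP B := ψ
    refine ⟨(⟨ψ'.1.comp e.symm.toAlgHom, AlgHom.ext fun r => ?_⟩ : HomSet R.carrier R.res B), Subtype.ext (AlgHom.ext fun r => ?_)⟩
    · show B.res (ψ'.1 (e.symm r)) = R.res r
      exact (congr($(ψ'.2) (e.symm r))).trans (congrArg R.res (e.apply_symm_apply r))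
    · show μ (ψ'.1 (e.symm r)) = φ'.1 r
      exact (congr($(congrArg Subtype.val hψ) (e.symm r))).trans (congrArg φ'.1 (e.apply_symm_apply r))
  · refine le_antisymm ((ringKrullDim_le_of_surjective π.toRingHom hπ).trans (PSLib.ringKrullDim_eq k _).le) ?_
    let T : ObsTheory (hR R.carrier R.res) (Fin 0 → k) :=
      { obs := fun {C' C} p hp u => 0
        obs_eq_zero_iff := fun {C' C} p hp u => iff_of_true rfl (h p hp.1 u)
        obs_quot := fun {C' C} p hp K hK hKJ hq u => (map_zero _).symm }
    have := (ArtFunLib.ObsBound.bounds R.res π hπ hJ T).2.1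
    simpa using this

end Hull

end Groth.Agent.DeformNL.HullBounds
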