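import Groth.Agent.DeformNL.PointRing
import Groth.Agent.DeformNL.HullBounds
import Groth.Agent.DeformNL.PnRing
import Groth.Prelude.Def_FGA
import Groth.Agent.ArtFunLib.HilbSit

/-!
# The local ring of a Hilbert scheme at a point pro-represents the local Hilbert functor
-/

set_option autoImplicit false
set_option linter.style.haveILetI false
set_option backward.isDefEq.respectTransparency false

universe u

open CategoryTheory CategoryTheory.Limits AlgebraicGeometry ArtFun ArtFun.Art

namespace Groth.Agent.DeformNL.HilbPoint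

variable {k : Type u} [Field k] {Y : Scheme.{u}} (y : Y ⟶ specPt k)

theorem hilbPull_eq_comap {T T' : Over (specPt k)} (g : T' ⟶ T) (I : (PicF.XT y T).IdealSheafData) :
    FGA.hilbPull y g I = I.comap (PicF.XTmap y g) := by
  rw [FGA.hilbPull, Scheme.IdealSheafData.comap, ← pullbackSymmetry_hom_comp_fst,
    Scheme.Hom.ker_comp_of_isIso]

theorem XTmap_fst {T T' : Over (specPt k)} (g : T' ⟶ T) :
    PicF.XTmap y g ≫ pullback.fst y T.hom = pullback.fst y T'.hom :=
  (pullback.lift_fst _ _ _).trans (Category.comp_id _)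

theorem XTmap_snd {T T' : Over (specPt k)} (g : T' ⟶ T) :
    PicF.XTmap y g ≫ pullback.snd y T.hom = pullback.snd y T'.hom ≫ g.left :=
  pullback.lift_snd _ _ _

theorem XTmap_comp {T T' T'' : Over (specPt k)} (g : T'' ⟶ T') (g' : T' ⟶ T) :
    PicF.XTmap y (g ≫ g') = PicF.XTmap y g ≫ PicF.XTmap y g' := by
  apply pullback.hom_ext
  · rw [XTmap_fst, Category.assoc, XTmap_fst, XTmap_fst]
  · rw [XTmap_snd, Category.assoc, XTmap_snd, ← Category.assoc, XTmap_snd, Category.assoc, Over.comp_left]

/-- The closed point of `Spec A` over `Spec k`. -/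
noncomputable def resOver (A : Art k k) : Over.mk (𝟙 (specPt k)) ⟶ Over.mk (specOver A) :=
  Over.homMk (specRes A) (by
    show specRes A ≫ specOver A = 𝟙 _
    rw [specRes_comp, ← Category.id_comp (specRes (base k k)), comp_specRes_base])

theorem XTmap_resOver (A : Art k k) :
    PicF.XTmap y (resOver A) = pullback.fst y (Over.mk (𝟙 (specPt k))).hom ≫ XAincl y A := by
  apply pullback.hom_ext
  · exact (XTmap_fst y (resOver A)).trans (((Category.assoc _ _ _).trans
      ((congrArg (pullback.fst y (Over.mk (𝟙 (specPt k))).hom ≫ ·) (XAincl_fst y A)).trans (Category.comp_id _))).symm)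
  · refine (XTmap_snd y (resOver A)).trans (((Category.assoc _ _ _).trans
      (congrArg (pullback.fst y (Over.mk (𝟙 (specPt k))).hom ≫ ·) (XAincl_snd y A))).trans ?_).symm
    exact (Category.assoc _ _ _).symm.trans (congrArg (· ≫ specRes A)
      ((pullback.condition (f := y) (g := (Over.mk (𝟙 (specPt k))).hom)).trans (Category.comp_id _)))

variable [IsProper y] (H : Over (specPt k)) (Z : FGA.HilbSet y H) (hH : FGA.HilbRepresentedBy y H Z)
  (I₀ : Y.IdealSheafData) (h : Over.mk (𝟙 (specPt k)) ⟶ H)
  (hh : FGA.hilbPull y h Z.1 = I₀.comap (pullback.fst y (Over.mk (𝟙 (specPt k))).hom))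

include hh in
/-- Morphisms at the point give embedded deformations. -/
theorem pull_mem (A : Art k k) (g : spec A ⟶ H.left) (hg : g ≫ H.hom = specOver A)
    (hg' : specRes A ≫ g = h.left) :
    FlatOver Y y A (FGA.hilbPull y (Over.homMk (U := Over.mk (specOver A)) g hg) Z.1) ∧
      (FGA.hilbPull y (Over.homMk (U := Over.mk (specOver A)) g hg) Z.1).comap (XAincl y A) = I₀ := by
  rw [hilbPull_eq_comap]
  constructor
  · have sq : IsPullback (PicF.XTmap y (Over.homMk (U := Over.mk (specOver A)) g hg)) (XApr y A)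
        (PicF.XTproj y H) g := by
      refine IsPullback.of_right (h₁₂ := pullback.fst y H.hom) (v₁₃ := y) (h₂₂ := H.hom) ?_
        (XTmap_snd y _) (IsPullback.of_hasPullback y H.hom)
      rw [hg, XTmap_fst]
      exact IsPullback.of_hasPullback y (specOver A)
    have sq2 : IsPullback (pullback.snd (PicF.XTmap y (Over.homMk (U := Over.mk (specOver A)) g hg)) Z.1.subschemeι)
        (pullback.fst (PicF.XTmap y (Over.homMk (U := Over.mk (specOver A)) g hg)) Z.1.subschemeι ≫ XApr y A)
        (Z.1.subschemeι ≫ PicF.XTproj y H) g :=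
      IsPullback.paste_vert (IsPullback.of_hasPullback _ Z.1.subschemeι).flip sq
    have hflat : Flat (pullback.fst (PicF.XTmap y (Over.homMk (U := Over.mk (specOver A)) g hg)) Z.1.subschemeι ≫
        XApr y A) := MorphismProperty.of_isPullback (P := @Flat) sq2 Z.2.2
    show Flat (_ ≫ XApr y A)
    rw [← Scheme.IdealSheafData.comapIso_hom_fst, Category.assoc]
    exact (MorphismProperty.cancel_left_of_respectsIso @Flat (Z.1.comapIso _).hom _).2 hflat
  · let s : Y ⟶ PicF.XT y (Over.mk (𝟙 (specPt k))) :=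
      pullback.lift (𝟙 Y) y (by simp)
    have e : XAincl y A ≫ PicF.XTmap y (Over.homMk (U := Over.mk (specOver A)) g hg) = s ≫ PicF.XTmap y h := by
      apply pullback.hom_ext <;> simp [XAincl, PicF.XTmap, s, hg']
    rw [← Scheme.IdealSheafData.comap_comp, e, Scheme.IdealSheafData.comap_comp, ← hilbPull_eq_comap, hh,
      ← Scheme.IdealSheafData.comap_comp, show s ≫ pullback.fst y (Over.mk (𝟙 (specPt k))).hom = 𝟙 Y from
        pullback.lift_fst _ _ _, Scheme.IdealSheafData.comap_id]

/-- The comparison map from morphisms at the point. -/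
noncomputable def pullMap (A : Art k k)
    (g : {g : spec A ⟶ H.left // g ≫ H.hom = specOver A ∧ specRes A ≫ g = h.left}) :
    (localHilb Y y I₀).obj A :=
  ⟨FGA.hilbPull y (Over.homMk (U := Over.mk (specOver A)) g.1 g.2.1) Z.1,
    pull_mem y H Z I₀ h hh A g.1 g.2.1 g.2.2⟩

theorem isProper_pr (A : Art k k) : IsProper (pullback.snd y (specOver A)) :=
  MorphismProperty.pullback_snd _ _ ‹IsProper y›

omit [IsProper y] in
theorem natural_aux {A B : Art k k} (f : A ⟶ B) (g : spec A ⟶ H.left) (g' : spec B ⟶ H.left)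
    (hg : g ≫ H.hom = specOver A) (hg' : g' ≫ H.hom = specOver B) (e : g' = specMap f ≫ g) :
    FGA.hilbPull y (Over.homMk (U := Over.mk (specOver B)) g' hg') Z.1 =
      (FGA.hilbPull y (Over.homMk (U := Over.mk (specOver A)) g hg) Z.1).comap (XAmap y f) := by
  let q : Over.mk (specOver B) ⟶ Over.mk (specOver A) := Over.homMk (specMap f) (specOver_comp f)
  have h1 : Over.homMk (U := Over.mk (specOver B)) g' hg' = q ≫ Over.homMk (U := Over.mk (specOver A)) g hg :=
    Over.OverMorphism.ext e
  have h2 : PicF.XTmap y q = XAmap y f := by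
    delta PicF.XTmap ArtFun.Art.XAmap
    rfl
  rw [h1, hilbPull_eq_comap, hilbPull_eq_comap, XTmap_comp, Scheme.IdealSheafData.comap_comp, h2]

include hH in
theorem injective_pullMap (A : Art k k) : Function.Injective (pullMap y H Z I₀ h hh A) := by
  haveI : IsLocallyNoetherian (Over.mk (specOver A)).left :=
    inferInstanceAs (IsLocallyNoetherian (Spec (CommRingCat.of (A : Type u))))
  haveI : IsProper (PicF.XTproj y (Over.mk (specOver A))) := isProper_pr y A
  intro g₁ g₂ e₁₂
  obtain ⟨u, -, hu⟩ := hH.2 (Over.mk (specOver A))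
    ⟨(pullMap y H Z I₀ h hh A g₂).1, inferInstance, (pullMap y H Z I₀ h hh A g₂).2.1⟩
  have := (hu (Over.homMk (U := Over.mk (specOver A)) g₁.1 g₁.2.1) (congrArg Subtype.val e₁₂)).trans
    (hu (Over.homMk (U := Over.mk (specOver A)) g₂.1 g₂.2.1) rfl).symm
  exact Subtype.ext (congrArg CommaMorphism.left this)

include hH in
theorem surjective_pullMap (A : Art k k) : Function.Surjective (pullMap y H Z I₀ h hh A) := by
  haveI : IsLocallyNoetherian (Over.mk (specOver A)).left :=
    inferInstanceAs (IsLocallyNoetherian (Spec (CommRingCat.of (A : Type u))))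
  haveI : IsProper (PicF.XTproj y (Over.mk (specOver A))) := isProper_pr y A
  haveI : IsLocallyNoetherian (Over.mk (𝟙 (specPt k))).left :=
    inferInstanceAs (IsLocallyNoetherian (Spec (CommRingCat.of k)))
  haveI : IsProper (PicF.XTproj y (Over.mk (𝟙 (specPt k)))) :=
    MorphismProperty.pullback_snd _ _ ‹IsProper y›
  intro I
  obtain ⟨u, hu, -⟩ := hH.2 (Over.mk (specOver A)) ⟨I.1, inferInstance, I.2.1⟩
  have hu' : FGA.hilbPull y u Z.1 = I.1 := hu
  have hr : FGA.hilbPull y (resOver A ≫ u) Z.1 = FGA.hilbPull y h Z.1 := by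
    rw [hilbPull_eq_comap, hh, XTmap_comp, Scheme.IdealSheafData.comap_comp,
      ← hilbPull_eq_comap y u Z.1, hu', XTmap_resOver, Scheme.IdealSheafData.comap_comp]
    exact congrArg (Scheme.IdealSheafData.comap · _) I.2.2
  have hY0 : Flat ((FGA.hilbPull y h Z.1).subschemeι ≫ PicF.XTproj y (Over.mk (𝟙 (specPt k)))) :=
    AssLib.flat_over_field (k := k) _
  obtain ⟨v, -, hv⟩ := hH.2 (Over.mk (𝟙 (specPt k))) ⟨FGA.hilbPull y h Z.1, inferInstance, hY0⟩
  have hrh : resOver A ≫ u = h := (hv (resOver A ≫ u) hr).trans (hv h rfl).symm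
  exact ⟨⟨u.left, Over.w u, congrArg CommaMorphism.left hrh⟩, Subtype.ext hu'⟩

include hH hh in
/-- The completed local ring at the point pro-represents the local Hilbert functor. -/
theorem exists_proRep :
    ∃ P : ProRep (localHilb Y y I₀),
      ringKrullDim P.ring.carrier = ringKrullDim (H.left.presheaf.stalk (h.left (IsLocalRing.closedPoint k))) ∧
      (IsRegularLocalRing P.ring.carrier ↔
        IsRegularLocalRing (H.left.presheaf.stalk (h.left (IsLocalRing.closedPoint k)))) ∧
      Module.finrank (IsLocalRing.ResidueField P.ring.carrier) (IsLocalRing.CotangentSpace P.ring.carrier) =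
        Module.finrank (IsLocalRing.ResidueField (H.left.presheaf.stalk (h.left (IsLocalRing.closedPoint k))))
          (IsLocalRing.CotangentSpace (H.left.presheaf.stalk (h.left (IsLocalRing.closedPoint k)))) ∧
      Nonempty (P.ring.carrier ≃+* AdicCompletion
        (IsLocalRing.maximalIdeal (H.left.presheaf.stalk (h.left (IsLocalRing.closedPoint k))))
        (H.left.presheaf.stalk (h.left (IsLocalRing.closedPoint k)))) := by
  haveI := hH.1
  obtain ⟨R, e, he, hd, hreg, hcot, hiso⟩ := PointRing.exists_point_ring H.left H.hom h.left (Over.w h)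
  refine ⟨⟨R, ⟨fun A φ => pullMap y H Z I₀ h hh A (e A φ), fun {A B} f φ => Subtype.ext ?_⟩,
    fun A => Function.Bijective.comp (g := pullMap y H Z I₀ h hh A)
      ⟨injective_pullMap y H Z hH I₀ h hh A, surjective_pullMap y H Z hH I₀ h hh A⟩ (e A).bijective⟩, hd, hreg, hcot, hiso⟩
  exact natural_aux y H Z f _ _ (e A φ).2.1 (e B (HomSet.map f φ)).2.1 (he A B f φ)

end Groth.Agent.DeformNL.HilbPoint
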