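import Groth.Agent.DeformNL.HilbNormal
import Groth.Agent.KFlatLib.Scheme.CohD
import Groth.Agent.DeformNL.HilbPoint
import Groth.Agent.ArtFunLib.Hull.Prorep
import Groth.Agent.ArtFunLib.HilbInjective

/-!
# The local Hilbert functor of a proper subscheme is pro-representable
-/

set_option autoImplicit false
set_option linter.style.haveILetI false
set_option backward.isDefEq.respectTransparency false
universe u

open CategoryTheory CategoryTheory.Limits AlgebraicGeometry ArtFun ArtFun.Art Opposite

namespace Groth.Agent.DeformNL.HilbFinite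

open Groth.Agent

variable {k : Type u} [Field k] {X Z : Scheme.{u}}

theorem hasSheafHom (M : Z.Modules) : DCoh.HasSheafHom M :=
  ((SheafHomX.adj M).ofNatIsoLeft ((KFlatLib.tensorBiFlipIso Z).app M)).isLeftAdjoint

/-- Global sections of the normal sheaf of a proper subscheme are finite dimensional. -/
theorem finite_normal [IsLocallyNoetherian X] [Z.Over (Spec (CommRingCat.of k))]
    [IsProper (Z ↘ Spec (CommRingCat.of k))] (i : Z ⟶ X) [IsClosedImmersion i]
    [DCoh.HasSheafHom (Omega.conormal i)] (n : ℕ) :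
    Module.Finite k (Coh.HH Z ((DCoh.sheafHom (Omega.conormal i)).obj (Coh.structureModule Z)) n) := by
  haveI : IsLocallyNoetherian Z := LocallyOfFiniteType.isLocallyNoetherian i
  exact CurveCohLib.finite_HH (KFlatLib.isCoh_of_iso ((HilbH1.sheafHomIso (Omega.conormal i)).app _).symm
    (SheafHomX.isCoh_hom (HilbH1.isCoh_conormal i) QCoh.isCoh_structureModule')) n

/-- Pro-representability from finiteness of the space of sections of the normal sheaf. -/
theorem isProrepresentable [IsLocallyNoetherian X] (x : X ⟶ specPt k) (i : Z ⟶ X) [IsClosedImmersion i]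
    [IsProper (i ≫ x)] : IsProrepresentable (localHilb X x i.ker) := by
  letI : X.Over (Spec (CommRingCat.of k)) := ⟨x⟩
  letI : Z.Over (Spec (CommRingCat.of k)) := ⟨i ≫ x⟩
  haveI : IsProper (Z ↘ Spec (CommRingCat.of k)) := ‹IsProper (i ≫ x)›
  haveI := hasSheafHom (Omega.conormal i)
  have h0 := HilbGlue.H0 x i.ker
  have h2 := HilbNormal.heps x i.ker
  obtain ⟨T⟩ := ArtFunLib.nonempty_tangentStr h0 h2
  letI := T
  obtain ⟨e⟩ := HilbNormal.nonempty_linearEquiv i (x := x) rfl rfl
  haveI := finite_normal (k := k) i 0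
  refine (ArtFunLib.Hull.isProrepresentable_iff (Function.surjective_id) h0).2
    ⟨fun _ _ _ _ p' p'' f' f'' h hs => (HilbGlue.bijective_cmp x i.ker p' p'' f' f'' h hs.1).2, h2,
      Module.Finite.equiv e.symm, fun _ _ _ p₁ p₂ f h hs => HilbGlue.bijective_cmp x i.ker p₁ p₂ f f h hs.1⟩

/-- Rigidity is the vanishing of the sections of the normal sheaf. -/
theorem rigid_iff (x : X ⟶ specPt k) (i : Z ⟶ X) [IsClosedImmersion i] [X.Over (Spec (CommRingCat.of k))]
    [Z.Over (Spec (CommRingCat.of k))] [DCoh.HasSheafHom (Omega.conormal i)] :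
    (∀ A : Art k k, Subsingleton ((localHilb X x i.ker).obj A)) ↔
      Subsingleton (Coh.HH Z ((DCoh.sheafHom (Omega.conormal i)).obj (Coh.structureModule Z)) 0) := by
  constructor
  · intro h
    exact ⟨fun a b => by
      obtain ⟨I, rfl⟩ := (HilbNormal.bijective_tanNormal i x).2 a
      obtain ⟨J, rfl⟩ := (HilbNormal.bijective_tanNormal i x).2 b
      rw [(h (dual k k)).elim I J]⟩
  · intro h A
    have hhom : Subsingleton (ClSub.idealMod i.ker ⟶ ClSub.quotMod i.ker) :=
      ⟨fun a b => (HilbNormal.bijective_toNormal i).1 (h.elim _ _)⟩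
    exact ⟨fun I J => ArtFunLib.HilbInjective.injective X x i.ker hhom (toBase A) A.res_surjective
      ((HilbGlue.H0 x i.ker).2.elim _ _)⟩

theorem isProper_of_projective {S : Scheme.{u}} (y : S ⟶ specPt k)
    (h : ∃ (n : ℕ) (c : S ⟶ CohB1.ProjSpaceOver n (Spec (CommRingCat.of k))),
      IsClosedImmersion c ∧ c ≫ CohB1.ProjSpaceOver.toBase n (Spec (CommRingCat.of k)) = y) : IsProper y := by
  obtain ⟨n, c, hc, rfl⟩ := h
  haveI := HilbImm.isProper_toBase n (Spec (CommRingCat.of k))
  infer_instance

/-- The cotangent space of the Hilbert scheme at a point. -/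
theorem finrank_cotangentSpace_stalk (y : X ⟶ specPt k) [IsProper y] (H : Over (specPt k)) (W : FGA.HilbSet y H)
    (hH : FGA.HilbRepresentedBy y H W) [Z.Over (Spec (CommRingCat.of k))] (i : Z ⟶ X) [IsClosedImmersion i]
    (hi : i ≫ y = Z ↘ Spec (CommRingCat.of k)) [DCoh.HasSheafHom (Omega.conormal i)]
    (h : Over.mk (𝟙 (specPt k)) ⟶ H)
    (hh : FGA.hilbPull y h W.1 = i.ker.comap (pullback.fst y (Over.mk (𝟙 (specPt k))).hom)) :
    Module.finrank (IsLocalRing.ResidueField (H.left.presheaf.stalk (h.left (IsLocalRing.closedPoint k))))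
        (IsLocalRing.CotangentSpace (H.left.presheaf.stalk (h.left (IsLocalRing.closedPoint k)))) =
      Module.finrank k (Coh.HH Z ((DCoh.sheafHom (Omega.conormal i)).obj (Coh.structureModule Z)) 0) := by
  letI : X.Over (Spec (CommRingCat.of k)) := ⟨y⟩
  obtain ⟨P, -, -, hcot, -⟩ := HilbPoint.exists_proRep y H W hH i.ker h hh
  rw [← hcot]
  exact HilbNormal.finrank_cotangentSpace_proRep i (x := y) rfl hi P

end Groth.Agent.DeformNL.HilbFinite
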