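import Groth.Agent.ArtFunLib.HilbIdeal
import Groth.Agent.DefGlueLib.Alg

/-!
# Embedded deformations glue along fibre products
-/

set_option autoImplicit false
set_option linter.style.haveILetI false
set_option backward.isDefEq.respectTransparency false
universe u

open CategoryTheory CategoryTheory.Limits AlgebraicGeometry ArtFun ArtFun.Art Opposite

namespace Groth.Agent.DeformNL.HilbGlue

open Groth.Agent Groth.Agent.ArtFunLib Groth.Agent.ArtFunLib.HilbAffine Groth.Agent.ArtFunLib.HilbSit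
  Groth.Agent.DefGlueLib

variable {k : Type u} [Field k] {X : Scheme.{u}} (x : X ⟶ specPt k) (I₀ : X.IdealSheafData)

/-- Scalars on an affine open of `X`. -/
noncomputable def c₀ (U : X.affineOpens) : k →+* Γ(X, U.1) :=
  (rho x (base k k) U).comp (c x (base k k) U)

theorem rho_c (B : Art k k) (U : X.affineOpens) (b : B) : rho x B U (c x B U b) = c₀ x U (B.res b) := by
  rw [← rho_pi x (toBase B) U, pi_c]
  rfl

theorem pi_comp {A B C : Art k k} (f : A ⟶ B) (g : B ⟶ C) (U : X.affineOpens) (a : Γ(XA x A, (W x A U).1)) :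
    pi x (f ≫ g) U a = pi x g U (pi x f U a) := by
  have h1 : (XAmap x f).appLE (W x A U).1 (W x B U).1 (pi_le x f U).le ≫
      (XAmap x g).appLE (W x B U).1 (W x C U).1 (pi_le x g U).le =
      (XAmap x (f ≫ g)).appLE (W x A U).1 (W x C U).1 (pi_le x (f ≫ g) U).le := by
    rw [Scheme.Hom.appLE_comp_appLE]
    exact appLE_congr (XAmap_comp x f g).symm _ _ _ _
  exact (congr($h1 a)).symm

theorem isAffineHom_map {B A : Art k k} (p : B ⟶ A) : IsAffineHom (XAmap x p) :=
  MorphismProperty.of_isPullback (P := @IsAffineHom) (isPullback_XAmap x p).flip inferInstance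

theorem isDef (B : Art k k) (U : X.affineOpens) : IsDef B (c₀ x U) (c x B U) (rho x B U) :=
  ⟨flat_c x B U, (rho_spec x B U).1, rho_c x B U, (rho_spec x B U).2.le⟩

variable {x I₀}

/-- Restriction to the closed fibre, on quotients. -/
noncomputable def rhoQ {B : Art k k} (I : (XA x B).IdealSheafData) (U : X.affineOpens) {J : Ideal Γ(X, U.1)}
    (h : (I.ideal (W x B U)).map (rho x B U) = J) : Γ(XA x B, (W x B U).1) ⧸ I.ideal (W x B U) →+* Γ(X, U.1) ⧸ J :=
  Ideal.quotientMap J (rho x B U) (Ideal.map_le_iff_le_comap.1 h.le)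

theorem map_rho_eq {B : Art k k} (I : (localHilb X x I₀).obj B) (U : X.affineOpens) :
    (I.1.ideal (W x B U)).map (rho x B U) = I₀.ideal U := by
  rw [← comap_incl_ideal, I.2.2]

theorem isDef_quot {B : Art k k} (I : (XA x B).IdealSheafData) (U : X.affineOpens)
    (hfl : ((Ideal.Quotient.mk (I.ideal (W x B U))).comp (c x B U)).Flat) {J : Ideal Γ(X, U.1)}
    (h : (I.ideal (W x B U)).map (rho x B U) = J) :
    IsDef B ((Ideal.Quotient.mk J).comp (c₀ x U)) ((Ideal.Quotient.mk (I.ideal (W x B U))).comp (c x B U))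
      (rhoQ I U h) := by
  refine ⟨hfl, fun y => ?_, fun b => congrArg (Ideal.Quotient.mk J) (rho_c x B U b), fun r hr => ?_⟩
  · obtain ⟨y, rfl⟩ := Ideal.Quotient.mk_surjective y
    obtain ⟨a, rfl⟩ := (rho_spec x B U).1 y
    exact ⟨Ideal.Quotient.mk _ a, rfl⟩
  · obtain ⟨r, rfl⟩ := Ideal.Quotient.mk_surjective r
    have hr' : rho x B U r ∈ (I.ideal (W x B U)).map (rho x B U) := h.symm ▸ Ideal.Quotient.eq_zero_iff_mem.1 hr
    obtain ⟨i, hi, hir⟩ := (Ideal.mem_map_iff_of_surjective _ (rho_spec x B U).1).1 hr'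
    have hm : r - i ∈ (IsLocalRing.maximalIdeal B).map (c x B U) := by
      rw [← (rho_spec x B U).2, RingHom.mem_ker, map_sub, hir, sub_self]
    rw [← Ideal.map_map]
    have h2 := Ideal.mem_map_of_mem (Ideal.Quotient.mk (I.ideal (W x B U))) hm
    rwa [map_sub, Ideal.Quotient.eq_zero_iff_mem.2 hi, sub_zero] at h2

variable (x I₀)

set_option maxHeartbeats 1000000 in
/-- The comparison map is bijective. -/
theorem bijective_cmp {B A A' A'' : Art k k} (p' : B ⟶ A') (p'' : B ⟶ A'') (f' : A' ⟶ A) (f'' : A'' ⟶ A)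
    (hB : IsFibreProd p' p'' f' f'') (hf : Function.Surjective f'') :
    Function.Bijective (cmp (localHilb X x I₀) hB) := by
  have hp' : Function.Surjective p' := ArtFunLib.fst_surjective hB hf
  have hw : ∀ U a, pi x f' U (pi x p' U a) = pi x f'' U (pi x p'' U a) := fun U a => by
    rw [← pi_comp, ← pi_comp, hB.w]
  haveI := isAffineHom_map x p'
  haveI := isAffineHom_map x p''
  -- the pairs
  let φ : ∀ {C D : Art k k} (g : C ⟶ D) (U : X.affineOpens) (I : Ideal Γ(XA x C, (W x C U).1))
      (J : Ideal Γ(XA x D, (W x D U).1)), I.map (pi x g U) ≤ J →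
      Γ(XA x C, (W x C U).1) ⧸ I →+* Γ(XA x D, (W x D U).1) ⧸ J := fun g U I J h =>
    Ideal.quotientMap J (pi x g U) (Ideal.map_le_iff_le_comap.1 h)
  have hmap : ∀ {C D : Art k k} (g : C ⟶ D) (I : (localHilb X x I₀).obj C) (J : (localHilb X x I₀).obj D),
      (localHilb X x I₀).map g I = J → ∀ U, (I.1.ideal (W x C U)).map (pi x g U) = J.1.ideal (W x D U) :=
    fun g I J h U => by rw [← comap_map_ideal, show I.1.comap (XAmap x g) = J.1 from congrArg Subtype.val h]
  have hI : ∀ (I' : (localHilb X x I₀).obj A') (I'' : (localHilb X x I₀).obj A'') (U : X.affineOpens),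
      (I'.1.map (XAmap x p') ⊓ I''.1.map (XAmap x p'')).ideal (W x B U) =
        (I'.1.ideal (W x A' U)).comap (pi x p' U) ⊓ (I''.1.ideal (W x A'' U)).comap (pi x p'' U) := fun I' I'' U => by
    rw [Scheme.IdealSheafData.ideal_inf]
    refine congrArg₂ (· ⊓ ·) (Ideal.ext fun a => ?_) (Ideal.ext fun a => ?_)
    · exact mem_map_iff (XAmap x p') I'.1 (W x B U) (W x A' U) (pi_le x p' U) (pi_le x p' U).le a
    · exact mem_map_iff (XAmap x p'') I''.1 (W x B U) (W x A'' U) (pi_le x p'' U) (pi_le x p'' U).le a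
  -- the ring computation over an affine open
  have key : ∀ (I' : (localHilb X x I₀).obj A') (I'' : (localHilb X x I₀).obj A''),
      (localHilb X x I₀).map f' I' = (localHilb X x I₀).map f'' I'' → ∀ U : X.affineOpens,
      (((I'.1.ideal (W x A' U)).comap (pi x p' U) ⊓ (I''.1.ideal (W x A'' U)).comap (pi x p'' U)).map
          (pi x p' U) = I'.1.ideal (W x A' U)) ∧
      (((I'.1.ideal (W x A' U)).comap (pi x p' U) ⊓ (I''.1.ideal (W x A'' U)).comap (pi x p'' U)).map
          (pi x p'' U) = I''.1.ideal (W x A'' U)) ∧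
      ((Ideal.Quotient.mk ((I'.1.ideal (W x A' U)).comap (pi x p' U) ⊓
          (I''.1.ideal (W x A'' U)).comap (pi x p'' U))).comp (c x B U)).Flat := by
    intro I' I'' hII U
    let J := (localHilb X x I₀).map f' I'
    have e' := hmap f' I' J rfl U
    have e'' := hmap f'' I'' J hII.symm U
    -- `R_B` is the fibre product
    let b₀ : B →+* fibRing (pi x f' U) (pi x f'' U) :=
      (((c x A' U).comp p'.toAlgHom.toRingHom).prod ((c x A'' U).comp p''.toAlgHom.toRingHom)).codRestrict _
        fun b => by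
          show pi x f' U (c x A' U (p' b)) = pi x f'' U (c x A'' U (p'' b))
          rw [pi_c, pi_c, hB.w_apply]
    let ψ : Γ(XA x B, (W x B U).1) →+* fibRing (pi x f' U) (pi x f'' U) :=
      ((pi x p' U).prod (pi x p'' U)).codRestrict _ fun a => hw U a
    have hfib := DefGlueLib.isDef_fib hB hf (isDef x A U) (isDef x A' U) (isDef x A'' U)
      (φ' := pi x f' U) (φ'' := pi x f'' U) (pi_c x f' U) (pi_c x f'' U) (rho_pi x f' U) (rho_pi x f'' U)
      (b := b₀) (fun _ => rfl) (fun _ => rfl)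
    have hψ : Function.Bijective ψ := (isDef x B U).bijective hfib ψ
      (fun b => Subtype.ext (Prod.ext (pi_c x p' U b) (pi_c x p'' U b))) (rho_pi x p' U)
    have hpair : ∀ a' a'', pi x f' U a' = pi x f'' U a'' → ∃ a, pi x p' U a = a' ∧ pi x p'' U a = a'' :=
      fun a' a'' h => (hψ.2 ⟨(a', a''), h⟩).imp fun a ha =>
        ⟨congrArg (fun z => z.1.1) ha, congrArg (fun z => z.1.2) ha⟩
    have hs : ∀ {C D : Art k k} (g : C ⟶ D) (I : (localHilb X x I₀).obj C) (K : (localHilb X x I₀).obj D),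
        (localHilb X x I₀).map g I = K → Function.Surjective g → ∀ d ∈ K.1.ideal (W x D U),
          ∃ i ∈ I.1.ideal (W x C U), pi x g U i = d := fun g I K h hg d hd =>
      (Ideal.mem_map_iff_of_surjective _ (pi_spec x g hg U).1).1 ((hmap g I K h U).symm ▸ hd)
    -- quotients
    let K := (I'.1.ideal (W x A' U)).comap (pi x p' U) ⊓ (I''.1.ideal (W x A'' U)).comap (pi x p'' U)
    let φ' := φ f' U _ _ e'.le
    let φ'' := φ f'' U _ _ e''.le
    let qb : B →+* fibRing φ' φ'' :=
      ((((Ideal.Quotient.mk _).comp (c x A' U)).comp p'.toAlgHom.toRingHom).prod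
        (((Ideal.Quotient.mk _).comp (c x A'' U)).comp p''.toAlgHom.toRingHom)).codRestrict _ fun b => by
          show Ideal.Quotient.mk _ (pi x f' U (c x A' U (p' b))) = Ideal.Quotient.mk _ (pi x f'' U (c x A'' U (p'' b)))
          rw [pi_c, pi_c, hB.w_apply]
    have hq := DefGlueLib.isDef_fib hB hf (isDef_quot J.1 U (flat_quotient x J.1 J.2.1 U) (map_rho_eq J U))
      (isDef_quot I'.1 U (flat_quotient x I'.1 I'.2.1 U) (map_rho_eq I' U))
      (isDef_quot I''.1 U (flat_quotient x I''.1 I''.2.1 U) (map_rho_eq I'' U))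
      (φ' := φ') (φ'' := φ'')
      (fun b => congrArg (Ideal.Quotient.mk _) (pi_c x f' U b))
      (fun b => congrArg (Ideal.Quotient.mk _) (pi_c x f'' U b))
      (fun r => (Ideal.Quotient.mk_surjective r).elim fun r hr => hr ▸ congrArg (Ideal.Quotient.mk _) (rho_pi x f' U r))
      (fun r => (Ideal.Quotient.mk_surjective r).elim fun r hr => hr ▸ congrArg (Ideal.Quotient.mk _) (rho_pi x f'' U r))
      (b := qb) (fun _ => rfl) (fun _ => rfl)
    let θ : Γ(XA x B, (W x B U).1) ⧸ K →+* fibRing φ' φ'' :=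
      Ideal.Quotient.lift K ((((Ideal.Quotient.mk _).comp (pi x p' U)).prod
        ((Ideal.Quotient.mk _).comp (pi x p'' U))).codRestrict _ fun a =>
          congrArg (Ideal.Quotient.mk (J.1.ideal (W x A U))) (hw U a)) fun a ha =>
        Subtype.ext (Prod.ext (Ideal.Quotient.eq_zero_iff_mem.2 ha.1) (Ideal.Quotient.eq_zero_iff_mem.2 ha.2))
    have hθ : Function.Bijective θ := by
      refine ⟨(injective_iff_map_eq_zero θ).2 fun a ha => ?_, ?_⟩
      · obtain ⟨a, rfl⟩ := Ideal.Quotient.mk_surjective a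
        exact Ideal.Quotient.eq_zero_iff_mem.2 ⟨Ideal.mem_comap.2 (Ideal.Quotient.eq_zero_iff_mem.1 (congrArg (fun z => z.1.1) ha)),
          Ideal.mem_comap.2 (Ideal.Quotient.eq_zero_iff_mem.1 (congrArg (fun z => z.1.2) ha))⟩
      · rintro ⟨⟨r', r''⟩, hr⟩
        obtain ⟨r', rfl⟩ := Ideal.Quotient.mk_surjective r'
        obtain ⟨r'', rfl⟩ := Ideal.Quotient.mk_surjective r''
        have hd : pi x f' U r' - pi x f'' U r'' ∈ J.1.ideal (W x A U) := Ideal.Quotient.eq.1 hr
        obtain ⟨i, hi, hi'⟩ := hs f'' I'' J hII.symm hf _ hd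
        obtain ⟨a, ha', ha''⟩ := hpair r' (r'' + i) (by rw [map_add, hi']; ring)
        refine ⟨Ideal.Quotient.mk K a, Subtype.ext (Prod.ext (congrArg (Ideal.Quotient.mk _) ha') ?_)⟩
        exact (congrArg (Ideal.Quotient.mk _) ha'').trans (Ideal.Quotient.eq.2 (by simpa using hi))
    refine ⟨le_antisymm (Ideal.map_le_iff_le_comap.2 inf_le_left) fun a' ha' => ?_, ?_, ?_⟩
    · obtain ⟨i, hi, hi'⟩ := hs f'' I'' J hII.symm hf (pi x f' U a') (e'.le (Ideal.mem_map_of_mem _ ha'))
      obtain ⟨a, rfl, rfl⟩ := hpair a' i hi'.symm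
      exact Ideal.mem_map_of_mem _ ⟨ha', hi⟩
    · refine le_antisymm (Ideal.map_le_iff_le_comap.2 inf_le_right) fun a'' ha'' => ?_
      have claim : ∀ y ∈ (I'.1.ideal (W x A' U)).map (pi x f' U),
          ∃ z ∈ ((I'.1.ideal (W x A' U)).comap (pi x p' U) ⊓
            (I''.1.ideal (W x A'' U)).comap (pi x p'' U)).map (pi x p'' U), pi x f'' U z = y := by
        intro y hy
        induction hy using Submodule.span_induction with
        | mem y hy =>
          obtain ⟨i, hi, rfl⟩ := hy
          obtain ⟨j, hj, hj'⟩ := hs f'' I'' J hII.symm hf _ (e'.le (Ideal.mem_map_of_mem _ hi))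
          obtain ⟨a, rfl, rfl⟩ := hpair i j hj'.symm
          exact ⟨_, Ideal.mem_map_of_mem _ ⟨hi, hj⟩, hj'⟩
        | zero => exact ⟨0, zero_mem _, map_zero _⟩
        | add _ _ _ _ h₁ h₂ =>
          obtain ⟨z₁, m₁, rfl⟩ := h₁
          obtain ⟨z₂, m₂, rfl⟩ := h₂
          exact ⟨z₁ + z₂, add_mem m₁ m₂, map_add _ _ _⟩
        | smul r _ _ h =>
          obtain ⟨z, m, rfl⟩ := h
          obtain ⟨r, rfl⟩ := (pi_spec x f'' hf U).1 r
          exact ⟨r * z, Ideal.mul_mem_left _ _ m, map_mul _ _ _⟩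
      obtain ⟨z, hz, hzy⟩ := claim _ (e'.symm ▸ e''.le (Ideal.mem_map_of_mem _ ha''))
      obtain ⟨a, ha0, hae⟩ := hpair 0 (a'' - z) (by rw [map_zero, map_sub, hzy, sub_self])
      rw [← sub_add_cancel a'' z, ← hae]
      refine add_mem (Ideal.mem_map_of_mem _ ⟨?_, ?_⟩) hz
      · rw [SetLike.mem_coe, Ideal.mem_comap, ha0]; exact zero_mem _
      · rw [SetLike.mem_coe, Ideal.mem_comap, hae]
        exact sub_mem ha'' (Ideal.map_le_iff_le_comap.2 inf_le_right hz)
    · have h := hq.flat.comp (RingHom.Flat.of_bijective (f := (RingEquiv.ofBijective θ hθ).symm.toRingHom)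
        (RingEquiv.ofBijective θ hθ).symm.bijective)
      refine (congrArg RingHom.Flat (RingHom.ext fun b => ?_)).mp h
      show (RingEquiv.ofBijective θ hθ).symm (qb b) = _
      refine (RingEquiv.ofBijective θ hθ).symm_apply_eq.2 (Subtype.ext (Prod.ext ?_ ?_))
      · exact (congrArg (Ideal.Quotient.mk _) (pi_c x p' U b)).symm
      · exact (congrArg (Ideal.Quotient.mk _) (pi_c x p'' U b)).symm
  refine ⟨fun I J hIJ => ?_, ?_⟩
  · obtain ⟨h1, h2⟩ := Prod.ext_iff.1 (congrArg Subtype.val hIJ)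
    have hII : (localHilb X x I₀).map f' ((localHilb X x I₀).map p' I) =
        (localHilb X x I₀).map f'' ((localHilb X x I₀).map p'' I) := (cmp (localHilb X x I₀) hB I).2
    have eq : ∀ L : (localHilb X x I₀).obj B, (localHilb X x I₀).map p' L = (localHilb X x I₀).map p' I →
        (localHilb X x I₀).map p'' L = (localHilb X x I₀).map p'' I → ∀ U, L.1.ideal (W x B U) =
          (((localHilb X x I₀).map p' I).1.ideal (W x A' U)).comap (pi x p' U) ⊓
            (((localHilb X x I₀).map p'' I).1.ideal (W x A'' U)).comap (pi x p'' U) := by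
      intro L hL' hL'' U
      have m' := hmap p' L _ hL' U
      have m'' := hmap p'' L _ hL'' U
      obtain ⟨k1, -, k3⟩ := key _ _ hII U
      rw [← hI _ _ U] at k1 k3 ⊢
      have hle : L.1.ideal (W x B U) ≤
          (((localHilb X x I₀).map p' I).1.map (XAmap x p') ⊓
            ((localHilb X x I₀).map p'' I).1.map (XAmap x p'')).ideal (W x B U) := by
        rw [hI]
        exact le_inf (Ideal.map_le_iff_le_comap.1 m'.le) (Ideal.map_le_iff_le_comap.1 m''.le)
      have hK0 : ((((localHilb X x I₀).map p' I).1.map (XAmap x p') ⊓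
            ((localHilb X x I₀).map p'' I).1.map (XAmap x p'')).ideal (W x B U)).map (rho x B U) =
          I₀.ideal U := by
        rw [← map_rho_eq ((localHilb X x I₀).map p' I) U, ← k1, Ideal.map_map]
        exact congrArg (Ideal.map · _) (RingHom.ext fun a => (rho_pi x p' U a).symm)
      have hbij := (isDef_quot L.1 U (flat_quotient x L.1 L.2.1 U) (map_rho_eq L U)).bijective
        (isDef_quot _ U k3 hK0) (Ideal.Quotient.factor hle) (fun b => rfl)
        (fun r => (Ideal.Quotient.mk_surjective r).elim fun r hr => hr ▸ rfl)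
      refine le_antisymm hle fun a ha => Ideal.Quotient.eq_zero_iff_mem.1 (hbij.1 ?_)
      rw [map_zero]
      exact Ideal.Quotient.eq_zero_iff_mem.2 ha
    exact Subtype.ext (ext_ideal x fun U => (eq I rfl rfl U).trans (eq J h1.symm h2.symm U).symm)
  · rintro ⟨⟨I', I''⟩, hII⟩
    let I := I'.1.map (XAmap x p') ⊓ I''.1.map (XAmap x p'')
    have hmapI : ∀ U, (I.ideal (W x B U)).map (pi x p' U) = I'.1.ideal (W x A' U) := fun U => by
      rw [hI I' I'' U]; exact (key I' I'' hII U).1
    have hc' : I.comap (XAmap x p') = I'.1 := ext_ideal x fun U => by rw [comap_map_ideal, hmapI]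
    have hc'' : I.comap (XAmap x p'') = I''.1 := ext_ideal x fun U => by
      rw [comap_map_ideal, hI I' I'' U]; exact (key I' I'' hII U).2.1
    refine ⟨⟨I, HilbIdeal.flat_of_ideals I fun U => ?_, ?_⟩, Subtype.ext (Prod.ext (Subtype.ext hc') (Subtype.ext hc''))⟩
    · rw [hI I' I'' U]; exact (key I' I'' hII U).2.2
    · rw [← XAincl_XAmap x p', Scheme.IdealSheafData.comap_comp, hc', I'.2.2]

theorem injective_rho_base (U : X.affineOpens) : Function.Injective (rho x (base k k) U) := by
  rw [RingHom.injective_iff_ker_eq_bot, (rho_spec x (base k k) U).2,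
    show IsLocalRing.maximalIdeal (base k k) = ⊥ from IsLocalRing.maximalIdeal_eq_bot (R := k), Ideal.map_bot]

theorem H0 : ArtFun.H0 (localHilb X x I₀) := by
  haveI := isAffineHom_incl x (base k k)
  have hideal : ∀ U, (I₀.map (XAincl x (base k k))).ideal (W x (base k k) U) =
      (I₀.ideal U).comap (rho x (base k k) U) := fun U => Ideal.ext fun a =>
    mem_map_iff (XAincl x (base k k)) I₀ (W x (base k k) U) U (rho_le x (base k k) U) (rho_le x (base k k) U).le a
  have hflat : ∀ (R : Type u) [CommRing R] (f : k →+* R), f.Flat := fun R _ f => by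
    letI := f.toAlgebra
    exact (inferInstance : Module.Flat k R)
  refine ⟨⟨⟨I₀.map (XAincl x (base k k)), HilbIdeal.flat_of_ideals _ fun U => hflat _ _, ?_⟩⟩, ⟨fun I J => ?_⟩⟩
  · refine Scheme.IdealSheafData.ext (funext fun U => ?_)
    rw [comap_incl_ideal, hideal, Ideal.map_comap_of_surjective _ (rho_spec x (base k k) U).1]
  · refine Subtype.ext (ext_ideal x fun U => ?_)
    have h : ∀ L : (localHilb X x I₀).obj (base k k),
        L.1.ideal (W x (base k k) U) = (I₀.ideal U).comap (rho x (base k k) U) := fun L => by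
      rw [← map_rho_eq L U, Ideal.comap_map_of_bijective _ ⟨injective_rho_base x U, (rho_spec x (base k k) U).1⟩]
    rw [h I, h J]

end Groth.Agent.DeformNL.HilbGlue
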