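import Groth.Agent.DeformNL.HilbLocSmooth
import Groth.Agent.KRegLib.Kinds

/-!
# Local complete intersections are locally liftable
-/

set_option autoImplicit false
set_option linter.style.haveILetI false
set_option backward.isDefEq.respectTransparency false
universe u

open CategoryTheory CategoryTheory.Limits AlgebraicGeometry ArtFun ArtFun.Art Opposite

namespace Groth.Agent.DeformNL.HilbGood

open Groth.Agent Groth.Agent.ArtFunLib Groth.Agent.ArtFunLib.HilbAffine

/-- All relations among an `H₁`-regular family lift. -/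
theorem exists_lift_relation {R : Type*} {R₀ : Type u} [CommRing R] [CommRing R₀] (ρ : R →+* R₀)
    (hρ : Function.Surjective ρ) {n : ℕ} (α : Fin n → R) (h : CAlgX.IsH1Regular fun i => ρ (α i))
    (a : Fin n → R₀) (ha : ∑ i, a i * ρ (α i) = 0) :
    ∃ a' : Fin n → R, (∀ i, ρ (a' i) = a i) ∧ ∑ i, a' i * α i = 0 := by
  classical
  have hm := h a ha
  clear ha
  induction hm using Submodule.span_induction with
  | mem v hv =>
    obtain ⟨i, j, rfl⟩ := hv
    refine ⟨Pi.single i (α j) - Pi.single j (α i), fun l => ?_, ?_⟩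
    · simp only [Pi.sub_apply, map_sub, Pi.apply_single (fun _ => ρ) (fun _ => map_zero ρ)]
    · simp only [Pi.sub_apply, sub_mul, Finset.sum_sub_distrib, Pi.single_apply, ite_mul, zero_mul,
        Finset.sum_ite_eq', Finset.mem_univ, if_true]
      ring
  | zero => exact ⟨0, fun i => map_zero ρ, by simp⟩
  | add v w _ _ hv hw =>
    obtain ⟨a', ha', ha'0⟩ := hv
    obtain ⟨b', hb', hb'0⟩ := hw
    exact ⟨a' + b', fun i => by simp [ha', hb'], by simp [add_mul, Finset.sum_add_distrib, ha'0, hb'0]⟩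
  | smul r v _ hv =>
    obtain ⟨a', ha', ha'0⟩ := hv
    obtain ⟨r', rfl⟩ := hρ r
    exact ⟨r' • a', fun i => by simp [ha'], by simp [mul_assoc, ← Finset.mul_sum, ha'0]⟩

variable {k : Type u} [Field k] {X : Scheme.{u}} (x : X ⟶ specPt k) {I₀ : X.IdealSheafData}

theorem map_rho {B A : Art k k} (p : B ⟶ A) (hp : Function.Surjective p) (IA : (localHilb X x I₀).obj A)
    (P : (XA x B).IdealSheafData) (hP : ∀ V, P.ideal (W x B V) = (IA.1.ideal (W x A V)).comap (pi x p V))
    (U : X.affineOpens) : (P.ideal (W x B U)).map (rho x B U) = I₀.ideal U := by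
  rw [hP, show rho x B U = (rho x A U).comp (pi x p U) from RingHom.ext fun a => (HilbSit.rho_pi x p U a).symm,
    ← Ideal.map_map, Ideal.map_comap_of_surjective _ (pi_spec x p hp U).1, ← comap_incl_ideal, IA.2.2]

theorem goodLocal_of_h1 {B : Art k k} (P : (XA x B).IdealSheafData) (U : X.affineOpens)
    (hmap : (P.ideal (W x B U)).map (rho x B U) = I₀.ideal U) {n : ℕ} (f : Fin n → Γ(X, U.1))
    (hf : CAlgX.IsH1Regular f) (hspan : I₀.ideal U = Ideal.span (Set.range f)) :
    HilbLoc.GoodLocal P I₀ U := by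
  have hlift : ∀ i, ∃ a ∈ P.ideal (W x B U), rho x B U a = f i := fun i =>
    (Ideal.mem_map_iff_of_surjective _ (rho_spec x B U).1).1
      (hmap.symm ▸ hspan.symm ▸ Ideal.subset_span ⟨i, rfl⟩)
  choose α hαP hα using hlift
  have he : (fun i => rho x B U (α i)) = f := funext hα
  refine ⟨n, α, hαP, by rw [he, hspan], fun a ha => ?_⟩
  obtain ⟨a', ha', h0⟩ := exists_lift_relation (rho x B U) (rho_spec x B U).1 α (by rw [he]; exact hf) a ha
  exact ⟨a', ha', h0 ▸ zero_mem _⟩

/-- Near a point outside the closed subscheme the ideal is the unit ideal. -/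
theorem exists_ideal_eq_top {y : X} (hy : y ∉ I₀.support) :
    ∃ U : X.affineOpens, y ∈ U.1 ∧ I₀.ideal U = ⊤ := by
  obtain ⟨_, ⟨V, hV, rfl⟩, hyV, -⟩ := X.isBasis_affineOpens.exists_subset_of_mem_open (Set.mem_univ y) isOpen_univ
  let V' : X.affineOpens := ⟨V, hV⟩
  rw [Scheme.IdealSheafData.mem_support_iff_of_mem (U := V') hyV, Scheme.zeroLocus_def] at hy
  simp only [Set.mem_iInter, Set.mem_compl_iff, SetLike.mem_coe, not_forall, not_not] at hy
  obtain ⟨f, hf, hyf⟩ := hy
  refine ⟨X.affineBasicOpen f, hyf, ?_⟩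
  rw [← I₀.map_ideal_basicOpen V' f]
  refine Ideal.eq_top_of_isUnit_mem _ (Ideal.mem_map_of_mem _ hf) ?_
  exact X.toRingedSpace.isUnit_res_basicOpen f

/-- A closed subscheme locally cut out by `H₁`-regular families is locally liftable. -/
theorem locallyLiftable (hlci : ∀ y ∈ I₀.support, ∃ U : X.affineOpens, y ∈ U.1 ∧
      ∃ (n : ℕ) (f : Fin n → Γ(X, U.1)), CAlgX.IsH1Regular f ∧ I₀.ideal U = Ideal.span (Set.range f)) :
    HilbLocSmooth.LocallyLiftable X x I₀ := by
  intro B A p hp IA y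
  by_cases hy : y ∈ I₀.support
  · obtain ⟨U, hyU, n, f, hf, hspan⟩ := hlci y hy
    exact ⟨U, hyU, fun P hP => goodLocal_of_h1 x P U (map_rho x p hp.1 IA P hP U) f hf hspan⟩
  · obtain ⟨U, hyU, htop⟩ := exists_ideal_eq_top hy
    refine ⟨U, hyU, fun P hP => goodLocal_of_h1 x P U (map_rho x p hp.1 IA P hP U) (fun _ : Fin 1 => 1)
      (fun a ha => ?_) (by rw [htop, Set.range_const, Ideal.span_singleton_one])⟩
    have : a = 0 := funext fun i => by
      rw [Fin.sum_univ_one, mul_one] at ha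
      rw [Subsingleton.elim i 0, ha, Pi.zero_apply]
    rw [this]
    exact zero_mem _

theorem ofList_eq {R : Type u} [CommRing R] (rs : List R) :
    Ideal.ofList rs = Ideal.span (Set.range rs.get) := by
  rw [Ideal.ofList]
  congr 1
  ext a
  simp [List.mem_iff_get]

theorem lci_of_isRegularClosedImmersion (I : X.IdealSheafData) (h : Mor2.IsRegularClosedImmersion I.subschemeι) :
    ∀ y ∈ I.support, ∃ U : X.affineOpens, y ∈ U.1 ∧
      ∃ (n : ℕ) (f : Fin n → Γ(X, U.1)), CAlgX.IsH1Regular f ∧ I.ideal U = Ideal.span (Set.range f) := by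
  intro y hy
  obtain ⟨z, rfl⟩ : y ∈ Set.range I.subschemeι := by rw [I.range_subschemeι]; exact hy
  obtain ⟨U, hU, hz, rs, hrs, hI⟩ := h.2 z
  rw [Scheme.IdealSheafData.ker_subschemeι] at hI
  exact ⟨⟨U, hU⟩, hz, rs.length, rs.get, KRegLib.seq_of_isRegular .h1 rs hrs, hI.trans (ofList_eq rs)⟩

theorem lci_of_isRegularIdeal (I : X.IdealSheafData) (h : RegImm.IsRegularIdeal RegImm.Kind.koszul I) :
    ∀ y ∈ I.support, ∃ U : X.affineOpens, y ∈ U.1 ∧
      ∃ (n : ℕ) (f : Fin n → Γ(X, U.1)), CAlgX.IsH1Regular f ∧ I.ideal U = Ideal.span (Set.range f) := by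
  intro y hy
  obtain ⟨U, hyU, rs, hrs, hI⟩ := h y hy
  exact ⟨U, hyU, rs.length, rs.get, KRegLib.h1_of_koszul rs hrs, hI.trans (ofList_eq rs)⟩

end Groth.Agent.DeformNL.HilbGood
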