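import Groth.Agent.SheafHomX.Coherent
import Groth.Agent.KFlatLib.Perfect.Amplitude
import Groth.Agent.QCoh.AffineCohom
import Groth.Agent.ZClosLib.CohDescent
import Groth.Agent.ParShLib.ResStalk
import Groth.Prelude.Def_DCoh4
import Groth.Prelude.Def_Omega2

/-!
# The normal sheaf seen on the ambient scheme
-/

set_option linter.style.haveILetI false
set_option backward.isDefEq.respectTransparency false
set_option backward.isDefEq.respectTransparency.types false

universe u

open CategoryTheory CategoryTheory.Limits AlgebraicGeometry Opposite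

namespace Groth.Agent.DeformNL.HilbH1

open Groth.Agent

variable {X Z : Scheme.{u}}

/-- `hom(i^*F, -)` followed by direct image is direct image followed by `hom(F, -)`. -/
noncomputable def pushHomIso (i : Z ⟶ X) (F : X.Modules) :
    SheafHomX.hom ((Scheme.Modules.pullback i).obj F) ⋙ Scheme.Modules.pushforward i ≅
      Scheme.Modules.pushforward i ⋙ SheafHomX.hom F :=
  (((Scheme.Modules.pullbackPushforwardAdjunction i).comp (SheafHomX.adj ((Scheme.Modules.pullback i).obj F))).ofNatIsoLeft
      (KFlatLib.pullTensorRightIso i F).symm).rightAdjointUniq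
    ((SheafHomX.adj F).comp (Scheme.Modules.pullbackPushforwardAdjunction i))

/-- The two internal `Hom`s agree. -/
noncomputable def sheafHomIso (F : X.Modules) [DCoh.HasSheafHom F] : DCoh.sheafHom F ≅ SheafHomX.hom F :=
  (DCoh.sheafHomAdj F).rightAdjointUniq ((SheafHomX.adj F).ofNatIsoLeft ((KFlatLib.tensorBiFlipIso X).app F))

theorem subsingleton_of_iso {M N : X.Modules} (e : M ≅ N) (n : ℕ) (h : Subsingleton (Coh.HH X M n)) :
    Subsingleton (Coh.HH X N n) :=
  ⟨fun a b => by
    have key : ∀ z, Sheaf.H.map ((SheafOfModules.toSheaf _).map e.hom) n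
        (Sheaf.H.map ((SheafOfModules.toSheaf _).map e.inv) n z) = z := fun z => by
      rw [← Sheaf.H.map_comp_apply, ← Functor.map_comp, Iso.inv_hom_id, CategoryTheory.Functor.map_id,
        Sheaf.H.map_id_apply]
    rw [← key a, ← key b, h.elim (Sheaf.H.map ((SheafOfModules.toSheaf _).map e.inv) n a)]⟩

theorem isCoh_idealMod [IsLocallyNoetherian X] (I : X.IdealSheafData) : Coh.IsCoh (ClSub.idealMod I) :=
  QCoh.isCoh_kernel QCoh.isCoh_structureModule' (ParShLib.isCoh_quotMod I) _

theorem isCoh_conormal [IsLocallyNoetherian X] (i : Z ⟶ X) [IsClosedImmersion i] :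
    Coh.IsCoh (Omega.conormal i) := by
  haveI : IsLocallyNoetherian Z := LocallyOfFiniteType.isLocallyNoetherian i
  exact ZClosLib.isCoh_pullback i (isCoh_idealMod i.ker)

/-- Vanishing of `H¹` of the normal sheaf, on the ambient scheme. -/
theorem subsingleton_hom_H [IsLocallyNoetherian X] (i : Z ⟶ X) [IsClosedImmersion i]
    [DCoh.HasSheafHom (Omega.conormal i)] (n : ℕ)
    (h : Subsingleton (Coh.HH Z ((DCoh.sheafHom (Omega.conormal i)).obj (Coh.structureModule Z)) n)) :
    Subsingleton (Coh.HH X ((SheafHomX.hom (ClSub.idealMod i.ker)).obj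
      ((Scheme.Modules.pushforward i).obj (Coh.structureModule Z))) n) := by
  haveI : IsLocallyNoetherian Z := LocallyOfFiniteType.isLocallyNoetherian i
  have h1 := subsingleton_of_iso ((sheafHomIso (Omega.conormal i)).app _) n h
  obtain ⟨e⟩ := QCoh.HH_push_of_isAffineHom i
    (SheafHomX.isCoh_hom (isCoh_conormal i) QCoh.isCoh_structureModule').1 n
  exact subsingleton_of_iso ((pushHomIso i (ClSub.idealMod i.ker)).app (Coh.structureModule Z)) n
    e.symm.subsingleton

/-- The same for the closed subscheme of an ideal sheaf. -/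
theorem subsingleton_hom_H_subscheme [IsLocallyNoetherian X] (I : X.IdealSheafData)
    [DCoh.HasSheafHom (Omega.conormal I.subschemeι)] (n : ℕ)
    (h : Subsingleton (Coh.HH I.subscheme ((DCoh.sheafHom (Omega.conormal I.subschemeι)).obj
      (Coh.structureModule I.subscheme)) n)) :
    Subsingleton (Coh.HH X ((SheafHomX.hom (ClSub.idealMod I)).obj (ClSub.quotMod I)) n) := by
  have h2 := subsingleton_hom_H I.subschemeι n h
  rwa [Scheme.IdealSheafData.ker_subschemeι] at h2

end Groth.Agent.DeformNL.HilbH1
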