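import Groth.Agent.DeformNL.HilbCM
import Groth.Agent.DeformNL.HilbH1
import Groth.Agent.DeformNL.HullBounds
import Groth.Agent.H23.PullPush
import Groth.Agent.DeformNL.Factor
import Groth.Agent.CMClosed.Basic

/-!
# Smoothness of the local Hilbert functor of a closed immersion
-/

set_option autoImplicit false
set_option linter.style.haveILetI false
set_option backward.isDefEq.respectTransparency false
universe u

open CategoryTheory CategoryTheory.Limits AlgebraicGeometry ArtFun ArtFun.Art Opposite

namespace Groth.Agent.DeformNL.HilbImm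

open Groth.Agent

variable {k : Type u} [Field k] {X Z : Scheme.{u}} (i : Z ⟶ X) [IsClosedImmersion i]

theorem bijective_app {S T : Scheme.{u}} (f : S ⟶ T) [IsIso f] (U : T.Opens) : Function.Bijective (f.app U) :=
  ConcreteCategory.bijective_of_isIso (f.app U)

/-- The direct image of the structure sheaf of a closed immersion is the quotient by its ideal. -/
noncomputable def quotModIso :
    (Scheme.Modules.pushforward i).obj (Coh.structureModule Z) ≅ ClSub.quotMod i.ker :=
  (Scheme.Modules.pushforwardCongr (f := i) (g := i.toImage ≫ i.ker.subschemeι) i.toImage_imageι.symm).app _ ≪≫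
    ((Scheme.Modules.pushforwardComp i.toImage i.ker.subschemeι).symm.app _) ≪≫
      (Scheme.Modules.pushforward i.ker.subschemeι).mapIso
        (H23.PullPush.structureModuleIsoPush i.toImage (fun U => bijective_app i.toImage U)).symm

theorem extends_of_h1 [IsLocallyNoetherian X] (x : X ⟶ specPt k) [DCoh.HasSheafHom (Omega.conormal i)]
    (h : Subsingleton (Coh.HH Z ((DCoh.sheafHom (Omega.conormal i)).obj (Coh.structureModule Z)) 1)) :
    HilbLoc.Extends (x := x) i.ker :=
  HilbLoc.extends_of_h1 i.ker (HilbH1.subsingleton_of_iso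
    ((SheafHomX.hom (ClSub.idealMod i.ker)).mapIso (quotModIso i)) 1 (HilbH1.subsingleton_hom_H i 1 h))

theorem lci_ker (h : Mor2.IsRegularClosedImmersion i) :
    ∀ y ∈ i.ker.support, ∃ U : X.affineOpens, y ∈ U.1 ∧
      ∃ (n : ℕ) (f : Fin n → Γ(X, U.1)), CAlgX.IsH1Regular f ∧ i.ker.ideal U = Ideal.span (Set.range f) := by
  intro y hy
  obtain ⟨z, rfl⟩ : y ∈ Set.range i := by
    have := (Scheme.Hom.support_ker i).le hy
    rwa [i.isClosedEmbedding.isClosed_range.closure_eq] at this
  obtain ⟨U, hU, hz, rs, hrs, hI⟩ := h.2 z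
  exact ⟨⟨U, hU⟩, hz, rs.length, rs.get, KRegLib.seq_of_isRegular .h1 rs hrs, hI.trans (HilbGood.ofList_eq rs)⟩

theorem isSmoothFunctor_of_lci [IsLocallyNoetherian X] (x : X ⟶ specPt k) [DCoh.HasSheafHom (Omega.conormal i)]
    (hreg : Mor2.IsRegularClosedImmersion i)
    (h : Subsingleton (Coh.HH Z ((DCoh.sheafHom (Omega.conormal i)).obj (Coh.structureModule Z)) 1)) :
    IsSmoothFunctor (localHilb X x i.ker) :=
  HilbLocSmooth.isSmooth X x i.ker (extends_of_h1 i x h) (HilbGood.locallyLiftable x (lci_ker i hreg))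

theorem locallyLiftable_of_cm (x : X ⟶ specPt k) [Smooth x]
    (hCM : ∀ z : Z, LocCoh.IsCohenMacaulayLocalRing (Z.presheaf.stalk z))
    (hcodim : ∀ z : Z, ringKrullDim (Z.presheaf.stalk z) + 2 = ringKrullDim (X.presheaf.stalk (i.base z))) :
    HilbLocSmooth.LocallyLiftable X x i.ker := by
  have key : ∀ y : i.ker.subscheme,
      LocCoh.IsCohenMacaulayLocalRing (i.ker.subscheme.presheaf.stalk y) ∧
        ringKrullDim (i.ker.subscheme.presheaf.stalk y) + 2 = ringKrullDim (X.presheaf.stalk (i.ker.subschemeι.base y)) := by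
    intro y
    obtain ⟨z, rfl⟩ : ∃ z, i.toImage z = y := (asIso i.toImage).hom.surjective y
    haveI := hCM z
    let e := (asIso (i.toImage.stalkMap z)).commRingCatIsoToRingEquiv
    refine ⟨CMClosed.of_ringEquiv e.symm, ?_⟩
    rw [ringKrullDim_eq_of_ringEquiv e, hcodim z]
    have : i.ker.subschemeι (i.toImage z) = i z := congr($(i.toImage_imageι) z)
    show _ = ringKrullDim (X.presheaf.stalk (i.ker.subschemeι (i.toImage z)))
    rw [this]
  exact HilbCM.locallyLiftable x (fun y => (key y).1) fun y => (key y).2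

theorem isSmoothFunctor_of_cm [IsLocallyNoetherian X] (x : X ⟶ specPt k) [Smooth x]
    [DCoh.HasSheafHom (Omega.conormal i)]
    (hCM : ∀ z : Z, LocCoh.IsCohenMacaulayLocalRing (Z.presheaf.stalk z))
    (hcodim : ∀ z : Z, ringKrullDim (Z.presheaf.stalk z) + 2 = ringKrullDim (X.presheaf.stalk (i.base z)))
    (h : Subsingleton (Coh.HH Z ((DCoh.sheafHom (Omega.conormal i)).obj (Coh.structureModule Z)) 1)) :
    IsSmoothFunctor (localHilb X x i.ker) :=
  HilbLocSmooth.isSmooth X x i.ker (extends_of_h1 i x h) (locallyLiftable_of_cm i x hCM hcodim)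

/-- A smooth pro-representable functor has regular coefficient ring. -/
theorem isRegularLocalRing_of_proRep {F : Art k k ⥤ Type u} (P : ProRep F) (h : IsSmoothFunctor F) :
    IsRegularLocalRing P.ring.carrier ∧
      ringKrullDim P.ring.carrier =
        (Module.finrank (IsLocalRing.ResidueField P.ring.carrier) (IsLocalRing.CotangentSpace P.ring.carrier) : WithBot ℕ∞) := by
  have hsm : IsSmoothFunctor (hR P.ring.carrier P.ring.res) := by
    intro B A μ hμ φ
    obtain ⟨z, hz⟩ := h μ hμ (P.family.app A φ)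
    obtain ⟨ψ, rfl⟩ := (P.universal B).2 z
    exact ⟨ψ, (P.universal A).1 ((P.family.natural μ ψ).trans hz)⟩
  have hd := (HullBounds.ring_bounds P.ring).2.2.2 hsm
  refine ⟨IsRegularLocalRing.of_spanFinrank_maximalIdeal_le _ ?_, hd⟩
  rw [hd, IsLocalRing.spanFinrank_maximalIdeal_eq_finrank_cotangentSpace]

theorem smooth_toBase (n : ℕ) (S : Scheme.{u}) : Smooth (CohB1.ProjSpaceOver.toBase n S) :=
  MorphismProperty.pullback_snd _ _ (PnRing.smooth_toSpec n _)

theorem isProper_toBase (n : ℕ) (S : Scheme.{u}) : IsProper (CohB1.ProjSpaceOver.toBase n S) :=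
  MorphismProperty.pullback_snd _ _ (PnCoh.Chow.isProper_toSpec n _)

end Groth.Agent.DeformNL.HilbImm
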