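import Groth.Agent.DeformNL.HilbGlue
import Groth.Agent.ArtFunLib.HilbInjective
import Groth.Agent.ArtFunLib.HilbObsRing
import Groth.Agent.FFun.Basic
import Groth.Prelude.Def_Formal

/-!
# First order embedded deformations are morphisms `I₀ → O_Y`
-/

set_option autoImplicit false
set_option linter.style.haveILetI false
set_option backward.isDefEq.respectTransparency false
universe u

open CategoryTheory CategoryTheory.Limits AlgebraicGeometry ArtFun ArtFun.Art Opposite

namespace Groth.Agent.DeformNL.HilbTangent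

open Groth.Agent Groth.Agent.ArtFunLib Groth.Agent.ArtFunLib.HilbAffine Groth.Agent.ArtFunLib.HilbSit
  Groth.Agent.ArtFunLib.HilbMod

variable {k : Type u} [Field k] {X : Scheme.{u}} (x : X ⟶ specPt k) (I₀ : X.IdealSheafData)

/-- `ε`. -/
noncomputable def eps : dual k k := (TrivSqZeroExt.inr (1 : k) : TrivSqZeroExt k k)

theorem eps_mem : (eps : dual k k) ∈ IsLocalRing.maximalIdeal (dual k k) := by
  rw [← IsLocalRing.eq_maximalIdeal (RingHom.ker_isMaximal_of_surjective (dual k k).res.toRingHom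
    (dual k k).res_surjective)]
  exact TrivSqZeroExt.fst_inr k (1 : k)

theorem mem_maximalIdeal_dual {a : dual k k} (h : a ∈ IsLocalRing.maximalIdeal (dual k k)) :
    a ∈ Ideal.span {(eps : dual k k)} := by
  rw [← IsLocalRing.eq_maximalIdeal (RingHom.ker_isMaximal_of_surjective (dual k k).res.toRingHom
    (dual k k).res_surjective)] at h
  refine Ideal.mem_span_singleton'.2 ⟨(TrivSqZeroExt.inl (TrivSqZeroExt.snd (show TrivSqZeroExt k k from a)) :
    TrivSqZeroExt k k), ?_⟩
  show (TrivSqZeroExt.inl _ : TrivSqZeroExt k k) * TrivSqZeroExt.inr (1 : k) = (show TrivSqZeroExt k k from a)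
  rw [TrivSqZeroExt.inl_mul_inr]
  refine TrivSqZeroExt.ext ?_ (by simp)
  rw [TrivSqZeroExt.fst_inr]
  exact (show TrivSqZeroExt.fst (show TrivSqZeroExt k k from a) = 0 from h).symm

theorem maximalIdeal_dual : IsLocalRing.maximalIdeal (dual k k) = Ideal.span {(eps : dual k k)} :=
  le_antisymm (fun _ h => mem_maximalIdeal_dual h) ((Ideal.span_singleton_le_iff_mem _).2 eps_mem)

theorem eps_mul_eps : (eps : dual k k) * eps = 0 := TrivSqZeroExt.inr_mul_inr k (1 : k) (1 : k)

theorem eps_ne_zero : (eps : dual k k) ≠ 0 := fun h =>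
  one_ne_zero (α := k) (congrArg TrivSqZeroExt.snd (show (TrivSqZeroExt.inr 1 : TrivSqZeroExt k k) = 0 from h))

theorem mem_of_eps_mul {a : dual k k} (h : eps * a = 0) : a ∈ IsLocalRing.maximalIdeal (dual k k) := by
  by_contra hna
  exact eps_ne_zero (by rwa [(IsLocalRing.notMem_maximalIdeal.1 hna).mul_left_eq_zero] at h)

theorem ker_rho (U : X.affineOpens) :
    RingHom.ker (rho x (dual k k) U) = Ideal.span {c x (dual k k) U eps} := by
  rw [(rho_spec x (dual k k) U).2, maximalIdeal_dual, Ideal.map_span, Set.image_singleton]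

theorem exists_val (U : X.affineOpens) (a : Γ(XA x (dual k k), (W x (dual k k) U).1)) :
    ∃ z, a = fstPull x (dual k k) U (rho x (dual k k) U a) + c x (dual k k) U eps * z := by
  have h : a - fstPull x (dual k k) U (rho x (dual k k) U a) ∈ RingHom.ker (rho x (dual k k) U) := by
    rw [RingHom.mem_ker, map_sub, rho_fst, sub_self]
  rw [ker_rho, Ideal.mem_span_singleton'] at h
  obtain ⟨z, hz⟩ := h
  exact ⟨z, by rw [mul_comm, hz]; ring⟩

variable {x I₀}

theorem rho_mem_of_mem (I : (localHilb X x I₀).obj (dual k k)) (U : X.affineOpens)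
    (z : Γ(XA x (dual k k), (W x (dual k k) U).1)) (hz : c x (dual k k) U eps * z ∈ I.1.ideal (W x (dual k k) U)) :
    rho x (dual k k) U z ∈ I₀.ideal U :=
  HilbGlue.map_rho_eq I U ▸ HilbRing.rho_mem (c x (dual k k) U) (rho x (dual k k) U)
    (IsLocalRing.maximalIdeal (dual k k)) eps (rho_spec x (dual k k) U).2 (fun _ h => mem_of_eps_mul h)
    (flat_quotient x I.1 I.2.1 U) z hz

theorem mem_of_rho_mem (I : (localHilb X x I₀).obj (dual k k)) (U : X.affineOpens)
    (z : Γ(XA x (dual k k), (W x (dual k k) U).1)) (hz : rho x (dual k k) U z ∈ I₀.ideal U) :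
    c x (dual k k) U eps * z ∈ I.1.ideal (W x (dual k k) U) := by
  rw [← HilbGlue.map_rho_eq I U] at hz
  obtain ⟨i, hi, hiz⟩ := (Ideal.mem_map_iff_of_surjective _ (rho_spec x (dual k k) U).1).1 hz
  have h : z - i ∈ RingHom.ker (rho x (dual k k) U) := by rw [RingHom.mem_ker, map_sub, hiz, sub_self]
  rw [ker_rho, Ideal.mem_span_singleton'] at h
  obtain ⟨w, hw⟩ := h
  rw [show c x (dual k k) U eps * z =
      c x (dual k k) U eps * i + w * (c x (dual k k) U eps * c x (dual k k) U eps) by linear_combination (-(c x (dual k k) U eps)) * hw,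
    ← map_mul, eps_mul_eps, map_zero, mul_zero, add_zero]
  exact Ideal.mul_mem_left _ _ hi

theorem exists_rep (I : (localHilb X x I₀).obj (dual k k)) (U : X.affineOpens) (r : Γ(X, U.1))
    (hr : r ∈ I₀.ideal U) :
    ∃ z, fstPull x (dual k k) U r + c x (dual k k) U eps * z ∈ I.1.ideal (W x (dual k k) U) := by
  rw [← HilbGlue.map_rho_eq I U] at hr
  obtain ⟨a, ha, rfl⟩ := (Ideal.mem_map_iff_of_surjective _ (rho_spec x (dual k k) U).1).1 hr
  obtain ⟨z, hz⟩ := exists_val x U a
  exact ⟨z, hz ▸ ha⟩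

variable (I₀) in
/-- The class of a function modulo `I₀`. -/
noncomputable def qm (U : X.affineOpens) : Γ(X, U.1) →+ Γ(ClSub.quotMod I₀, U.1) :=
  AddMonoidHom.mk' (fun w => I₀.subschemeι.app U.1 w) fun a b => map_add (I₀.subschemeι.app U.1).hom a b

theorem qm_mul (U : X.affineOpens) (r w : Γ(X, U.1)) : qm I₀ U (r * w) = r • qm I₀ U w :=
  map_mul (I₀.subschemeι.app U.1).hom r w

theorem qm_map {U V : X.affineOpens} (hV : V.1 ≤ U.1) (w : Γ(X, U.1)) :
    (ClSub.quotMod I₀).presheaf.map (homOfLE hV).op (qm I₀ U w) = qm I₀ V (X.presheaf.map (homOfLE hV).op w) :=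
  (congr($(I₀.subschemeι.naturality (homOfLE hV).op) w)).symm

theorem qm_eq_zero_iff (U : X.affineOpens) (w : Γ(X, U.1)) : qm I₀ U w = 0 ↔ w ∈ I₀.ideal U := by
  rw [← I₀.ker_subschemeι_app, RingHom.mem_ker]
  rfl

variable (x I₀) in
/-- `φ` records the first order deformation `I`. -/
def Rec (I : (XA x (dual k k)).IdealSheafData) (φ : ClSub.idealMod I₀ ⟶ ClSub.quotMod I₀) : Prop :=
  ∀ (U : X.affineOpens) (s : Γ(ClSub.idealMod I₀, U.1)) (z : Γ(XA x (dual k k), (W x (dual k k) U).1)),
    fstPull x (dual k k) U (OmegaSh.idealSect I₀ U.1 s) + c x (dual k k) U eps * z ∈ I.ideal (W x (dual k k) U) →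
      φ.app U.1 s = qm I₀ U (rho x (dual k k) U z)

theorem exists_rec (I : (localHilb X x I₀).obj (dual k k)) : ∃ φ, Rec x I₀ I.1 φ := by
  choose fz hfz using fun (U : X.affineOpens) (s : Γ(ClSub.idealMod I₀, U.1)) =>
    exists_rep I U _ (OmegaLib.idealSect_mem I₀ U s)
  let f : ∀ U : X.affineOpens, Γ(ClSub.idealMod I₀, U.1) → Γ(ClSub.quotMod I₀, U.1) := fun U s =>
    qm I₀ U (rho x (dual k k) U (fz U s))
  have hval : ∀ (U : X.affineOpens) (s : Γ(ClSub.idealMod I₀, U.1)) z,
      fstPull x (dual k k) U (OmegaSh.idealSect I₀ U.1 s) + c x (dual k k) U eps * z ∈ I.1.ideal (W x (dual k k) U) →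
      f U s = qm I₀ U (rho x (dual k k) U z) := fun U s z hz => by
    rw [← sub_eq_zero]
    show qm I₀ U (rho x (dual k k) U (fz U s)) - qm I₀ U (rho x (dual k k) U z) = 0
    rw [← map_sub, ← map_sub, qm_eq_zero_iff]
    refine rho_mem_of_mem I U _ ?_
    have := sub_mem (hfz U s) hz
    rwa [add_sub_add_left_eq_sub, ← mul_sub] at this
  have hadd : ∀ U s s', f U (s + s') = f U s + f U s' := fun U s s' => by
    rw [hval U (s + s') (fz U s + fz U s') ?_, map_add (rho x (dual k k) U)]
    · exact map_add (qm I₀ U) _ _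
    · rw [map_add, map_add, mul_add, add_add_add_comm]
      exact add_mem (hfz U s) (hfz U s')
  obtain ⟨φ, hφ⟩ := FamilyHom.exists_hom_of_family (fun U => AddMonoidHom.mk' (f U) (hadd U))
    (fun U V hV s => by
      show (ClSub.quotMod I₀).presheaf.map (homOfLE hV).op (f U s) =
        f V ((ClSub.idealMod I₀).presheaf.map (homOfLE hV).op s)
      rw [hval V _ ((XA x (dual k k)).presheaf.map (homOfLE (W_mono x (dual k k) hV)).op (fz U s)) ?_,
        rho_map x (dual k k) hV]
      · exact qm_map hV _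
      · have h := I.1.ideal_le_comap_ideal (W_mono x (dual k k) hV) (hfz U s)
        rw [Ideal.mem_comap, map_add, map_mul] at h
        convert h using 1
        refine congrArg₂ (· + ·) ?_ (congrArg₂ (· * ·) (c_map x (dual k k) hV eps).symm rfl)
        rw [OmegaLib.idealSect_map I₀ hV]
        exact congr($((pullback.fst x (specOver (dual k k))).naturality (homOfLE hV).op) (OmegaSh.idealSect I₀ U.1 s)))
    (fun U r s => by
      show f U (r • s) = r • f U s
      rw [hval U _ (fstPull x (dual k k) U r * fz U s) ?_, map_mul, rho_fst]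
      · exact qm_mul U _ _
      · rw [OmegaLib.idealSect_smul, map_mul]
        convert Ideal.mul_mem_left _ (fstPull x (dual k k) U r) (hfz U s) using 1
        ring)
  exact ⟨φ, fun U s z hz => (hφ U s).trans (hval U s z hz)⟩

/-- The morphism attached to a first order deformation. -/
noncomputable def tan (I : (localHilb X x I₀).obj (dual k k)) : ClSub.idealMod I₀ ⟶ ClSub.quotMod I₀ :=
  (exists_rec I).choose

theorem tan_spec (I : (localHilb X x I₀).obj (dual k k)) : Rec x I₀ I.1 (tan I) := (exists_rec I).choose_spec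

theorem hom_ext_affine {M N : X.Modules} {φ ψ : M ⟶ N}
    (h : ∀ (U : X.affineOpens) (s : Γ(M, U.1)), φ.app U.1 s = ψ.app U.1 s) : φ = ψ := by
  refine Scheme.Modules.hom_ext _ _ fun V => ?_
  ext v
  refine FamilyHom.ext_affine N V _ _ fun U hU => ?_
  exact (app_map φ hU v).symm.trans ((h U _).trans (app_map ψ hU v))

theorem mem_of_rec (I J : (localHilb X x I₀).obj (dual k k)) (h : tan I = tan J) (U : X.affineOpens)
    (a : Γ(XA x (dual k k), (W x (dual k k) U).1)) (ha : a ∈ I.1.ideal (W x (dual k k) U)) :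
    a ∈ J.1.ideal (W x (dual k k) U) := by
  have hr : rho x (dual k k) U a ∈ I₀.ideal U := HilbGlue.map_rho_eq I U ▸ Ideal.mem_map_of_mem _ ha
  obtain ⟨s, hs⟩ := OmegaLib.exists_of_mem I₀ U _ hr
  obtain ⟨z, hz⟩ := exists_val x U a
  obtain ⟨z', hz'⟩ := exists_rep J U _ hr
  rw [hz]
  rw [hz] at ha
  rw [← hs] at ha hz' ⊢
  have hd : rho x (dual k k) U (z - z') ∈ I₀.ideal U := by
    rw [← qm_eq_zero_iff, map_sub, map_sub, sub_eq_zero, ← tan_spec I U s z ha, h, tan_spec J U s z' hz']
  convert add_mem hz' (mem_of_rho_mem J U _ hd) using 1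
  ring

theorem injective_tan : Function.Injective (tan (x := x) (I₀ := I₀)) := fun I J h =>
  Subtype.ext (ext_ideal x fun U => le_antisymm (mem_of_rec I J h U) (mem_of_rec J I h.symm U))

set_option maxHeartbeats 1000000 in
theorem exists_of_hom (φ : ClSub.idealMod I₀ ⟶ ClSub.quotMod I₀) :
    ∃ I : (localHilb X x I₀).obj (dual k k), Rec x I₀ I.1 φ := by
  haveI := isAffineHom_incl x (dual k k)
  let P : (XA x (dual k k)).IdealSheafData := I₀.map (XAincl x (dual k k))
  have hP : ∀ U, P.ideal (W x (dual k k) U) = (I₀.ideal U).comap (rho x (dual k k) U) := fun U =>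
    Ideal.ext fun a => mem_map_iff (XAincl x (dual k k)) I₀ (W x (dual k k) U) U (rho_le x (dual k k) U)
      (rho_le x (dual k k) U).le a
  have hres : ∀ (U : X.affineOpens) (s : Γ(G P, U.1)),
      ∃ s₀ : Γ(ClSub.idealMod I₀, U.1), OmegaSh.idealSect I₀ U.1 s₀ = rho x (dual k k) U (el P U s) :=
    fun U s => OmegaLib.exists_of_mem I₀ U _ ((hP U).le (el_mem P U s))
  choose g₀ hg₀ using hres
  choose w hw using fun (U : X.affineOpens) (s : Γ(G P, U.1)) => exists_val x U (el P U s)
  let f : ∀ U : X.affineOpens, Γ(G P, U.1) → Γ(ClSub.quotMod I₀, U.1) := fun U s =>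
    qm I₀ U (rho x (dual k k) U (w U s)) - φ.app U.1 (g₀ U s)
  have hzero : ∀ (U : X.affineOpens) z, c x (dual k k) U eps * z = 0 →
      qm I₀ U (rho x (dual k k) U z) = 0 := fun U z hz => by
    have h := HilbRing.rho_mem (c x (dual k k) U) (rho x (dual k k) U)
      (IsLocalRing.maximalIdeal (dual k k)) eps (rho_spec x (dual k k) U).2 (fun _ h => mem_of_eps_mul h)
      (I := ⊥) ((flat_c x (dual k k) U).comp (RingHom.Flat.of_bijective
        ⟨(RingHom.injective_iff_ker_eq_bot _).2 Ideal.mk_ker, Ideal.Quotient.mk_surjective⟩)) z (by rw [hz]; exact zero_mem _)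
    rw [Ideal.map_bot, Ideal.mem_bot] at h
    rw [h, map_zero]
  have hval : ∀ (U : X.affineOpens) (s : Γ(G P, U.1)) s₀ z,
      el P U s = fstPull x (dual k k) U (OmegaSh.idealSect I₀ U.1 s₀) + c x (dual k k) U eps * z →
      f U s = qm I₀ U (rho x (dual k k) U z) - φ.app U.1 s₀ := fun U s s₀ z he => by
    have hr : OmegaSh.idealSect I₀ U.1 s₀ = rho x (dual k k) U (el P U s) := by
      rw [he, map_add, rho_fst, map_mul, show rho x (dual k k) U (c x (dual k k) U eps) = 0 from
        RingHom.mem_ker.1 ((ker_rho x U).ge (Ideal.mem_span_singleton_self _)), zero_mul, add_zero]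
    have hs₀ : g₀ U s = s₀ := OmegaLib.idealSect_injective I₀ U.1 ((hg₀ U s).trans hr.symm)
    show _ - φ.app U.1 (g₀ U s) = _
    rw [hs₀, sub_left_inj, ← sub_eq_zero, ← map_sub, ← map_sub]
    refine hzero U _ ?_
    have h1 := hw U s
    rw [← hr] at h1
    linear_combination h1.symm.trans he
  have hf : ∀ (U : X.affineOpens) s, el P U s =
      fstPull x (dual k k) U (OmegaSh.idealSect I₀ U.1 (g₀ U s)) + c x (dual k k) U eps * w U s := fun U s => by
    rw [hg₀]; exact hw U s
  have hadd : ∀ U s s', f U (s + s') = f U s + f U s' := fun U s s' => by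
    rw [hval U (s + s') (g₀ U s + g₀ U s') (w U s + w U s') (by
      rw [map_add, hf U s, hf U s', map_add, map_add]; ring), map_add, map_add (qm I₀ U),
      map_add (φ.app U.1).hom]
    exact (sub_add_sub_comm _ _ _ _).symm
  obtain ⟨θ, hθ⟩ := FamilyHom.exists_hom_of_family (fun U => AddMonoidHom.mk' (f U) (hadd U))
    (fun U V hV s => by
      show (ClSub.quotMod I₀).presheaf.map (homOfLE hV).op (f U s) = f V ((G P).presheaf.map (homOfLE hV).op s)
      rw [hval V _ ((ClSub.idealMod I₀).presheaf.map (homOfLE hV).op (g₀ U s))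
        ((XA x (dual k k)).presheaf.map (homOfLE (W_mono x (dual k k) hV)).op (w U s)) (by
          rw [el_map P U V hV, hf U s, map_add, map_mul, c_map x (dual k k) hV, OmegaLib.idealSect_map I₀ hV]
          refine congrArg₂ (· + ·) ?_ rfl
          exact (congr($((pullback.fst x (specOver (dual k k))).naturality (homOfLE hV).op) _)).symm),
        rho_map x (dual k k) hV, app_map φ hV, map_sub]
      refine congrArg₂ (· - ·) ?_ rfl
      exact qm_map hV _)
    (fun U r s => by
      show f U (r • s) = r • f U s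
      rw [hval U _ (r • g₀ U s) (fstPull x (dual k k) U r * w U s) (by
        rw [el_smul, hf U s, OmegaLib.idealSect_smul, map_mul]; ring), map_mul, rho_fst,
        qm_mul, Scheme.Modules.Hom.app_smul φ]
      exact (smul_sub r _ _).symm)
  have hlin : ∀ (U : X.affineOpens) s (R : Γ(XA x (dual k k), (W x (dual k k) U).1)) s',
      el P U s' = R * el P U s → θ.app U.1 s' = rho x (dual k k) U R • θ.app U.1 s := fun U s R s' he => by
    obtain ⟨v, hv⟩ := exists_val x U R
    rw [hθ, hθ]
    show f U s' = rho x (dual k k) U R • f U s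
    rw [hval U s' (rho x (dual k k) U R • g₀ U s)
      (fstPull x (dual k k) U (rho x (dual k k) U R) * w U s +
        v * fstPull x (dual k k) U (OmegaSh.idealSect I₀ U.1 (g₀ U s))) (by
        rw [he, hf U s, OmegaLib.idealSect_smul, map_mul]
        have h0 : c x (dual k k) U eps * c x (dual k k) U eps = 0 := by rw [← map_mul, eps_mul_eps, map_zero]
        linear_combination (fstPull x (dual k k) U (OmegaSh.idealSect I₀ U.1 (g₀ U s)) +
          c x (dual k k) U eps * w U s) * hv + v * w U s * h0)]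
    rw [map_add, map_mul, rho_fst, map_mul, rho_fst, map_add (qm I₀ U),
      qm_mul, qm_mul,
      (qm_eq_zero_iff U _).2 (OmegaLib.idealSect_mem I₀ U (g₀ U s)), smul_zero, add_zero, Scheme.Modules.Hom.app_smul φ]
    exact (smul_sub (rho x (dual k k) U R) _ _).symm
  obtain ⟨I, hI⟩ := HilbIdeal.exists_ideal P I₀ θ hlin
  have hmem : ∀ (U : X.affineOpens) s₀ z,
      fstPull x (dual k k) U (OmegaSh.idealSect I₀ U.1 s₀) + c x (dual k k) U eps * z ∈ I.ideal (W x (dual k k) U) ↔
        φ.app U.1 s₀ = qm I₀ U (rho x (dual k k) U z) := fun U s₀ z => by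
    obtain ⟨s, hs⟩ := exists_el P U (fstPull x (dual k k) U (OmegaSh.idealSect I₀ U.1 s₀) + c x (dual k k) U eps * z) (by
      rw [hP, Ideal.mem_comap, map_add, rho_fst, map_mul,
        show rho x (dual k k) U (c x (dual k k) U eps) = 0 from
          RingHom.mem_ker.1 ((ker_rho x U).ge (Ideal.mem_span_singleton_self _)), zero_mul, add_zero]
      exact OmegaLib.idealSect_mem I₀ U s₀)
    have hv : θ.app U.1 s = qm I₀ U (rho x (dual k k) U z) - φ.app U.1 s₀ :=
      (hθ U s).trans (hval U s s₀ z hs)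
    rw [hI]
    constructor
    · rintro ⟨s', hs', h0⟩
      rw [el_injective P U (hs'.trans hs.symm), hv, sub_eq_zero] at h0
      exact h0.symm
    · intro h
      exact ⟨s, hs, by rw [hv, h, sub_self]⟩
  have hrho : ∀ U, (I.ideal (W x (dual k k) U)).map (rho x (dual k k) U) = I₀.ideal U := fun U => by
    refine le_antisymm (Ideal.map_le_iff_le_comap.2 fun a ha => ?_) fun r hr => ?_
    · obtain ⟨s, rfl, -⟩ := (hI U a).1 ha
      exact hP U ▸ el_mem P U s
    · obtain ⟨s₀, rfl⟩ := OmegaLib.exists_of_mem I₀ U r hr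
      obtain ⟨v, hv⟩ := I₀.subschemeι_app_surjective U (φ.app U.1 s₀)
      obtain ⟨z, hz⟩ := (rho_spec x (dual k k) U).1 v
      have := Ideal.mem_map_of_mem (rho x (dual k k) U) ((hmem U s₀ z).2 (by rw [hz]; exact hv.symm))
      rwa [map_add, rho_fst, map_mul, show rho x (dual k k) U (c x (dual k k) U eps) = 0 from
          RingHom.mem_ker.1 ((ker_rho x U).ge (Ideal.mem_span_singleton_self _)), zero_mul, add_zero] at this
  have hcomap : I.comap (XAincl x (dual k k)) = I₀ := Scheme.IdealSheafData.ext (funext fun U => by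
    rw [comap_incl_ideal, hrho])
  obtain ⟨⟨I₁⟩, -⟩ := HilbGlue.H0 x I₀
  have hsm : RingHom.ker (toBase (dual k k)).toAlgHom.toRingHom = Ideal.span {(eps : dual k k)} := by
    rw [← maximalIdeal_dual]
    exact IsLocalRing.eq_maximalIdeal (RingHom.ker_isMaximal_of_surjective (dual k k).res.toRingHom
      (dual k k).res_surjective)
  have hflat : ∀ U, ((Ideal.Quotient.mk (I.ideal (W x (dual k k) U))).comp (c x (dual k k) U)).Flat := fun U => by
    refine HilbObsRing.flat_of_lift
      (sit x (toBase (dual k k)) (dual k k).res_surjective eps hsm eps_ne_zero (by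
        rw [maximalIdeal_dual, Ideal.span_singleton_mul_span_singleton, eps_mul_eps, Ideal.span_singleton_zero]) U)
      (flat_quotient x I₁.1 I₁.2.1 U) (rho_spec x (dual k k) U).1 (I.ideal (W x (dual k k) U)) ?_ fun z hz => ?_
    · show (I.ideal (W x (dual k k) U)).map (pi x (toBase (dual k k)) U) = I₁.1.ideal (W x (base k k) U)
      have hb : Function.Bijective (rho x (base k k) U) :=
        ⟨HilbGlue.injective_rho_base x U, (rho_spec x (base k k) U).1⟩
      rw [← Ideal.comap_map_of_bijective (rho x (base k k) U) hb (I := (I.ideal (W x (dual k k) U)).map _),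
        ← Ideal.comap_map_of_bijective (rho x (base k k) U) hb (I := I₁.1.ideal (W x (base k k) U)),
        HilbGlue.map_rho_eq I₁ U, Ideal.map_map,
        show (rho x (base k k) U).comp (pi x (toBase (dual k k)) U) = rho x (dual k k) U from
          RingHom.ext fun a => rho_pi x (toBase (dual k k)) U a, hrho]
    · show rho x (dual k k) U z ∈ (I₁.1.ideal (W x (base k k) U)).map (rho x (base k k) U)
      rw [HilbGlue.map_rho_eq I₁ U, ← qm_eq_zero_iff]
      have := (hmem U 0 z).1 (by rw [map_zero, map_zero, zero_add]; exact hz)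
      rw [map_zero] at this
      exact this.symm
  exact ⟨⟨I, HilbIdeal.flat_of_ideals I hflat, hcomap⟩, fun U s z hz => (hmem U s z).1 hz⟩

theorem bijective_tan : Function.Bijective (tan (x := x) (I₀ := I₀)) := by
  refine ⟨injective_tan, fun φ => ?_⟩
  obtain ⟨I, hI⟩ := exists_of_hom (x := x) φ
  refine ⟨I, hom_ext_affine fun U s => ?_⟩
  obtain ⟨z, hz⟩ := exists_rep I U _ (OmegaLib.idealSect_mem I₀ U s)
  rw [tan_spec I U s z hz, hI U s z hz]

theorem pi_fst {B A : Art k k} (p : B ⟶ A) (U : X.affineOpens) (r : Γ(X, U.1)) :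
    pi x p U (fstPull x B U r) = fstPull x A U r := by
  have h1 : (pullback.fst x (specOver B)).app U.1 ≫ (XAmap x p).appLE (W x B U).1 (W x A U).1 (pi_le x p U).le =
      (pullback.fst x (specOver A)).app U.1 := by
    rw [Scheme.Hom.app_eq_appLE, Scheme.Hom.app_eq_appLE]
    exact (Scheme.Hom.appLE_comp_appLE (XAmap x p) (pullback.fst x (specOver B)) U.1 (W x B U).1 (W x A U).1 le_rfl
      (pi_le x p U).le).trans (appLE_congr (XAmap_fst x p) U.1 (W x A U).1 _ _)
  exact congr($h1 r)

theorem map_rep {A : Art k k} (g : A ⟶ dual k k) (I : (localHilb X x I₀).obj A) (U : X.affineOpens)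
    (a : Γ(XA x A, (W x A U).1)) (ha : a ∈ I.1.ideal (W x A U)) :
    pi x g U a ∈ ((localHilb X x I₀).map g I).1.ideal (W x (dual k k) U) := by
  show pi x g U a ∈ (I.1.comap (XAmap x g)).ideal (W x (dual k k) U)
  rw [comap_map_ideal]
  exact Ideal.mem_map_of_mem _ ha

theorem c₀_eq (U : X.affineOpens) (b : k) :
    HilbGlue.c₀ x U b = x.appLE ⊤ U.1 (fun _ _ => trivial) ((Scheme.ΓSpecIso (CommRingCat.of k)).inv b) := by
  have h1 : (XApr x (base k k)).appLE ⊤ (W x (base k k) U).1 (fun _ _ => trivial) ≫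
      (XAincl x (base k k)).appLE (W x (base k k) U).1 U.1 (rho_le x (base k k) U).le =
      x.appLE ⊤ U.1 (fun _ _ => trivial) := by
    rw [Scheme.Hom.appLE_comp_appLE]
    exact appLE_congr ((XAincl_snd x (base k k)).trans (comp_specRes_base x)) _ _ _ _
  exact congr($h1 ((Scheme.ΓSpecIso (CommRingCat.of k)).inv b))

theorem tan_scale [X.Over (Spec (CommRingCat.of k))] (hx : X ↘ Spec (CommRingCat.of k) = x) (b : k)
    (I : (localHilb X x I₀).obj (dual k k)) :
    tan ((localHilb X x I₀).map (scale b) I) = tan I ≫ Formal.smulMod k (ClSub.quotMod I₀) b := by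
  refine hom_ext_affine fun U s => ?_
  obtain ⟨z, hz⟩ := exists_rep I U _ (OmegaLib.idealSect_mem I₀ U s)
  have h := map_rep (scale b) I U _ hz
  have he : (scale b : dual k k ⟶ dual k k) eps = algebraMap k (dual k k) b * eps := by
    refine TrivSqZeroExt.ext ?_ ?_
    · show TrivSqZeroExt.fst (TrivSqZeroExt.inr (1 : k)) =
        TrivSqZeroExt.fst (algebraMap k (TrivSqZeroExt k k) b * TrivSqZeroExt.inr (1 : k))
      simp
    · show b * (1 : k) = TrivSqZeroExt.snd (algebraMap k (TrivSqZeroExt k k) b * TrivSqZeroExt.inr (1 : k))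
      simp [TrivSqZeroExt.algebraMap_eq_inl]
  rw [map_add, pi_fst, map_mul, pi_c, he, map_mul, mul_assoc, mul_left_comm] at h
  rw [tan_spec _ U s _ h]
  show _ = (Formal.smulMod k (ClSub.quotMod I₀) b).app U.1 ((tan I).app U.1 s)
  rw [tan_spec I U s z hz, FFun.smulMod_app, map_mul, rho_pi, HilbGlue.rho_c, (dual k k).res.commutes]
  refine (qm_mul U _ _).trans (congrArg (fun r : Γ(X, U.1) => r • qm I₀ U (rho x (dual k k) U z)) ?_)
  show HilbGlue.c₀ x U b = Coh.resTop X (op U.1) (Coh.toGlobal (X ↘ Spec (CommRingCat.of k)) b)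
  rw [hx, c₀_eq]
  rfl

theorem tan_plus (J : (localHilb X x I₀).obj (dual2 k k)) :
    tan ((localHilb X x I₀).map plus J) =
      tan ((localHilb X x I₀).map pr₁ J) + tan ((localHilb X x I₀).map pr₂ J) := by
  refine hom_ext_affine fun U s => ?_
  let e₁ : dual2 k k := (TrivSqZeroExt.inr (1, 0) : TrivSqZeroExt k (k × k))
  let e₂ : dual2 k k := (TrivSqZeroExt.inr (0, 1) : TrivSqZeroExt k (k × k))
  have hm : IsLocalRing.maximalIdeal (dual2 k k) ≤ Ideal.span {e₁, e₂} := fun a ha => by
    rw [← IsLocalRing.eq_maximalIdeal (RingHom.ker_isMaximal_of_surjective (dual2 k k).res.toRingHom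
      (dual2 k k).res_surjective)] at ha
    refine Ideal.mem_span_pair.2 ⟨(TrivSqZeroExt.inl (TrivSqZeroExt.snd (show TrivSqZeroExt k (k × k) from a)).1 : TrivSqZeroExt k (k × k)),
      (TrivSqZeroExt.inl (TrivSqZeroExt.snd (show TrivSqZeroExt k (k × k) from a)).2 : TrivSqZeroExt k (k × k)), ?_⟩
    show (TrivSqZeroExt.inl _ : TrivSqZeroExt k (k × k)) * TrivSqZeroExt.inr (1, 0) +
      TrivSqZeroExt.inl _ * TrivSqZeroExt.inr (0, 1) = (show TrivSqZeroExt k (k × k) from a)
    rw [TrivSqZeroExt.inl_mul_inr, TrivSqZeroExt.inl_mul_inr, ← TrivSqZeroExt.inr_add]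
    refine TrivSqZeroExt.ext ?_ (by simp)
    rw [TrivSqZeroExt.fst_inr]
    exact (show TrivSqZeroExt.fst (show TrivSqZeroExt k (k × k) from a) = 0 from ha).symm
  have hr := OmegaLib.idealSect_mem I₀ U s
  rw [← HilbGlue.map_rho_eq J U] at hr
  obtain ⟨a, ha, har⟩ := (Ideal.mem_map_iff_of_surjective _ (rho_spec x (dual2 k k) U).1).1 hr
  have hk : a - fstPull x (dual2 k k) U (OmegaSh.idealSect I₀ U.1 s) ∈
      Ideal.span {c x (dual2 k k) U e₁, c x (dual2 k k) U e₂} := by
    rw [← Set.image_pair, ← Ideal.map_span]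
    refine Ideal.map_mono hm ?_
    rw [← (rho_spec x (dual2 k k) U).2, RingHom.mem_ker, map_sub, rho_fst, har, sub_self]
  obtain ⟨z₁, z₂, hz⟩ := Ideal.mem_span_pair.1 hk
  rw [show a = fstPull x (dual2 k k) U (OmegaSh.idealSect I₀ U.1 s) +
    (z₁ * c x (dual2 k k) U e₁ + z₂ * c x (dual2 k k) U e₂) by rw [hz]; ring] at ha
  have h₁ : (pr₁ : dual2 k k ⟶ dual k k) e₁ = eps ∧ (pr₁ : dual2 k k ⟶ dual k k) e₂ = 0 ∧
      (pr₂ : dual2 k k ⟶ dual k k) e₁ = 0 ∧ (pr₂ : dual2 k k ⟶ dual k k) e₂ = eps ∧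
      (plus : dual2 k k ⟶ dual k k) e₁ = eps ∧ (plus : dual2 k k ⟶ dual k k) e₂ = eps := by
    refine ⟨?_, ?_, ?_, ?_, ?_, ?_⟩ <;> refine TrivSqZeroExt.ext ?_ ?_ <;>
      simp [pr₁, pr₂, plus, eps, e₁, e₂, tszeMap] <;> first | rfl | exact add_zero _ | exact zero_add _
  obtain ⟨a1, a2, b1, b2, p1, p2⟩ := h₁
  have H1 := map_rep pr₁ J U _ ha
  have H2 := map_rep pr₂ J U _ ha
  have Hp := map_rep plus J U _ ha
  simp only [map_add, pi_fst, map_mul, pi_c, a1, a2, map_zero, mul_zero, add_zero] at H1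
  simp only [map_add, pi_fst, map_mul, pi_c, b1, b2, map_zero, mul_zero, zero_add] at H2
  simp only [map_add, pi_fst, map_mul, pi_c, p1, p2, ← add_mul] at Hp
  rw [mul_comm] at H1 H2 Hp
  show _ = (tan ((localHilb X x I₀).map pr₁ J)).app U.1 s + (tan ((localHilb X x I₀).map pr₂ J)).app U.1 s
  rw [tan_spec _ U s _ H1, tan_spec _ U s _ H2, tan_spec _ U s _ Hp]
  simp only [map_add, rho_pi]

end Groth.Agent.DeformNL.HilbTangent
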