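import Groth.Agent.DeformNL.HilbLoc
import Groth.Agent.DeformNL.HilbTangent

/-!
# Values on the kernel of restriction to the closed fibre, several parameters
-/

set_option autoImplicit false
set_option linter.style.haveILetI false
set_option backward.isDefEq.respectTransparency false
universe u v

open CategoryTheory CategoryTheory.Limits AlgebraicGeometry ArtFun ArtFun.Art Opposite

namespace Groth.Agent.DeformNL.HilbKappa

open Groth.Agent Groth.Agent.ArtFunLib Groth.Agent.ArtFunLib.HilbAffine Groth.Agent.ArtFunLib.HilbSit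
  Groth.Agent.ArtFunLib.HilbMod Groth.Agent.DeformNL.HilbTangent Groth.Agent.DeformNL.HilbLoc

section Abstract

variable {C : Type*} [Category.{v} C] [Abelian C] {G M N : C} (φ : G ⟶ M) (κ : kernel φ ⟶ N)

/-- The projection of the pushed out extension. -/
noncomputable def extG : pushout κ (kernel.ι φ) ⟶ M :=
  pushout.desc 0 φ (by rw [comp_zero, kernel.condition])

theorem inl_extG : pushout.inl κ (kernel.ι φ) ≫ extG φ κ = 0 := pushout.inl_desc _ _ _

theorem inr_extG : pushout.inr κ (kernel.ι φ) ≫ extG φ κ = φ := pushout.inr_desc _ _ _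

/-- Pushing out the kernel of an epimorphism gives an extension. -/
theorem shortExact_ext [Epi φ] :
    (ShortComplex.mk _ _ (inl_extG φ κ)).ShortExact := by
  haveI : Mono (ShortComplex.mk _ _ (inl_extG φ κ)).f := Abelian.mono_pushout_of_mono_g κ (kernel.ι φ)
  haveI : Epi (ShortComplex.mk _ _ (inl_extG φ κ)).g := epi_of_epi_fac (inr_extG φ κ)
  let S : ShortComplex C := ShortComplex.mk (kernel.ι φ) φ (kernel.condition φ)
  haveI : Epi S.g := ‹Epi φ›
  have hS : S.Exact := ShortComplex.exact_of_f_is_kernel S (kernelIsKernel φ)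
  have hb : ∀ {T : C} (l : pushout κ (kernel.ι φ) ⟶ T), pushout.inl κ (kernel.ι φ) ≫ l = 0 →
      kernel.ι φ ≫ pushout.inr κ (kernel.ι φ) ≫ l = 0 := fun l hl => by
    rw [← Category.assoc, ← pushout.condition, Category.assoc, hl, comp_zero]
  exact
    { exact := ShortComplex.exact_of_g_is_cokernel _ (CokernelCofork.IsColimit.ofπ _ _
        (fun {T} l hl => hS.desc (pushout.inr κ (kernel.ι φ) ≫ l) (hb l hl))
        (fun {T} l hl => pushout.hom_ext
          (by rw [← Category.assoc, inl_extG]; exact zero_comp.trans hl.symm)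
          (by rw [← Category.assoc, inr_extG]; exact hS.g_desc _ _))
        (fun {T} l hl m hm => by
          rw [← cancel_epi (ShortComplex.mk _ _ (inl_extG φ κ)).g, hm]
          exact pushout.hom_ext
            (by rw [← Category.assoc, inl_extG]; exact hl.trans zero_comp.symm)
            (by rw [← Category.assoc, inr_extG]; exact (hS.g_desc _ _).symm))) }

/-- The extension splits exactly when the values extend. -/
theorem exists_section_iff [Epi φ] :
    (∃ s, s ≫ extG φ κ = 𝟙 _) ↔ ∃ θ : G ⟶ N, kernel.ι φ ≫ θ = κ := by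
  constructor
  · rintro ⟨s, hs⟩
    let sp := ShortComplex.Splitting.ofExactOfSection _ (shortExact_ext φ κ).exact s hs (shortExact_ext φ κ).mono_f
    refine ⟨pushout.inr κ (kernel.ι φ) ≫ sp.r, ?_⟩
    rw [← Category.assoc, ← pushout.condition, Category.assoc]
    exact (congrArg (κ ≫ ·) sp.f_r).trans (Category.comp_id κ)
  · rintro ⟨θ, hθ⟩
    let r : pushout κ (kernel.ι φ) ⟶ N := pushout.desc (𝟙 N) θ (by rw [hθ, Category.comp_id])
    let sp := ShortComplex.Splitting.ofExactOfRetraction _ (shortExact_ext φ κ).exact r (pushout.inl_desc _ _ _)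
      (shortExact_ext φ κ).epi_g
    exact ⟨sp.s, sp.s_g⟩

end Abstract

variable {k : Type u} [Field k] {X : Scheme.{u}} {x : X ⟶ specPt k} {B : Art k k}
  (P : (XA x B).IdealSheafData) (I₀ : X.IdealSheafData) (φ : G P ⟶ ClSub.idealMod I₀)

/-- The values prescribed by a family of parameters. -/
def IsKappa {r : ℕ} (t : Fin r → B) (κ : Fin r → (kernel φ ⟶ ClSub.quotMod I₀)) : Prop :=
  ∀ (U : X.affineOpens) (kk : Γ(kernel φ, U.1)) (μ : Γ(XA x B, (W x B U).1))
    (z : Fin r → Γ(XA x B, (W x B U).1)), μ ∈ mP P U →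
      el P U ((kernel.ι φ).app U.1 kk) = μ + ∑ j, c x B U (t j) * z j →
        ∀ j, (κ j).app U.1 kk = qm I₀ U (rho x B U (z j))

variable {P I₀ φ}

theorem rho_kernel (hφ : ∀ (U : X.affineOpens) s, OmegaSh.idealSect I₀ U.1 (φ.app U.1 s) = rho x B U (el P U s))
    (U : X.affineOpens) (kk : Γ(kernel φ, U.1)) : rho x B U (el P U ((kernel.ι φ).app U.1 kk)) = 0 := by
  have e0 : φ.app U.1 ((kernel.ι φ).app U.1 kk) = 0 := congr(($(kernel.condition φ)).app U.1 kk)
  rw [← hφ, e0, map_zero]

theorem exists_kappa (hφ : ∀ (U : X.affineOpens) s, OmegaSh.idealSect I₀ U.1 (φ.app U.1 s) = rho x B U (el P U s))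
    {r : ℕ} (t : Fin r → B)
    (hrep : ∀ U e, e ∈ P.ideal (W x B U) → rho x B U e = 0 →
      ∃ μ, ∃ z : Fin r → Γ(XA x B, (W x B U).1), μ ∈ mP P U ∧ e = μ + ∑ j, c x B U (t j) * z j)
    (hzero : ∀ (U : X.affineOpens) (z : Fin r → Γ(XA x B, (W x B U).1)),
      ∑ j, c x B U (t j) * z j ∈ mP P U → ∀ j, qm I₀ U (rho x B U (z j)) = 0) :
    ∃ κ, IsKappa P I₀ φ t κ := by
  choose fμ fz hfμ hfe using fun (U : X.affineOpens) (kk : Γ(kernel φ, U.1)) =>
    hrep U _ (el_mem P U _) (rho_kernel hφ U kk)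
  have hval : ∀ U kk μ (z : Fin r → _), μ ∈ mP P U →
      el P U ((kernel.ι φ).app U.1 kk) = μ + ∑ j, c x B U (t j) * z j →
      ∀ j, qm I₀ U (rho x B U (fz U kk j)) = qm I₀ U (rho x B U (z j)) := fun U kk μ z hμ he j => by
    rw [← sub_eq_zero, ← map_sub, ← map_sub]
    refine hzero U (fun j => fz U kk j - z j) ?_ j
    rw [show ∑ j, c x B U (t j) * (fz U kk j - z j) = μ - fμ U kk by
      simp only [mul_sub, Finset.sum_sub_distrib]; linear_combination (hfe U kk).symm.trans he]
    exact sub_mem hμ (hfμ U kk)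
  have hadd : ∀ j U a b, qm I₀ U (rho x B U (fz U (a + b) j)) =
      qm I₀ U (rho x B U (fz U a j)) + qm I₀ U (rho x B U (fz U b j)) := fun j U a b => by
    rw [hval U (a + b) (fμ U a + fμ U b) (fz U a + fz U b) (add_mem (hfμ U a) (hfμ U b)) (by
      rw [map_add, map_add, hfe U a, hfe U b]
      simp only [Pi.add_apply, mul_add, Finset.sum_add_distrib]; ring) j, Pi.add_apply, map_add, map_add]
  have hf : ∀ j, ∃ κ : kernel φ ⟶ ClSub.quotMod I₀, ∀ (U : X.affineOpens) kk,
      κ.app U.1 kk = qm I₀ U (rho x B U (fz U kk j)) := fun j => FamilyHom.exists_hom_of_family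
    (fun U => AddMonoidHom.mk' (fun kk => qm I₀ U (rho x B U (fz U kk j))) (hadd j U))
    (fun U V hV kk => by
      have hμ' : (XA x B).presheaf.map (homOfLE (W_mono x B hV)).op (fμ U kk) ∈ mP P V := by
        have h1 := Ideal.mem_map_of_mem ((XA x B).presheaf.map (homOfLE (W_mono x B hV)).op).hom (hfμ U kk)
        rw [mP] at h1 ⊢
        rw [Ideal.map_mul, Ideal.map_map,
          show (((XA x B).presheaf.map (homOfLE (W_mono x B hV)).op).hom).comp (c x B U) = c x B V
            from RingHom.ext (c_map x B hV)] at h1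
        exact Ideal.mul_mono le_rfl
          (le_of_eq (P.map_ideal (U := W x B V) (V := W x B U) (W_mono x B hV))) h1
      show (ClSub.quotMod I₀).presheaf.map (homOfLE hV).op (qm I₀ U (rho x B U (fz U kk j))) =
        qm I₀ V (rho x B V (fz V ((kernel φ).presheaf.map (homOfLE hV).op kk) j))
      rw [hval V _ _ (fun l => (XA x B).presheaf.map (homOfLE (W_mono x B hV)).op (fz U kk l)) hμ' (by
        rw [app_map, el_map P U V hV, hfe U kk, map_add, map_sum]
        exact congrArg _ (Finset.sum_congr rfl fun l _ => by rw [map_mul, c_map x B hV])) j, rho_map x B hV]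
      exact qm_map hV _)
    (fun U a kk => by
      show qm I₀ U (rho x B U (fz U (a • kk) j)) = a • qm I₀ U (rho x B U (fz U kk j))
      rw [hval U _ (fstPull x B U a * fμ U kk) (fun l => fstPull x B U a * fz U kk l)
        (Ideal.mul_mem_left _ _ (hfμ U kk)) (by
          rw [Scheme.Modules.Hom.app_smul, el_smul, hfe U kk, mul_add, Finset.mul_sum]
          exact congrArg _ (Finset.sum_congr rfl fun l _ => by ring)) j, map_mul, rho_fst]
      exact qm_mul U _ _)
  choose κ hκ using hf
  exact ⟨κ, fun U kk μ z hμ he j => (hκ j U kk).trans (hval U kk μ z hμ he j)⟩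

theorem kappa_eq_zero_of_mem {r : ℕ} {t : Fin r → B} {κ : Fin r → (kernel φ ⟶ ClSub.quotMod I₀)}
    (hκ : IsKappa P I₀ φ t κ) (U : X.affineOpens) (kk : Γ(kernel φ, U.1))
    (h : el P U ((kernel.ι φ).app U.1 kk) ∈ mP P U) (j : Fin r) : (κ j).app U.1 kk = 0 := by
  rw [hκ U kk _ 0 h (by simp) j, Pi.zero_apply, map_zero, map_zero]

set_option maxHeartbeats 1000000 in
/-- Where generators and relations lift, the extension has a section. -/
theorem exists_section_on (hφ : ∀ (U : X.affineOpens) s, OmegaSh.idealSect I₀ U.1 (φ.app U.1 s) = rho x B U (el P U s))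
    {N : X.Modules} (κ : kernel φ ⟶ N) (U : X.affineOpens)
    (hκ : ∀ kk : Γ(kernel φ, U.1), el P U ((kernel.ι φ).app U.1 kk) ∈ mP P U → κ.app U.1 kk = 0)
    (hU : GoodLocal P I₀ U) :
    ∃ s, s ≫ (Scheme.Modules.restrictFunctor U.1.ι).map (extG φ κ) = 𝟙 _ := by
  obtain ⟨n, α, hαP, hspan, hrel⟩ := hU
  choose sv hsv using fun i => exists_el P U (α i) (hαP i)
  let inr := pushout.inr κ (kernel.ι φ)
  let e : Fin n → Γ(pushout κ (kernel.ι φ), U.1) := fun i => inr.app U.1 (sv i)
  have hrel0 : ∀ a : Fin n → Γ(X, U.1), ∑ i, a i * rho x B U (α i) = 0 → ∑ i, a i • e i = 0 := by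
    intro a ha
    obtain ⟨a', ha', hmem⟩ := hrel a ha
    have hel : el P U (∑ i, a i • sv i) = ∑ i, fstPull x B U (a i) * α i := by
      rw [map_sum]
      exact Finset.sum_congr rfl fun i _ => by rw [el_smul, hsv]
    have hμ : el P U (∑ i, a i • sv i) ∈ mP P U := by
      rw [hel, show ∑ i, fstPull x B U (a i) * α i =
        ∑ i, a' i * α i + ∑ i, (fstPull x B U (a i) - a' i) * α i by
          rw [← Finset.sum_add_distrib]; exact Finset.sum_congr rfl fun i _ => by ring]
      refine add_mem hmem (sum_mem fun i _ => Ideal.mul_mem_mul ?_ (hαP i))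
      rw [← (rho_spec x B U).2, RingHom.mem_ker, map_sub, rho_fst, ha', sub_self]
    have hs0 : φ.app U.1 (∑ i, a i • sv i) = 0 :=
      OmegaLib.idealSect_injective I₀ U.1 (by rw [hφ, rho_eq_zero_of_mem_mP P hμ, map_zero])
    let kk := OmegaSh.kerLift φ U.1 _ hs0
    have hk : (kernel.ι φ).app U.1 kk = ∑ i, a i • sv i := OmegaSh.ι_kerLift φ U.1 _ hs0
    have hκ0 : κ.app U.1 kk = 0 := hκ kk (by rw [hk]; exact hμ)
    have h1 : inr.app U.1 ((kernel.ι φ).app U.1 kk) = (pushout.inl κ (kernel.ι φ)).app U.1 (κ.app U.1 kk) :=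
      (congr(($(pushout.condition (f := κ) (g := kernel.ι φ))).app U.1 kk)).symm
    rw [hk, hκ0, map_zero, map_sum] at h1
    refine Eq.trans ?_ h1
    exact Finset.sum_congr rfl fun i _ => (Scheme.Modules.Hom.app_smul inr (a i) (sv i)).symm
  have hrep : ∀ s : Γ(ClSub.idealMod I₀, U.1), ∃ a : Fin n → Γ(X, U.1),
      ∑ i, a i * rho x B U (α i) = OmegaSh.idealSect I₀ U.1 s := fun s =>
    Ideal.mem_span_range_iff_exists_fun.1 (hspan ▸ OmegaLib.idealSect_mem I₀ U s)
  choose a ha using hrep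
  let σ : Γ(ClSub.idealMod I₀, U.1) → Γ(pushout κ (kernel.ι φ), U.1) := fun s => ∑ i, a s i • e i
  have huniq : ∀ s (b : Fin n → Γ(X, U.1)), ∑ i, b i * rho x B U (α i) = OmegaSh.idealSect I₀ U.1 s →
      σ s = ∑ i, b i • e i := fun s b hb => by
    rw [← sub_eq_zero, ← Finset.sum_sub_distrib, ← hrel0 (a s - b) (by
      simp only [Pi.sub_apply, sub_mul, Finset.sum_sub_distrib, ha, hb, sub_self])]
    exact Finset.sum_congr rfl fun i _ => by rw [Pi.sub_apply, sub_smul]
  refine LocSplit.exists_local_section _ (LocSplit.isQCoh_idealMod I₀) U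
    (AddMonoidHom.mk' σ fun s s' => ?_) (fun r s => ?_) fun s => ?_
  · rw [huniq (s + s') (a s + a s') (by
      simp only [Pi.add_apply, add_mul, Finset.sum_add_distrib, ha]; rw [map_add])]
    show _ = ∑ i, a s i • e i + ∑ i, a s' i • e i
    rw [← Finset.sum_add_distrib]
    exact Finset.sum_congr rfl fun i _ => by rw [Pi.add_apply, add_smul]
  · show σ (r • s) = r • σ s
    rw [huniq (r • s) (r • a s) (by
      rw [OmegaLib.idealSect_smul, ← ha, Finset.mul_sum]
      exact Finset.sum_congr rfl fun i _ => by rw [Pi.smul_apply, smul_eq_mul, mul_assoc]), Finset.smul_sum]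
    exact Finset.sum_congr rfl fun i _ => by rw [Pi.smul_apply, smul_eq_mul, mul_smul]
  · refine OmegaLib.idealSect_injective I₀ U.1 ?_
    have hgi : ∀ i, (extG φ κ).app U.1 (e i) = φ.app U.1 (sv i) := fun i =>
      congr(($(inr_extG φ κ)).app U.1 (sv i))
    show OmegaSh.idealSect I₀ U.1 ((extG φ κ).app U.1 (∑ i, a s i • e i)) = _
    rw [← ha s, map_sum, map_sum]
    refine Finset.sum_congr rfl fun i _ => ?_
    rw [Scheme.Modules.Hom.app_smul, hgi, OmegaLib.idealSect_smul, hφ, hsv]

end Groth.Agent.DeformNL.HilbKappa
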