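import Groth.Agent.DeformNL.LocSplit
import Groth.Agent.ArtFunLib.HilbIdeal

/-!
# Lifting embedded deformations that lift locally
-/

set_option autoImplicit false
set_option linter.style.haveILetI false
set_option backward.isDefEq.respectTransparency false
universe u

open CategoryTheory CategoryTheory.Limits AlgebraicGeometry ArtFun ArtFun.Art Opposite

namespace Groth.Agent.DeformNL.HilbLoc

open Groth.Agent Groth.Agent.ArtFunLib Groth.Agent.ArtFunLib.HilbAffine Groth.Agent.ArtFunLib.HilbSit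
  Groth.Agent.ArtFunLib.HilbMod Groth.Agent.ArtFunLib.HilbIdeal

variable {k : Type u} [Field k] {X : Scheme.{u}} {x : X ⟶ specPt k} {B : Art k k}
  (P : (XA x B).IdealSheafData) (I₀ : X.IdealSheafData)

/-- `𝔪 P` over an affine open. -/
noncomputable def mP (U : X.affineOpens) : Ideal Γ(XA x B, (W x B U).1) :=
  (IsLocalRing.maximalIdeal B).map (c x B U) * P.ideal (W x B U)

/-- Generators of `I₀` lift to elements of `P` such that all their relations lift modulo `𝔪 P`. -/
def GoodLocal (U : X.affineOpens) : Prop :=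
  ∃ (n : ℕ) (α : Fin n → Γ(XA x B, (W x B U).1)), (∀ i, α i ∈ P.ideal (W x B U)) ∧
    Ideal.span (Set.range fun i => rho x B U (α i)) = I₀.ideal U ∧
    ∀ a : Fin n → Γ(X, U.1), ∑ i, a i * rho x B U (α i) = 0 →
      ∃ a' : Fin n → Γ(XA x B, (W x B U).1), (∀ i, rho x B U (a' i) = a i) ∧ ∑ i, a' i * α i ∈ mP P U

theorem rho_eq_zero_of_mem_mP {U : X.affineOpens} {μ : Γ(XA x B, (W x B U).1)} (hμ : μ ∈ mP P U) :
    rho x B U μ = 0 := by
  have hμ2 : μ ∈ (IsLocalRing.maximalIdeal B).map (c x B U) :=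
    (Ideal.mul_le_left : (IsLocalRing.maximalIdeal B).map (c x B U) * P.ideal (W x B U) ≤ _) hμ
  exact RingHom.mem_ker.1 ((rho_spec x B U).2.ge hμ2)

/-- The prescribed values on the kernel of restriction to the closed fibre. -/
theorem exists_kappa (φ : G P ⟶ ClSub.idealMod I₀)
    (hφ : ∀ (U : X.affineOpens) s, OmegaSh.idealSect I₀ U.1 (φ.app U.1 s) = rho x B U (el P U s))
    (t : B)
    (hrep : ∀ U e, e ∈ P.ideal (W x B U) → rho x B U e = 0 → ∃ μ z, μ ∈ mP P U ∧ e = μ + c x B U t * z)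
    (hzero : ∀ U z, c x B U t * z ∈ mP P U → I₀.subschemeι.app U.1 (rho x B U z) = 0) :
    ∃ κ : kernel φ ⟶ ClSub.quotMod I₀, ∀ (U : X.affineOpens) (kk : Γ(kernel φ, U.1)) μ z, μ ∈ mP P U →
      el P U ((kernel.ι φ).app U.1 kk) = μ + c x B U t * z →
        κ.app U.1 kk = I₀.subschemeι.app U.1 (rho x B U z) := by
  have hkρ : ∀ (U : X.affineOpens) (kk : Γ(kernel φ, U.1)), rho x B U (el P U ((kernel.ι φ).app U.1 kk)) = 0 := fun U kk => by
    have e0 : φ.app U.1 ((kernel.ι φ).app U.1 kk) = 0 := congr(($(kernel.condition φ)).app U.1 kk)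
    rw [← hφ, e0, map_zero]
  have hex := fun U kk => hrep U _ (el_mem P U _) (hkρ U kk)
  choose fμ fz hfμ hfe using hex
  let κf : ∀ U : X.affineOpens, Γ(kernel φ, U.1) → Γ(ClSub.quotMod I₀, U.1) := fun U kk =>
    I₀.subschemeι.app U.1 (rho x B U (fz U kk))
  have hval : ∀ U kk μ z, μ ∈ mP P U → el P U ((kernel.ι φ).app U.1 kk) = μ + c x B U t * z →
      κf U kk = I₀.subschemeι.app U.1 (rho x B U z) := fun U kk μ z hμ he => by
    rw [← sub_eq_zero]
    show I₀.subschemeι.app U.1 (rho x B U (fz U kk)) - I₀.subschemeι.app U.1 (rho x B U z) = 0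
    rw [← map_sub, ← map_sub]
    refine hzero U _ ?_
    rw [show c x B U t * (fz U kk - z) = μ - fμ U kk by linear_combination (hfe U kk).symm.trans he]
    exact sub_mem hμ (hfμ U kk)
  have hadd : ∀ U a b, κf U (a + b) = κf U a + κf U b := fun U a b => by
    rw [hval U (a + b) (fμ U a + fμ U b) (fz U a + fz U b) (add_mem (hfμ U a) (hfμ U b)) (by
      rw [map_add, map_add, hfe U a, hfe U b]; ring), map_add]
    exact map_add (I₀.subschemeι.app U.1).hom _ _
  obtain ⟨κ, hκ⟩ := FamilyHom.exists_hom_of_family (fun U => AddMonoidHom.mk' (κf U) (hadd U))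
    (fun U V hV kk => by
      have hμ' : (XA x B).presheaf.map (homOfLE (W_mono x B hV)).op (fμ U kk) ∈ mP P V := by
        have h1 := Ideal.mem_map_of_mem ((XA x B).presheaf.map (homOfLE (W_mono x B hV)).op).hom (hfμ U kk)
        rw [mP] at h1 ⊢
        rw [Ideal.map_mul, Ideal.map_map, show (((XA x B).presheaf.map (homOfLE (W_mono x B hV)).op).hom).comp (c x B U) = c x B V
          from RingHom.ext (c_map x B hV)] at h1
        exact Ideal.mul_mono le_rfl (le_of_eq (P.map_ideal (U := W x B V) (V := W x B U) (W_mono x B hV))) h1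
      show (ClSub.quotMod I₀).presheaf.map (homOfLE hV).op (κf U kk) =
        κf V ((kernel φ).presheaf.map (homOfLE hV).op kk)
      rw [hval V _ _ _ hμ' (by
        rw [app_map, el_map P U V hV, hfe U kk, map_add, map_mul, c_map x B hV]), rho_map x B hV]
      exact (congr($(I₀.subschemeι.naturality (homOfLE hV).op) (rho x B U (fz U kk)))).symm)
    (fun U r kk => by
      show κf U (r • kk) = r • κf U kk
      rw [hval U _ (fstPull x B U r * fμ U kk) (fstPull x B U r * fz U kk) (Ideal.mul_mem_left _ _ (hfμ U kk)) (by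
        rw [Scheme.Modules.Hom.app_smul, el_smul, hfe U kk]; ring), map_mul, rho_fst]
      exact map_mul (I₀.subschemeι.app U.1).hom _ _)
  exact ⟨κ, fun U kk μ z hμ he => (hκ U kk).trans (hval U kk μ z hμ he)⟩

/-- An extension of the prescribed values has the prescribed values. -/
theorem theta_spec (φ : G P ⟶ ClSub.idealMod I₀)
    (hφ : ∀ (U : X.affineOpens) s, OmegaSh.idealSect I₀ U.1 (φ.app U.1 s) = rho x B U (el P U s))
    (t : B) (htm : t ∈ IsLocalRing.maximalIdeal B) (κ : kernel φ ⟶ ClSub.quotMod I₀)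
    (hκ : ∀ (U : X.affineOpens) (kk : Γ(kernel φ, U.1)) μ z, μ ∈ mP P U →
      el P U ((kernel.ι φ).app U.1 kk) = μ + c x B U t * z →
        κ.app U.1 kk = I₀.subschemeι.app U.1 (rho x B U z))
    (θ : G P ⟶ ClSub.quotMod I₀) (hθ : kernel.ι φ ≫ θ = κ) (U : X.affineOpens) (s : Γ(G P, U.1)) μ z
    (hμ : μ ∈ mP P U) (he : el P U s = μ + c x B U t * z) :
    θ.app U.1 s = I₀.subschemeι.app U.1 (rho x B U z) := by
  have hρt : rho x B U (c x B U t) = 0 :=
    RingHom.mem_ker.1 ((rho_spec x B U).2.ge (Ideal.mem_map_of_mem _ htm))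
  have hρ0 : rho x B U (el P U s) = 0 := by
    rw [he, map_add, map_mul, rho_eq_zero_of_mem_mP P hμ, hρt, zero_mul, add_zero]
  have hs0 : φ.app U.1 s = 0 := OmegaLib.idealSect_injective I₀ U.1 (by rw [hφ, hρ0, map_zero])
  have hk := OmegaSh.ι_kerLift φ U.1 s hs0
  have e2 : θ.app U.1 ((kernel.ι φ).app U.1 (OmegaSh.kerLift φ U.1 s hs0)) =
      κ.app U.1 (OmegaSh.kerLift φ U.1 s hs0) := congr(($hθ).app U.1 _)
  rw [hk] at e2
  exact e2.trans (hκ U _ μ z hμ (by rw [hk, he]))

section Ext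

variable (φ : G P ⟶ ClSub.idealMod I₀) (κ : kernel φ ⟶ ClSub.quotMod I₀)

/-- The extension of `I₀` by `O/I₀` attached to the prescribed values. -/
noncomputable def extComplex : ShortComplex X.Modules :=
  ShortComplex.mk (pushout.inl κ (kernel.ι φ))
    (pushout.desc 0 φ (by rw [comp_zero, kernel.condition])) (pushout.inl_desc _ _ _)

theorem extComplex_shortExact [Epi φ] : (extComplex P I₀ φ κ).ShortExact := by
  haveI : Mono (extComplex P I₀ φ κ).f := Abelian.mono_pushout_of_mono_g κ (kernel.ι φ)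
  haveI : Epi (extComplex P I₀ φ κ).g :=
    epi_of_epi_fac (pushout.inr_desc (0 : ClSub.quotMod I₀ ⟶ ClSub.idealMod I₀) φ
      (by rw [comp_zero, kernel.condition]))
  let S : ShortComplex X.Modules := ShortComplex.mk (kernel.ι φ) φ (kernel.condition φ)
  haveI : Epi S.g := ‹Epi φ›
  have hS : S.Exact := ShortComplex.exact_of_f_is_kernel S (kernelIsKernel φ)
  have hb : ∀ {T : X.Modules} (l : pushout κ (kernel.ι φ) ⟶ T), pushout.inl κ (kernel.ι φ) ≫ l = 0 →
      kernel.ι φ ≫ pushout.inr κ (kernel.ι φ) ≫ l = 0 := fun l hl => by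
    rw [← Category.assoc, ← pushout.condition, Category.assoc, hl, comp_zero]
  exact
    { exact := ShortComplex.exact_of_g_is_cokernel _ (CokernelCofork.IsColimit.ofπ _ _
        (fun {T} l hl => hS.desc (pushout.inr κ (kernel.ι φ) ≫ l) (hb l hl))
        (fun {T} l hl => pushout.hom_ext
          (by rw [← Category.assoc]; exact (congrArg (· ≫ _) (pushout.inl_desc _ _ _)).trans (zero_comp.trans hl.symm))
          (by rw [← Category.assoc]; exact (congrArg (· ≫ _) (pushout.inr_desc _ _ _)).trans (hS.g_desc _ _)))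
        (fun {T} l hl m hm => by
          rw [← cancel_epi (extComplex P I₀ φ κ).g, hm]
          exact pushout.hom_ext
            (by rw [← Category.assoc]; exact hl.trans ((congrArg (· ≫ _) (pushout.inl_desc _ _ _)).trans zero_comp).symm)
            (by rw [← Category.assoc]; exact ((congrArg (· ≫ _) (pushout.inr_desc _ _ _)).trans (hS.g_desc _ _)).symm))) }

theorem exists_theta_of_section [Epi φ]
    (h : ∃ s, s ≫ (extComplex P I₀ φ κ).g = 𝟙 _) : ∃ θ : G P ⟶ ClSub.quotMod I₀, kernel.ι φ ≫ θ = κ := by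
  obtain ⟨s, hs⟩ := h
  let sp := ShortComplex.Splitting.ofExactOfSection _ (extComplex_shortExact P I₀ φ κ).exact s hs
    (extComplex_shortExact P I₀ φ κ).mono_f
  refine ⟨pushout.inr κ (kernel.ι φ) ≫ sp.r, ?_⟩
  rw [← Category.assoc, ← pushout.condition, Category.assoc]
  exact (congrArg (κ ≫ ·) sp.f_r).trans (Category.comp_id κ)

/-- A section of the restricted extension gives an extension of the restricted values. -/
theorem exists_theta_on [Epi φ] (U : X.Opens)
    (h : ∃ s, s ≫ (Scheme.Modules.restrictFunctor U.ι).map (extComplex P I₀ φ κ).g = 𝟙 _) :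
    ∃ θ : (Scheme.Modules.restrictFunctor U.ι).obj (G P) ⟶ (Scheme.Modules.restrictFunctor U.ι).obj (ClSub.quotMod I₀),
      (Scheme.Modules.restrictFunctor U.ι).map (kernel.ι φ) ≫ θ = (Scheme.Modules.restrictFunctor U.ι).map κ := by
  obtain ⟨s, hs⟩ := h
  let R := Scheme.Modules.restrictFunctor U.ι
  have hS := (extComplex_shortExact P I₀ φ κ).map_of_exact R
  let sp := ShortComplex.Splitting.ofExactOfSection _ hS.exact s hs hS.mono_f
  refine ⟨R.map (pushout.inr κ (kernel.ι φ)) ≫ sp.r, ?_⟩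
  rw [← Category.assoc, ← R.map_comp, ← pushout.condition, R.map_comp, Category.assoc]
  exact (congrArg (R.map κ ≫ ·) sp.f_r).trans (Category.comp_id _)

set_option maxHeartbeats 1000000 in
theorem exists_section_on (hφ : ∀ (U : X.affineOpens) s, OmegaSh.idealSect I₀ U.1 (φ.app U.1 s) = rho x B U (el P U s))
    (t : B)
    (hκ : ∀ (U : X.affineOpens) (kk : Γ(kernel φ, U.1)) μ z, μ ∈ mP P U →
      el P U ((kernel.ι φ).app U.1 kk) = μ + c x B U t * z →
        κ.app U.1 kk = I₀.subschemeι.app U.1 (rho x B U z))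
    (U : X.affineOpens) (hU : GoodLocal P I₀ U) :
    ∃ s, s ≫ (Scheme.Modules.restrictFunctor U.1.ι).map (extComplex P I₀ φ κ).g = 𝟙 _ := by
  obtain ⟨n, α, hαP, hspan, hrel⟩ := hU
  choose sv hsv using fun i => exists_el P U (α i) (hαP i)
  let inr := pushout.inr κ (kernel.ι φ)
  let e : Fin n → Γ(pushout κ (kernel.ι φ), U.1) := fun i => inr.app U.1 (sv i)
  have hrel0 : ∀ a : Fin n → Γ(X, U.1), ∑ i, a i * rho x B U (α i) = 0 → ∑ i, a i • e i = 0 := by
    intro a ha
    obtain ⟨a', ha', hmem⟩ := hrel a ha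
    have hel : el P U (∑ i, a i • sv i) = ∑ i, fstPull x B U (a i) * α i := by
      rw [map_sum]
      exact Finset.sum_congr rfl fun i _ => by rw [el_smul, hsv]
    have hμ : el P U (∑ i, a i • sv i) ∈ mP P U := by
      rw [hel, show ∑ i, fstPull x B U (a i) * α i =
        ∑ i, a' i * α i + ∑ i, (fstPull x B U (a i) - a' i) * α i by
          rw [← Finset.sum_add_distrib]; exact Finset.sum_congr rfl fun i _ => by ring]
      refine add_mem hmem (sum_mem fun i _ => Ideal.mul_mem_mul ?_ (hαP i))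
      rw [← (rho_spec x B U).2, RingHom.mem_ker, map_sub, rho_fst, ha', sub_self]
    have hs0 : φ.app U.1 (∑ i, a i • sv i) = 0 :=
      OmegaLib.idealSect_injective I₀ U.1 (by rw [hφ, rho_eq_zero_of_mem_mP P hμ, map_zero])
    let kk := OmegaSh.kerLift φ U.1 _ hs0
    have hk : (kernel.ι φ).app U.1 kk = ∑ i, a i • sv i := OmegaSh.ι_kerLift φ U.1 _ hs0
    have hκ0 : κ.app U.1 kk = 0 := by
      rw [hκ U kk _ 0 hμ (by rw [hk, mul_zero, add_zero]), map_zero]
      exact map_zero (I₀.subschemeι.app U.1).hom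
    have h1 : inr.app U.1 ((kernel.ι φ).app U.1 kk) = (pushout.inl κ (kernel.ι φ)).app U.1 (κ.app U.1 kk) :=
      (congr(($(pushout.condition (f := κ) (g := kernel.ι φ))).app U.1 kk)).symm
    rw [hk, hκ0, map_zero, map_sum] at h1
    refine Eq.trans ?_ h1
    exact Finset.sum_congr rfl fun i _ => (Scheme.Modules.Hom.app_smul inr (a i) (sv i)).symm
  have hrep : ∀ s : Γ(ClSub.idealMod I₀, U.1), ∃ a : Fin n → Γ(X, U.1),
      ∑ i, a i * rho x B U (α i) = OmegaSh.idealSect I₀ U.1 s := fun s =>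
    Ideal.mem_span_range_iff_exists_fun.1 (hspan ▸ OmegaLib.idealSect_mem I₀ U s)
  choose a ha using hrep
  let σ : Γ(ClSub.idealMod I₀, U.1) → Γ(pushout κ (kernel.ι φ), U.1) := fun s => ∑ i, a s i • e i
  have huniq : ∀ s (b : Fin n → Γ(X, U.1)), ∑ i, b i * rho x B U (α i) = OmegaSh.idealSect I₀ U.1 s →
      σ s = ∑ i, b i • e i := fun s b hb => by
    rw [← sub_eq_zero, ← Finset.sum_sub_distrib, ← hrel0 (a s - b) (by
      simp only [Pi.sub_apply, sub_mul, Finset.sum_sub_distrib, ha, hb, sub_self])]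
    exact Finset.sum_congr rfl fun i _ => by rw [Pi.sub_apply, sub_smul]
  refine LocSplit.exists_local_section _ (LocSplit.isQCoh_idealMod I₀) U
    (AddMonoidHom.mk' σ fun s s' => ?_) (fun r s => ?_) fun s => ?_
  · rw [huniq (s + s') (a s + a s') (by
      simp only [Pi.add_apply, add_mul, Finset.sum_add_distrib, ha]; rw [map_add])]
    show _ = ∑ i, a s i • e i + ∑ i, a s' i • e i
    rw [← Finset.sum_add_distrib]
    exact Finset.sum_congr rfl fun i _ => by rw [Pi.add_apply, add_smul]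
  · show σ (r • s) = r • σ s
    rw [huniq (r • s) (r • a s) (by
      rw [OmegaLib.idealSect_smul, ← ha, Finset.mul_sum]
      exact Finset.sum_congr rfl fun i _ => by rw [Pi.smul_apply, smul_eq_mul, mul_assoc]), Finset.smul_sum]
    exact Finset.sum_congr rfl fun i _ => by rw [Pi.smul_apply, smul_eq_mul, mul_smul]
  · refine OmegaLib.idealSect_injective I₀ U.1 ?_
    have hgi : ∀ i, (extComplex P I₀ φ κ).g.app U.1 (e i) = φ.app U.1 (sv i) := fun i =>
      congr(($(pushout.inr_desc (0 : ClSub.quotMod I₀ ⟶ ClSub.idealMod I₀) φ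
        (by rw [comp_zero, kernel.condition]))).app U.1 (sv i))
    show OmegaSh.idealSect I₀ U.1 ((extComplex P I₀ φ κ).g.app U.1 (∑ i, a s i • e i)) = _
    rw [← ha s, map_sum, map_sum]
    refine Finset.sum_congr rfl fun i _ => ?_
    rw [Scheme.Modules.Hom.app_smul, hgi, OmegaLib.idealSect_smul, hφ, hsv]

end Ext

/-- Values on a kernel of restriction to the closed fibre that extend locally extend globally. -/
def Extends {X : Scheme.{u}} {x : X ⟶ specPt k} (I₀ : X.IdealSheafData) : Prop :=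
  ∀ {B : Art k k} (P : (XA x B).IdealSheafData) (φ : G P ⟶ ClSub.idealMod I₀) [Epi φ]
    (κ : kernel φ ⟶ ClSub.quotMod I₀),
    (∀ y : X, ∃ U : X.Opens, y ∈ U ∧
      ∃ s, s ≫ (Scheme.Modules.restrictFunctor U.ι).map (extComplex P I₀ φ κ).g = 𝟙 _) →
    ∃ θ : G P ⟶ ClSub.quotMod I₀, kernel.ι φ ≫ θ = κ

/-- Vanishing of `H¹` of the normal sheaf lets local extensions glue. -/
theorem extends_of_h1
    (hH : Subsingleton (Coh.HH X ((SheafHomX.hom (ClSub.idealMod I₀)).obj (ClSub.quotMod I₀)) 1)) :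
    Extends (x := x) I₀ :=
  fun P φ _ κ h => exists_theta_of_section P I₀ φ κ (LocSplit.exists_section (extComplex_shortExact P I₀ φ κ) h hH)

/-- `H¹` of the normal sheaf vanishing gives the values everywhere when they exist locally. -/
theorem exists_theta_loc
    (hE : Extends (x := x) I₀)
    (hgood : ∀ y : X, ∃ U : X.affineOpens, y ∈ U.1 ∧ GoodLocal P I₀ U)
    (φ : G P ⟶ ClSub.idealMod I₀) [Epi φ]
    (hφ : ∀ (U : X.affineOpens) s, OmegaSh.idealSect I₀ U.1 (φ.app U.1 s) = rho x B U (el P U s))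
    (t : B) (htm : t ∈ IsLocalRing.maximalIdeal B)
    (hrep : ∀ U e, e ∈ P.ideal (W x B U) → rho x B U e = 0 → ∃ μ z, μ ∈ mP P U ∧ e = μ + c x B U t * z)
    (hzero : ∀ U z, c x B U t * z ∈ mP P U → I₀.subschemeι.app U.1 (rho x B U z) = 0) :
    ∃ θ : G P ⟶ ClSub.quotMod I₀, ∀ (U : X.affineOpens) s μ z, μ ∈ mP P U → el P U s = μ + c x B U t * z →
      θ.app U.1 s = I₀.subschemeι.app U.1 (rho x B U z) := by
  obtain ⟨κ, hκ⟩ := exists_kappa P I₀ φ hφ t hrep hzero
  obtain ⟨θ, hθ⟩ := hE P φ κ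
    (fun y => (hgood y).elim fun U hU => ⟨U.1, hU.1, exists_section_on P I₀ φ κ hφ t hκ U hU.2⟩)
  exact ⟨θ, theta_spec P I₀ φ hφ t htm κ hκ θ hθ⟩

end Groth.Agent.DeformNL.HilbLoc
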