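import Groth.Agent.DeformNL.HilbLoc

/-! Global extension and local liftability give smoothness of the local Hilbert functor. -/

set_option autoImplicit false
set_option backward.isDefEq.respectTransparency false
universe u

open CategoryTheory CategoryTheory.Limits AlgebraicGeometry ArtFun ArtFun.Art Opposite

namespace Groth.Agent.DeformNL.HilbLocSmooth

open Groth.Agent Groth.Agent.ArtFunLib Groth.Agent.ArtFunLib.HilbAffine Groth.Agent.ArtFunLib.HilbSit Groth.Agent.ArtFunLib.HilbMod Groth.Agent.ArtFunLib.HilbIdeal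

variable {k : Type u} [Field k] (X : Scheme.{u}) (x : X ⟶ specPt k) (I₀ : X.IdealSheafData)

/-- Over every small extension, generators and relations of the closed fibre lift locally. -/
def LocallyLiftable : Prop :=
  ∀ ⦃B A : Art k k⦄ (p : B ⟶ A), IsSmallExt p → ∀ (IA : (localHilb X x I₀).obj A) (y : X),
    ∃ U : X.affineOpens, y ∈ U.1 ∧ ∀ P : (XA x B).IdealSheafData,
      (∀ V, P.ideal (W x B V) = (IA.1.ideal (W x A V)).comap (pi x p V)) → HilbLoc.GoodLocal P I₀ U

theorem small_surjective (hE : HilbLoc.Extends (x := x) I₀)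
    (hL : LocallyLiftable X x I₀)
    {B A : Art k k} (p : B ⟶ A) (hp : IsSmallExt p) (IA : (localHilb X x I₀).obj A) :
    ∃ I : (localHilb X x I₀).obj B, I.1.comap (XAmap x p) = IA.1 := by
  obtain ⟨t, ht⟩ := hp.2.2.1
  have hkt : RingHom.ker p.toAlgHom.toRingHom = Ideal.span {t} := ht
  have ht0 : t ≠ 0 := fun h0 => hp.2.1 (ht.trans (by
    show Ideal.span {t} = ⊥; rw [h0, Ideal.span_singleton_zero]))
  have hm0 : IsLocalRing.maximalIdeal B * Ideal.span {t} = ⊥ := by rw [← hkt]; exact hp.2.2.2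
  have hpt : p t = 0 := RingHom.mem_ker.1 (hkt.ge (Ideal.mem_span_singleton_self t))
  have htm : t ∈ IsLocalRing.maximalIdeal B := ArtFunLib.ker_le_maximalIdeal p (hkt.ge (Ideal.mem_span_singleton_self t))
  haveI := isClosedImmersion_map x p hp.1
  have hIA : ∀ U, ((Ideal.Quotient.mk (IA.1.ideal (W x A U))).comp (c x A U)).Flat :=
    fun U => flat_quotient x IA.1 IA.2.1 U
  have h0A : ∀ U, (IA.1.ideal (W x A U)).map (rho x A U) = I₀.ideal U := fun U => by
    rw [← comap_incl_ideal, IA.2.2]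
  obtain ⟨P, hP⟩ : ∃ P : (XA x B).IdealSheafData,
      ∀ U, P.ideal (W x B U) = (IA.1.ideal (W x A U)).comap (pi x p U) :=
    ⟨IA.1.map (XAmap x p), fun U => Ideal.ext fun a =>
      mem_map_iff (XAmap x p) IA.1 (W x B U) (W x A U) (pi_le x p U) (pi_le x p U).le a⟩
  have h0 : ∀ U, (P.ideal (W x B U)).map (rho x B U) = I₀.ideal U := fun U => by
    rw [hP, show rho x B U = (rho x A U).comp (pi x p U) from RingHom.ext fun a => (rho_pi x p U a).symm,
      ← Ideal.map_map, Ideal.map_comap_of_surjective _ (pi_spec x p hp.1 U).1, h0A]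
  obtain ⟨φ, hepi, hφ⟩ := exists_phi P I₀ h0
  haveI := hepi
  obtain ⟨θ, hθ⟩ := HilbLoc.exists_theta_loc P I₀ hE
    (fun y => (hL p hp IA y).imp fun U hU => ⟨hU.1, hU.2 P hP⟩) φ hφ t htm
    (fun U e he hρ => by
      rw [hP] at he
      obtain ⟨μ, hμ, w, hw, e'⟩ := Submodule.mem_sup.1
        (HilbObsRing.inf_ker_le (sit x p hp.1 t hkt ht0 hm0 U) (hIA U) ⟨he, RingHom.mem_ker.2 hρ⟩)
      obtain ⟨z, rfl⟩ := Ideal.mem_span_singleton'.1 hw
      exact ⟨μ, z, by rw [HilbLoc.mP, hP]; exact hμ, e'.symm.trans (by rw [mul_comm z]; rfl)⟩)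
    (fun U z hz => by
      rw [HilbLoc.mP, hP] at hz
      have := HilbObsRing.rho_mem_of_mem_mul (sit x p hp.1 t hkt ht0 hm0 U) (hIA U) z hz
      rw [← RingHom.mem_ker, I₀.ker_subschemeι_app, ← h0A U]
      exact this)
  have hlin : ∀ (U : X.affineOpens) s (R : Γ(XA x B, (W x B U).1)) s', el P U s' = R * el P U s →
      θ.app U.1 s' = rho x B U R • θ.app U.1 s := fun U s R s' he => by
    rw [← Scheme.Modules.Hom.app_smul, ← sub_eq_zero, ← map_sub]
    rw [hθ U _ ((R - fstPull x B U (rho x B U R)) * el P U s) 0 ?_ ?_, map_zero]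
    · exact map_zero (I₀.subschemeι.app U.1).hom
    · refine Ideal.mul_mem_mul ?_ (el_mem P U s)
      rw [← (rho_spec x B U).2, RingHom.mem_ker, map_sub, rho_fst, sub_self]
    · rw [mul_zero, add_zero, sub_mul, ← he, ← el_smul, map_sub]
  obtain ⟨I, hI⟩ := exists_ideal P I₀ θ hlin
  have hcz : ∀ U z, ∃ s, el P U s = c x B U t * z ∧ θ.app U.1 s = I₀.subschemeι.app U.1 (rho x B U z) := fun U z => by
    obtain ⟨s, hs⟩ := exists_el P U (c x B U t * z) (by
      rw [hP, Ideal.mem_comap, map_mul, pi_c, hpt, map_zero, zero_mul]; exact zero_mem _)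
    exact ⟨s, hs, hθ U s 0 z (zero_mem _) (by rw [hs, zero_add])⟩
  have hmapA : ∀ U, (I.ideal (W x B U)).map (pi x p U) = IA.1.ideal (W x A U) := fun U => by
    refine le_antisymm (Ideal.map_le_iff_le_comap.2 fun a ha => ?_) fun α hα => ?_
    · obtain ⟨s, rfl, -⟩ := (hI U a).1 ha
      exact hP U ▸ el_mem P U s
    · obtain ⟨a, rfl⟩ := (pi_spec x p hp.1 U).1 α
      obtain ⟨s, hs⟩ := exists_el P U a (by rw [hP]; exact hα)
      obtain ⟨w, hw⟩ := I₀.subschemeι_app_surjective U (θ.app U.1 s)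
      obtain ⟨z, hz⟩ := (rho_spec x B U).1 w
      obtain ⟨s', hs', hs'θ⟩ := hcz U z
      have hmem : a - c x B U t * z ∈ I.ideal (W x B U) :=
        (hI U _).2 ⟨s - s', by rw [map_sub, hs, hs'], by rw [map_sub, hs'θ, hz, hw]; exact sub_self _⟩
      have h5 := Ideal.mem_map_of_mem (pi x p U) hmem
      rwa [map_sub, map_mul, pi_c, hpt, map_zero, zero_mul, sub_zero] at h5
  have hcomap : I.comap (XAmap x p) = IA.1 := HilbAffine.ext_ideal x fun U => by
    rw [comap_map_ideal, hmapA]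
  refine ⟨⟨I, ?_, ?_⟩, hcomap⟩
  · refine flat_of_ideals I fun U => ?_
    refine HilbObsRing.flat_of_lift (sit x p hp.1 t hkt ht0 hm0 U) (hIA U) (rho_spec x B U).1
      (I.ideal (W x B U)) (hmapA U) fun z hz => ?_
    obtain ⟨s, hs, hs0⟩ := (hI U _).1 hz
    obtain ⟨s', hs', hs'θ⟩ := hcz U z
    obtain rfl : s = s' := el_injective P U (hs.trans hs'.symm)
    show rho x B U z ∈ (IA.1.ideal (W x A U)).map (rho x A U)
    rw [h0A, ← I₀.ker_subschemeι_app, RingHom.mem_ker]
    exact hs'θ.symm.trans hs0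
  · rw [← XAincl_XAmap x p, Scheme.IdealSheafData.comap_comp, hcomap, IA.2.2]

theorem isSmooth (hE : HilbLoc.Extends (x := x) I₀)
    (hL : LocallyLiftable X x I₀) :
    IsSmoothFunctor (localHilb X x I₀) := by
  intro B A p hp
  refine ArtFunLib.surjective_induction (P := fun _ _ q => Function.Surjective ((localHilb X x I₀).map q)) ?_ ?_ ?_ p hp
  · intro A B e he
    haveI := he
    exact ((isIso_iff_bijective _).1 (inferInstance : IsIso ((localHilb X x I₀).map e))).2
  · intro A B q hq IA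
    obtain ⟨I, hI⟩ := small_surjective X x I₀ hE hL q hq IA
    exact ⟨I, Subtype.ext hI⟩
  · intro A B C q r _ _ h1 h2
    rw [Functor.map_comp]
    exact h2.comp h1

end Groth.Agent.DeformNL.HilbLocSmooth
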