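import Groth.Agent.DeformNL.HilbTangent
import Groth.Agent.DeformNL.HilbImm
import Groth.Agent.SheafHomX.Main
import Groth.Agent.SheafHomX.Smul
import Groth.Agent.AmpleVan.ThickPush
import Groth.Agent.CurveCohLib.Proper

/-!
# The tangent space of the local Hilbert functor is `H⁰` of the normal sheaf
-/

set_option autoImplicit false
set_option linter.style.haveILetI false
set_option backward.isDefEq.respectTransparency false
set_option backward.isDefEq.respectTransparency.types false
universe u

open CategoryTheory CategoryTheory.Limits AlgebraicGeometry ArtFun ArtFun.Art Opposite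

namespace Groth.Agent.DeformNL.HilbNormal

open Groth.Agent

variable {k : Type u} [Field k] {X Z : Scheme.{u}} [X.Over (Spec (CommRingCat.of k))]
  [Z.Over (Spec (CommRingCat.of k))]

theorem cls_add {F : Z.Modules} (y y' : Coh.structureModule Z ⟶ F) :
    SheafHomX.cls (y + y') = SheafHomX.cls y + SheafHomX.cls y' :=
  (congrArg _ (rfl : InvX.one (y + y') = InvX.one y + InvX.one y')).trans (map_add _ _ _)

theorem cls_smul {F : Z.Modules} (y : Coh.structureModule Z ⟶ F) (b : k) :
    SheafHomX.cls (y ≫ Formal.smulMod k F b) = b • SheafHomX.cls y :=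
  (SheafHomX.map_cls y (Formal.smulMod k F b)).symm.trans rfl

/-- A bijection additive and homogeneous in the functorial sense is linear. -/
theorem nonempty_linearEquiv_of {F : Art k k ⥤ Type u} [TangentStr F] (h0 : H0 F) (h2 : Heps F)
    {V : Type u} [AddCommGroup V] [Module k V] (e : F.obj (dual k k) → V) (he : Function.Bijective e)
    (hadd : ∀ z, e (F.map plus z) = e (F.map pr₁ z) + e (F.map pr₂ z))
    (hscale : ∀ (b : k) z, e (F.map (scale b) z) = b • e z) :
    Nonempty (TangentSpace F ≃ₗ[k] V) := by
  refine ⟨LinearEquiv.ofBijective (M := TangentSpace F)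
    ({ toFun := fun z => e (TangentSpace.val z)
       map_add' := fun a b => ?_
       map_smul' := fun b a => ?_ } : TangentSpace F →ₗ[k] V) he⟩
  · obtain ⟨z, hz₁, hz₂⟩ := ArtFunLib.exists_pair h0 h2 a.val b.val
    rw [show a + b = TangentSpace.mk (F.map plus z) by
      rw [← ArtFunLib.tangent_add_eq, hz₁, hz₂]; rfl]
    show e (F.map plus z) = _
    rw [hadd, hz₁, hz₂]
  · exact (congrArg e (TangentStr.smul_eq b a.val)).trans (hscale b _)

omit [X.Over (Spec (CommRingCat.of k))] in
theorem heps (x : X ⟶ specPt k) (I₀ : X.IdealSheafData) : Heps (localHilb X x I₀) :=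
  fun _ A' p' p'' h => HilbGlue.bijective_cmp x I₀ p' p'' _ _ h (dual k k).res_surjective

variable (i : Z ⟶ X) [IsClosedImmersion i] [DCoh.HasSheafHom (Omega.conormal i)]

/-- Morphisms `I → O_Z` are global sections of the normal sheaf. -/
noncomputable def toNormal (φ : ClSub.idealMod i.ker ⟶ ClSub.quotMod i.ker) :
    Coh.HH Z ((DCoh.sheafHom (Omega.conormal i)).obj (Coh.structureModule Z)) 0 :=
  SheafHomX.cls ((SheafHomX.ev (Omega.conormal i) (Coh.structureModule Z)).symm
      (((Scheme.Modules.pullbackPushforwardAdjunction i).homEquiv _ _).symm (φ ≫ (HilbImm.quotModIso i).inv)) ≫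
    (HilbH1.sheafHomIso (Omega.conormal i)).inv.app (Coh.structureModule Z))

theorem toNormal_add (φ φ' : ClSub.idealMod i.ker ⟶ ClSub.quotMod i.ker) :
    toNormal i (φ + φ') = toNormal i φ + toNormal i φ' := by
  have h : ((Scheme.Modules.pullbackPushforwardAdjunction i).homEquiv _ _).symm ((φ + φ') ≫ (HilbImm.quotModIso i).inv) =
      ((Scheme.Modules.pullbackPushforwardAdjunction i).homEquiv _ _).symm (φ ≫ (HilbImm.quotModIso i).inv) +
      ((Scheme.Modules.pullbackPushforwardAdjunction i).homEquiv _ _).symm (φ' ≫ (HilbImm.quotModIso i).inv) := by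
    rw [Preadditive.add_comp, Adjunction.homEquiv_counit, Adjunction.homEquiv_counit, Adjunction.homEquiv_counit,
      Functor.map_add, Preadditive.add_comp]
  rw [toNormal, toNormal, toNormal, ← cls_add, ← Preadditive.add_comp, ← map_add, h]

/-- A morphism into `O_X/I` seen on `Z`. -/
noncomputable def onZ (φ : ClSub.idealMod i.ker ⟶ ClSub.quotMod i.ker) : Omega.conormal i ⟶ Coh.structureModule Z :=
  ((Scheme.Modules.pullbackPushforwardAdjunction i).homEquiv _ _).symm (φ ≫ (HilbImm.quotModIso i).inv)

theorem toNormal_eq (φ : ClSub.idealMod i.ker ⟶ ClSub.quotMod i.ker) :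
    toNormal i φ = SheafHomX.cls ((SheafHomX.ev (Omega.conormal i) (Coh.structureModule Z)).symm (onZ i φ) ≫
      (HilbH1.sheafHomIso (Omega.conormal i)).inv.app (Coh.structureModule Z)) := rfl

omit [DCoh.HasSheafHom (Omega.conormal i)] in
theorem onZ_smul (hi : i ≫ (X ↘ Spec (CommRingCat.of k)) = Z ↘ Spec (CommRingCat.of k))
    (φ : ClSub.idealMod i.ker ⟶ ClSub.quotMod i.ker) (b : k) :
    onZ i (φ ≫ Formal.smulMod k _ b) = onZ i φ ≫ Formal.smulMod k (Coh.structureModule Z) b := by
  refine Eq.trans (congrArg ((Scheme.Modules.pullbackPushforwardAdjunction i).homEquiv _ _).symm ?_)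
    (Adjunction.homEquiv_naturality_right_symm _ (φ ≫ (HilbImm.quotModIso i).inv)
      (Formal.smulMod k (Coh.structureModule Z) b))
  rw [Category.assoc, Category.assoc, FFun.smulMod_naturality, AmpleVan.push_map_smulMod i hi]

theorem toNormal_smul (hi : i ≫ (X ↘ Spec (CommRingCat.of k)) = Z ↘ Spec (CommRingCat.of k))
    (φ : ClSub.idealMod i.ker ⟶ ClSub.quotMod i.ker) (b : k) :
    toNormal i (φ ≫ Formal.smulMod k _ b) = b • toNormal i φ := by
  have hev : (SheafHomX.ev (Omega.conormal i) (Coh.structureModule Z)).symm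
      (onZ i φ ≫ Formal.smulMod k (Coh.structureModule Z) b) =
      (SheafHomX.ev (Omega.conormal i) (Coh.structureModule Z)).symm (onZ i φ) ≫
        Formal.smulMod k ((SheafHomX.hom (Omega.conormal i)).obj (Coh.structureModule Z)) b := by
    apply (SheafHomX.ev (Omega.conormal i) (Coh.structureModule Z)).injective
    rw [AddEquiv.apply_symm_apply, ← SheafHomX.hom_map_smulMod, SheafHomX.ev_naturality, AddEquiv.apply_symm_apply]
  rw [toNormal_eq, toNormal_eq, onZ_smul i hi, ← cls_smul, hev, Category.assoc, Category.assoc]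
  exact congrArg (fun g => SheafHomX.cls ((SheafHomX.ev (Omega.conormal i) (Coh.structureModule Z)).symm (onZ i φ) ≫ g))
    (FFun.smulMod_naturality ((HilbH1.sheafHomIso (Omega.conormal i)).inv.app (Coh.structureModule Z)) b)

theorem bijective_toNormal : Function.Bijective (toNormal i) := by
  refine ⟨fun φ φ' h => ?_, fun h => ?_⟩
  · have h1 := (cancel_mono ((HilbH1.sheafHomIso (Omega.conormal i)).inv.app (Coh.structureModule Z))).1
      (SheafHomX.cls_injective h)
    exact (cancel_mono (HilbImm.quotModIso i).inv).1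
      (((Scheme.Modules.pullbackPushforwardAdjunction i).homEquiv _ _).symm.injective
        ((SheafHomX.ev (Omega.conormal i) (Coh.structureModule Z)).symm.injective h1))
  · obtain ⟨y, rfl⟩ := SheafHomX.cls_surjective h
    refine ⟨((Scheme.Modules.pullbackPushforwardAdjunction i).homEquiv _ _
      (SheafHomX.ev (Omega.conormal i) (Coh.structureModule Z)
        (y ≫ (HilbH1.sheafHomIso (Omega.conormal i)).hom.app (Coh.structureModule Z)))) ≫ (HilbImm.quotModIso i).hom, ?_⟩
    rw [toNormal, Category.assoc, Iso.hom_inv_id, Category.comp_id, Equiv.symm_apply_apply,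
      AddEquiv.symm_apply_apply, Category.assoc, Iso.hom_inv_id_app, Category.comp_id]

variable (x : X ⟶ specPt k)

/-- First order deformations as sections of the normal sheaf. -/
noncomputable def tanNormal (I : (localHilb X x i.ker).obj (dual k k)) :
    Coh.HH Z ((DCoh.sheafHom (Omega.conormal i)).obj (Coh.structureModule Z)) 0 :=
  toNormal i (HilbTangent.tan I)

theorem bijective_tanNormal : Function.Bijective (tanNormal i x) :=
  (bijective_toNormal i).comp HilbTangent.bijective_tan

theorem tanNormal_plus (J : (localHilb X x i.ker).obj (dual2 k k)) :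
    tanNormal i x ((localHilb X x i.ker).map plus J) =
      tanNormal i x ((localHilb X x i.ker).map pr₁ J) + tanNormal i x ((localHilb X x i.ker).map pr₂ J) := by
  rw [tanNormal, HilbTangent.tan_plus, toNormal_add]
  rfl

variable {x}

theorem tanNormal_scale (hx : X ↘ Spec (CommRingCat.of k) = x) (hi : i ≫ x = Z ↘ Spec (CommRingCat.of k)) (b : k)
    (I : (localHilb X x i.ker).obj (dual k k)) :
    tanNormal i x ((localHilb X x i.ker).map (scale b) I) = b • tanNormal i x I := by
  rw [tanNormal, HilbTangent.tan_scale hx, toNormal_smul i (hx.symm ▸ hi)]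
  rfl

theorem finrank_cotangentSpace_proRep (hx : X ↘ Spec (CommRingCat.of k) = x)
    (hi : i ≫ x = Z ↘ Spec (CommRingCat.of k)) (P : ProRep (localHilb X x i.ker)) :
    Module.finrank (IsLocalRing.ResidueField P.ring.carrier) (IsLocalRing.CotangentSpace P.ring.carrier) =
      Module.finrank k (Coh.HH Z ((DCoh.sheafHom (Omega.conormal i)).obj (Coh.structureModule Z)) 0) :=
  HullBounds.finrank_tangent P.ring P.family (P.universal _) (tanNormal i x) (bijective_tanNormal i x)
    (tanNormal_plus i x) fun b _ I => tanNormal_scale i hx hi b I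

/-- The tangent space is `H⁰` of the normal sheaf. -/
theorem nonempty_linearEquiv (hx : X ↘ Spec (CommRingCat.of k) = x) (hi : i ≫ x = Z ↘ Spec (CommRingCat.of k))
    [TangentStr (localHilb X x i.ker)] :
    Nonempty (TangentSpace (localHilb X x i.ker) ≃ₗ[k]
      Coh.HH Z ((DCoh.sheafHom (Omega.conormal i)).obj (Coh.structureModule Z)) 0) :=
  nonempty_linearEquiv_of (HilbGlue.H0 x i.ker) (heps x i.ker) (tanNormal i x) (bijective_tanNormal i x)
    (tanNormal_plus i x) fun b I => tanNormal_scale i hx hi b I

end Groth.Agent.DeformNL.HilbNormal
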