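import Groth.Agent.DeformNL.SplitClassPull
import Groth.Agent.DeformNL.HilbKappa
import Groth.Agent.DeformNL.HilbNormal

/-!
# Obstruction classes in `H¹` of the normal sheaf
-/

set_option autoImplicit false
set_option linter.style.haveILetI false
set_option backward.isDefEq.respectTransparency false
universe u

open CategoryTheory CategoryTheory.Limits AlgebraicGeometry ArtFun ArtFun.Art Opposite

namespace Groth.Agent.DeformNL.HilbObsClass

attribute [local instance] Abelian.hasFiniteBiproducts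

open Groth.Agent Groth.Agent.ArtFunLib.HilbMod Groth.Agent.DeformNL.HilbKappa

variable {k : Type u} [Field k] {X Z : Scheme.{u}} {x : X ⟶ specPt k} (i : Z ⟶ X) [IsClosedImmersion i]

section Generic

variable {B : Art k k} {P : (XA x B).IdealSheafData} (φ : G P ⟶ ClSub.idealMod i.ker) [Epi φ]

/-- The class on `Z` of values on the kernel. -/
noncomputable def obC {N : X.Modules} {N₀ : Z.Modules} (e : N ≅ (Scheme.Modules.pushforward i).obj N₀)
    (κ : kernel φ ⟶ N) (hl : LocSplit.LocallySplit (extG φ κ)) :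
    Coh.HH Z ((SheafHomX.hom (Omega.conormal i)).obj N₀) 1 :=
  SplitClassPull.cl i (pushout.inl κ (kernel.ι φ)) (extG φ κ) (inl_extG φ κ) (shortExact_ext φ κ) hl e

theorem obC_eq_zero_iff {N : X.Modules} {N₀ : Z.Modules} (hN₀ : Coh.IsQCoh N₀)
    (e : N ≅ (Scheme.Modules.pushforward i).obj N₀) (κ : kernel φ ⟶ N) (hl : LocSplit.LocallySplit (extG φ κ)) :
    obC i φ e κ hl = 0 ↔ ∃ θ : G P ⟶ N, kernel.ι φ ≫ θ = κ :=
  (SplitClassPull.cl_eq_zero_iff i _ _ (inl_extG φ κ) hN₀ (shortExact_ext φ κ) hl e).trans (exists_section_iff φ κ)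

variable {B' : Art k k} {P' : (XA x B').IdealSheafData} (φ' : G P' ⟶ ClSub.idealMod i.ker) [Epi φ']

theorem ext_map {N N' : X.Modules} (κ : kernel φ ⟶ N) (κ' : kernel φ' ⟶ N') (a : N ⟶ N') (Ψ : G P ⟶ G P')
    (hΨ : Ψ ≫ φ' = φ)
    (h : kernel.lift φ' (kernel.ι φ ≫ Ψ) (by rw [Category.assoc, hΨ, kernel.condition]) ≫ κ' = κ ≫ a) :
    ∃ b : pushout κ (kernel.ι φ) ⟶ pushout κ' (kernel.ι φ'),
      a ≫ pushout.inl κ' (kernel.ι φ') = pushout.inl κ (kernel.ι φ) ≫ b ∧ b ≫ extG φ' κ' = extG φ κ := by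
  refine ⟨pushout.desc (a ≫ pushout.inl _ _) (Ψ ≫ pushout.inr _ _) ?_, (pushout.inl_desc _ _ _).symm, ?_⟩
  · rw [← Category.assoc, ← h, Category.assoc, pushout.condition, ← Category.assoc, kernel.lift_ι, Category.assoc]
  · apply pushout.hom_ext
    · rw [← Category.assoc, pushout.inl_desc, Category.assoc, inl_extG, comp_zero, inl_extG]
    · rw [← Category.assoc, pushout.inr_desc, Category.assoc, inr_extG, inr_extG, hΨ]

theorem obC_map {N N' : X.Modules} {N₀ N₀' : Z.Modules} (e : N ≅ (Scheme.Modules.pushforward i).obj N₀)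
    (e' : N' ≅ (Scheme.Modules.pushforward i).obj N₀') (κ : kernel φ ⟶ N) (hl : LocSplit.LocallySplit (extG φ κ))
    (κ' : kernel φ' ⟶ N') (hl' : LocSplit.LocallySplit (extG φ' κ')) (a : N ⟶ N') (a₀ : N₀ ⟶ N₀')
    (ha : a ≫ e'.hom = e.hom ≫ (Scheme.Modules.pushforward i).map a₀) (Ψ : G P ⟶ G P') (hΨ : Ψ ≫ φ' = φ)
    (h : kernel.lift φ' (kernel.ι φ ≫ Ψ) (by rw [Category.assoc, hΨ, kernel.condition]) ≫ κ' = κ ≫ a) :
    Sheaf.H.map ((SheafOfModules.toSheaf _).map ((SheafHomX.hom (Omega.conormal i)).map a₀)) 1 (obC i φ e κ hl) =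
      obC i φ' e' κ' hl' := by
  obtain ⟨b, hb, hb'⟩ := ext_map i φ φ' κ κ' a Ψ hΨ h
  exact SplitClassPull.cl_map i _ _ (inl_extG φ κ) _ _ (inl_extG φ' κ') (shortExact_ext φ κ) hl e
    (shortExact_ext φ' κ') hl' e' a₀ a b ha hb hb'

end Generic

/-- Several copies of `O/I` as a direct image. -/
noncomputable def eAll (r : ℕ) : (⨁ fun _ : Fin r => ClSub.quotMod i.ker) ≅
    (Scheme.Modules.pushforward i).obj (⨁ fun _ : Fin r => Coh.structureModule Z) :=
  biproduct.mapIso (fun _ => (HilbImm.quotModIso i).symm) ≪≫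
    ((Scheme.Modules.pushforward i).mapBiproduct fun _ : Fin r => Coh.structureModule Z).symm

theorem eAll_π (r : ℕ) (j : Fin r) :
    (eAll i r).hom ≫ (Scheme.Modules.pushforward i).map (biproduct.π _ j) =
      biproduct.π _ j ≫ (HilbImm.quotModIso i).inv := by
  refine biproduct.hom_ext' _ _ fun l => ?_
  rcases eq_or_ne l j with rfl | hl
  · simp [eAll, ← Functor.map_comp]
  · simp [eAll, ← Functor.map_comp, biproduct.ι_π_ne _ hl, biproduct.ι_π_ne_assoc _ hl]

variable [X.Over (Spec (CommRingCat.of k))] [Z.Over (Spec (CommRingCat.of k))]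

/-- The change of coefficients with prescribed scalars. -/
noncomputable def combX {r : ℕ} (a : Fin r → k) : (⨁ fun _ : Fin r => ClSub.quotMod i.ker) ⟶ ClSub.quotMod i.ker :=
  ∑ j, biproduct.π _ j ≫ Formal.smulMod k _ (a j)

/-- The same on `Z`. -/
noncomputable def combZ (Z : Scheme.{u}) [Z.Over (Spec (CommRingCat.of k))] {r : ℕ} (a : Fin r → k) :
    (⨁ fun _ : Fin r => Coh.structureModule Z) ⟶ Coh.structureModule Z :=
  ∑ j, biproduct.π _ j ≫ Formal.smulMod k _ (a j)

theorem combX_eq (hi : i ≫ (X ↘ Spec (CommRingCat.of k)) = Z ↘ Spec (CommRingCat.of k)) {r : ℕ} (a : Fin r → k) :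
    combX i a ≫ (HilbImm.quotModIso i).inv = (eAll i r).hom ≫ (Scheme.Modules.pushforward i).map (combZ Z a) := by
  rw [combX, combZ, Functor.map_sum, Preadditive.sum_comp, Preadditive.comp_sum]
  refine Finset.sum_congr rfl fun j _ => ?_
  rw [Category.assoc, FFun.smulMod_naturality, Functor.map_comp, ← Category.assoc ((eAll i r).hom), eAll_π,
    AmpleVan.push_map_smulMod i hi]
  exact (Category.assoc _ _ _).symm

variable [DCoh.HasSheafHom (Omega.conormal i)]

/-- Into `H¹` of the normal sheaf. -/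
noncomputable def toV : Coh.HH Z ((SheafHomX.hom (Omega.conormal i)).obj (Coh.structureModule Z)) 1 →+
    Coh.HH Z ((DCoh.sheafHom (Omega.conormal i)).obj (Coh.structureModule Z)) 1 :=
  AddMonoidHom.mk' (fun v => Sheaf.H.map ((SheafOfModules.toSheaf _).map
    ((HilbH1.sheafHomIso (Omega.conormal i)).inv.app (Coh.structureModule Z))) 1 v) fun _ _ => map_add _ _ _

omit [X.Over (Spec (CommRingCat.of k))] [Z.Over (Spec (CommRingCat.of k))] [IsClosedImmersion i] in
theorem toV_injective : Function.Injective (toV i) := by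
  intro a b h
  have h1 := congrArg (Sheaf.H.map ((SheafOfModules.toSheaf _).map
    ((HilbH1.sheafHomIso (Omega.conormal i)).hom.app (Coh.structureModule Z))) 1) h
  change Sheaf.H.map _ 1 (Sheaf.H.map _ 1 a) = Sheaf.H.map _ 1 (Sheaf.H.map _ 1 b) at h1
  rwa [← Sheaf.H.map_comp_apply, ← Sheaf.H.map_comp_apply, ← Functor.map_comp, Iso.inv_hom_id_app,
    CategoryTheory.Functor.map_id, Sheaf.H.map_id_apply, Sheaf.H.map_id_apply] at h1

omit [X.Over (Spec (CommRingCat.of k))] [IsClosedImmersion i] in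
theorem toV_smul (b : k) (v : Coh.HH Z ((SheafHomX.hom (Omega.conormal i)).obj (Coh.structureModule Z)) 1) :
    toV i (Sheaf.H.map ((SheafOfModules.toSheaf _).map
      ((SheafHomX.hom (Omega.conormal i)).map (Formal.smulMod k (Coh.structureModule Z) b))) 1 v) = b • toV i v := by
  show Sheaf.H.map _ 1 (Sheaf.H.map _ 1 v) = _
  rw [← Sheaf.H.map_comp_apply, ← Functor.map_comp, SheafHomX.hom_map_smulMod, FFun.smulMod_naturality,
    Functor.map_comp, Sheaf.H.map_comp_apply]
  rfl

section Delta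

variable {B : Art k k} {P : (XA x B).IdealSheafData} (φ : G P ⟶ ClSub.idealMod i.ker) [Epi φ]
  {r : ℕ} (κ : Fin r → (kernel φ ⟶ ClSub.quotMod i.ker)) (hl : LocSplit.LocallySplit (extG φ (biproduct.lift κ)))

/-- The components of the class. -/
noncomputable def deltaV (j : Fin r) : Coh.HH Z ((DCoh.sheafHom (Omega.conormal i)).obj (Coh.structureModule Z)) 1 :=
  toV i (Sheaf.H.map ((SheafOfModules.toSheaf _).map
    ((SheafHomX.hom (Omega.conormal i)).map (biproduct.π (fun _ : Fin r => Coh.structureModule Z) j))) 1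
      (obC i φ (eAll i r) (biproduct.lift κ) hl))

variable {B' : Art k k} {P' : (XA x B').IdealSheafData} (φ' : G P' ⟶ ClSub.idealMod i.ker) [Epi φ']

/-- The class is linear in the values and natural. -/
theorem toV_obC_eq_sum (hi : i ≫ (X ↘ Spec (CommRingCat.of k)) = Z ↘ Spec (CommRingCat.of k))
    (κ' : kernel φ' ⟶ ClSub.quotMod i.ker) (hl' : LocSplit.LocallySplit (extG φ' κ')) (a : Fin r → k)
    (Ψ : G P ⟶ G P') (hΨ : Ψ ≫ φ' = φ)
    (h : kernel.lift φ' (kernel.ι φ ≫ Ψ) (by rw [Category.assoc, hΨ, kernel.condition]) ≫ κ' =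
      ∑ j, κ j ≫ Formal.smulMod k _ (a j)) :
    toV i (obC i φ' (HilbImm.quotModIso i).symm κ' hl') = ∑ j, a j • deltaV i φ κ hl j := by
  rw [← obC_map i φ φ' (eAll i r) (HilbImm.quotModIso i).symm (biproduct.lift κ) hl κ' hl' (combX i a) (combZ Z a)
    (combX_eq i hi a) Ψ hΨ (by
      rw [h, combX, Preadditive.comp_sum]
      exact Finset.sum_congr rfl fun j _ => by rw [← Category.assoc, biproduct.lift_π]),
    combZ, Functor.map_sum, Functor.map_sum]
  show toV i ((Sheaf.H.map (∑ j, _) 1) (obC i φ (eAll i r) (biproduct.lift κ) hl)) = _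
  induction (Finset.univ : Finset (Fin r)) using Finset.induction_on with
  | empty =>
    rw [Finset.sum_empty, Finset.sum_empty]
    have : Sheaf.H.map (0 : Coh.toAb ((SheafHomX.hom (Omega.conormal i)).obj (⨁ fun _ : Fin r => Coh.structureModule Z)) ⟶
        Coh.toAb ((SheafHomX.hom (Omega.conormal i)).obj (Coh.structureModule Z))) 1
        (obC i φ (eAll i r) (biproduct.lift κ) hl) = 0 := by
      show ((Sheaf.functorH _ 1).map 0).hom _ = 0
      rw [Functor.map_zero]
      rfl
    exact (congrArg _ this).trans (map_zero _)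
  | insert j s hj ih =>
    rw [Finset.sum_insert hj, Finset.sum_insert hj, Sheaf.H.map_add_apply, map_add, ih]
    congr 1
    rw [Functor.map_comp, Functor.map_comp, Sheaf.H.map_comp_apply, toV_smul]
    rfl

end Delta

end Groth.Agent.DeformNL.HilbObsClass
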