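import Groth.Agent.DeformNL.SemiGens
import Groth.Agent.DeformNL.HilbGood

/-!
# Extensions of embedded deformations along semismall surjections
-/

set_option autoImplicit false
set_option linter.style.haveILetI false
set_option backward.isDefEq.respectTransparency false
universe u

open CategoryTheory CategoryTheory.Limits AlgebraicGeometry ArtFun ArtFun.Art Opposite

namespace Groth.Agent.DeformNL.HilbObsData

open Groth.Agent Groth.Agent.ArtFunLib Groth.Agent.ArtFunLib.HilbAffine Groth.Agent.ArtFunLib.HilbSit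
  Groth.Agent.ArtFunLib.HilbMod Groth.Agent.DeformNL.HilbTangent Groth.Agent.DeformNL.HilbLoc
  Groth.Agent.DeformNL.HilbKappa Groth.Agent.DeformNL.SemiGens

variable {k : Type u} [Field k] {X : Scheme.{u}} {x : X ⟶ specPt k} {I₀ : X.IdealSheafData}
  {B A : Art k k} (p : B ⟶ A) (u₀ : (localHilb X x I₀).obj A)

/-- The preimage of the ideal over `A`. -/
noncomputable def pre : (XA x B).IdealSheafData := u₀.1.map (XAmap x p)

theorem pre_ideal (U : X.affineOpens) :
    (pre p u₀).ideal (W x B U) = (u₀.1.ideal (W x A U)).comap (pi x p U) := by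
  haveI := HilbGlue.isAffineHom_map x p
  exact Ideal.ext fun a => mem_map_iff (XAmap x p) u₀.1 (W x B U) (W x A U) (pi_le x p U) (pi_le x p U).le a

variable {p} (hp : IsSemismallExt p)

include hp in
theorem map_pre (U : X.affineOpens) : ((pre p u₀).ideal (W x B U)).map (rho x B U) = I₀.ideal U :=
  HilbGood.map_rho x p hp.1 u₀ (pre p u₀) (pre_ideal p u₀) U

/-- Restriction to the closed fibre. -/
noncomputable def phi : G (pre p u₀) ⟶ ClSub.idealMod I₀ :=
  (HilbMod.exists_phi (pre p u₀) I₀ (map_pre u₀ hp)).choose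

instance epi_phi : Epi (phi u₀ hp) := (HilbMod.exists_phi (pre p u₀) I₀ (map_pre u₀ hp)).choose_spec.1

theorem phi_spec (U : X.affineOpens) (s : Γ(G (pre p u₀), U.1)) :
    OmegaSh.idealSect I₀ U.1 ((phi u₀ hp).app U.1 s) = rho x B U (el (pre p u₀) U s) :=
  (HilbMod.exists_phi (pre p u₀) I₀ (map_pre u₀ hp)).choose_spec.2 U s

include hp in
theorem map_mP (U : X.affineOpens) :
    (mP (pre p u₀) U).map (pi x p U) = (IsLocalRing.maximalIdeal A).map (c x A U) * u₀.1.ideal (W x A U) := by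
  rw [mP, Ideal.map_mul, pre_ideal, Ideal.map_comap_of_surjective _ (pi_spec x p hp.1 U).1, Ideal.map_map,
    ← IsLocalRing.map_maximalIdeal_of_surjective p.toAlgHom.toRingHom hp.1, Ideal.map_map]
  congr 2
  exact RingHom.ext fun b => pi_c x p U b

variable {r : ℕ} {t : Fin r → B} (ht : Gens p t)

include hp ht in
theorem hrep (U : X.affineOpens) (e : Γ(XA x B, (W x B U).1)) (he : e ∈ (pre p u₀).ideal (W x B U))
    (hρ : rho x B U e = 0) :
    ∃ μ, ∃ z : Fin r → Γ(XA x B, (W x B U).1), μ ∈ mP (pre p u₀) U ∧ e = μ + ∑ j, c x B U (t j) * z j := by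
  rw [pre_ideal] at he
  have h1 : pi x p U e ∈ u₀.1.ideal (W x A U) ⊓ (IsLocalRing.maximalIdeal A).map (c x A U) := by
    refine ⟨he, ?_⟩
    rw [← (rho_spec x A U).2]
    exact RingHom.mem_ker.2 ((rho_pi x p U e).trans hρ)
  have h2 := HilbRing.inf_map_le (c x A U) (flat_quotient x u₀.1 u₀.2.1 U) _ h1
  rw [← map_mP u₀ hp U] at h2
  obtain ⟨μ, hμ, hμe⟩ := (Ideal.mem_map_iff_of_surjective _ (pi_spec x p hp.1 U).1).1 h2
  have hk : e - μ ∈ RingHom.ker (pi x p U) := by rw [RingHom.mem_ker, map_sub, hμe, sub_self]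
  rw [(pi_spec x p hp.1 U).2, ht.span, Ideal.map_span, ← Set.range_comp] at hk
  obtain ⟨z, hz⟩ := Ideal.mem_span_range_iff_exists_fun.1 hk
  refine ⟨μ, z, hμ, ?_⟩
  rw [show ∑ j, c x B U (t j) * z j = e - μ by
    rw [← hz]; exact Finset.sum_congr rfl fun j _ => mul_comm _ _]
  ring

section Push

variable {B' : Art k k} (q : B ⟶ B') {p' : B' ⟶ A} (hq : q ≫ p' = p)

include hq in
theorem pi_mem_pre (U : X.affineOpens) {a : Γ(XA x B, (W x B U).1)} (ha : a ∈ (pre p u₀).ideal (W x B U)) :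
    pi x q U a ∈ (pre p' u₀).ideal (W x B' U) := by
  rw [pre_ideal] at ha ⊢
  show pi x p' U (pi x q U a) ∈ u₀.1.ideal (W x A U)
  rw [← HilbGlue.pi_comp, hq]
  exact ha

include hq in
theorem pi_mem_mP (hs : Function.Surjective q) (U : X.affineOpens) {a : Γ(XA x B, (W x B U).1)}
    (ha : a ∈ mP (pre p u₀) U) : pi x q U a ∈ mP (pre p' u₀) U := by
  have h := Ideal.mem_map_of_mem (pi x q U) ha
  rw [mP, Ideal.map_mul, Ideal.map_map,
    show (pi x q U).comp (c x B U) = (c x B' U).comp q.toAlgHom.toRingHom from RingHom.ext fun b => pi_c x q U b,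
    ← Ideal.map_map, IsLocalRing.map_maximalIdeal_of_surjective q.toAlgHom.toRingHom hs] at h
  exact Ideal.mul_mono le_rfl ((Ideal.map_le_iff_le_comap (K := (pre p' u₀).ideal (W x B' U))).2 fun b hb =>
    pi_mem_pre u₀ q hq U hb) h

include hq in
theorem exists_push :
    ∃ Ψ : G (pre p u₀) ⟶ G (pre p' u₀), ∀ (U : X.affineOpens) (s : Γ(G (pre p u₀), U.1)),
      el (pre p' u₀) U (Ψ.app U.1 s) = pi x q U (el (pre p u₀) U s) := by
  choose f hf using fun (U : X.affineOpens) (s : Γ(G (pre p u₀), U.1)) =>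
    exists_el (pre p' u₀) U _ (pi_mem_pre u₀ q hq U (el_mem _ U s))
  obtain ⟨Ψ, hΨ⟩ := FamilyHom.exists_hom_of_family
    (fun U => AddMonoidHom.mk' (f U) fun a b => el_injective (pre p' u₀) U (by
      rw [map_add (el (pre p' u₀) U), hf, hf, hf, map_add, map_add]))
    (fun U V hV s => el_injective (pre p' u₀) V (by
      show el (pre p' u₀) V ((G (pre p' u₀)).presheaf.map (homOfLE hV).op (f U s)) = el (pre p' u₀) V (f V _)
      rw [el_map _ U V hV, hf, hf, el_map _ U V hV, pi_map x q hV]))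
    (fun U a s => el_injective (pre p' u₀) U (by
      show el (pre p' u₀) U (f U (a • s)) = el (pre p' u₀) U (a • f U s)
      rw [hf, el_smul, el_smul, hf, map_mul, pi_fst]))
  exact ⟨Ψ, fun U s => (congrArg _ (hΨ U s)).trans (hf U s)⟩

/-- Carrying the preimage to a quotient. -/
noncomputable def push : G (pre p u₀) ⟶ G (pre p' u₀) := (exists_push u₀ q hq).choose

theorem push_spec (U : X.affineOpens) (s : Γ(G (pre p u₀), U.1)) :
    el (pre p' u₀) U ((push u₀ q hq).app U.1 s) = pi x q U (el (pre p u₀) U s) :=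
  (exists_push u₀ q hq).choose_spec U s

theorem push_phi (hp' : IsSemismallExt p') : push u₀ q hq ≫ phi u₀ hp' = phi u₀ hp :=
  hom_ext_affine fun U s => OmegaLib.idealSect_injective I₀ U.1 (by
    show OmegaSh.idealSect I₀ U.1 ((phi u₀ hp').app U.1 ((push u₀ q hq).app U.1 s)) = _
    rw [phi_spec, push_spec, rho_pi, phi_spec])

end Push

include hp ht in
theorem hzero (U : X.affineOpens) (z : Fin r → Γ(XA x B, (W x B U).1))
    (hz : ∑ j, c x B U (t j) * z j ∈ mP (pre p u₀) U) (j : Fin r) : qm I₀ U (rho x B U (z j)) = 0 := by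
  classical
  obtain ⟨hg, hsm⟩ := gens_cut_single hp ht j
  have h1 := pi_mem_mP u₀ (cutQ ht {j}) (cutQ_cutP ht {j}) (cutQ_surjective ht {j}) U hz
  rw [map_sum, Finset.sum_eq_single j (fun l _ hl => by
      rw [map_mul, pi_c]
      have : cutQ ht {j} (t l) = 0 := by
        have h0 : (∑ m, algebraMap k B ((Pi.single l 1 : Fin r → k) m) * t m) = t l := by
          rw [Finset.sum_eq_single l (fun m _ hm => by simp [hm]) (by simp)]; simp
        rw [← h0]
        exact (cutQ_eq_zero_iff hp ht {j} _).2 fun m hm => by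
          rw [Finset.mem_singleton.1 hm]; exact Pi.single_eq_of_ne' hl _
      rw [this, map_zero, zero_mul]) (by simp), map_mul, pi_c, mP, pre_ideal] at h1
  have hk : RingHom.ker (cutP ht {j}).toAlgHom.toRingHom = Ideal.span {cutQ ht {j} (t j)} := by
    rw [hg.span, Set.range_const]
  have h2 := HilbObsRing.rho_mem_of_mem_mul (sit x (cutP ht {j}) hsm.1 _ hk (hg.indep.ne_zero 0)
    (by rw [← hk]; exact hsm.2.2.2) U) (flat_quotient x u₀.1 u₀.2.1 U) _ h1
  rw [qm_eq_zero_iff, ← HilbGlue.map_rho_eq u₀ U]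
  exact rho_pi x (cutQ ht {j}) U (z j) ▸ h2

/-- The prescribed values. -/
noncomputable def kappa : Fin r → (kernel (phi u₀ hp) ⟶ ClSub.quotMod I₀) :=
  (exists_kappa (phi_spec u₀ hp) t (hrep u₀ hp ht) (hzero u₀ hp ht)).choose

theorem isKappa : IsKappa (pre p u₀) I₀ (phi u₀ hp) t (kappa u₀ hp ht) :=
  (exists_kappa (phi_spec u₀ hp) t (hrep u₀ hp ht) (hzero u₀ hp ht)).choose_spec

variable (I₀) in
/-- Near every point, liftable generators with liftable relations. -/
def Good (x : X ⟶ specPt k) : Prop :=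
  ∀ ⦃B : Art k k⦄ (P : (XA x B).IdealSheafData), (∀ U, (P.ideal (W x B U)).map (rho x B U) = I₀.ideal U) →
    ∀ y : X, ∃ U : X.affineOpens, y ∈ U.1 ∧ GoodLocal P I₀ U

include hp in
theorem locallySplit (hgood : Good I₀ x) {N : X.Modules} (κ : kernel (phi u₀ hp) ⟶ N)
    (hκ : ∀ (U : X.affineOpens) (kk : Γ(kernel (phi u₀ hp), U.1)),
      el (pre p u₀) U ((kernel.ι (phi u₀ hp)).app U.1 kk) ∈ mP (pre p u₀) U → κ.app U.1 kk = 0) :
    LocSplit.LocallySplit (extG (phi u₀ hp) κ) := fun y => by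
  obtain ⟨U, hy, hU⟩ := hgood (pre p u₀) (map_pre u₀ hp) y
  exact ⟨U.1, hy, exists_section_on (phi_spec u₀ hp) κ U (hκ U) hU⟩

theorem good_of_lci (hlci : ∀ y ∈ I₀.support, ∃ U : X.affineOpens, y ∈ U.1 ∧
      ∃ (n : ℕ) (f : Fin n → Γ(X, U.1)), CAlgX.IsH1Regular f ∧ I₀.ideal U = Ideal.span (Set.range f)) :
    Good I₀ x := fun B P hP y => by
  by_cases hy : y ∈ I₀.support
  · obtain ⟨U, hyU, n, f, hf, hspan⟩ := hlci y hy
    exact ⟨U, hyU, HilbGood.goodLocal_of_h1 x P U (hP U) f hf hspan⟩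
  · obtain ⟨U, hyU, htop⟩ := HilbGood.exists_ideal_eq_top hy
    refine ⟨U, hyU, HilbGood.goodLocal_of_h1 x P U (hP U) (fun _ : Fin 1 => 1) (fun a ha => ?_)
      (by rw [htop, Set.range_const, Ideal.span_singleton_one])⟩
    have : a = 0 := funext fun i => by
      rw [Fin.sum_univ_one, mul_one] at ha
      rw [Subsingleton.elim i 0, ha, Pi.zero_apply]
    rw [this]
    exact zero_mem _

section Naturality

variable {B' : Art k k} (q : B ⟶ B') {p' : B' ⟶ A} (hq : q ≫ p' = p) (hp' : IsSemismallExt p')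
  {r' : ℕ} {t' : Fin r' → B'} (ht' : Gens p' t') (a : Fin r' → Fin r → k)

theorem smulMod_qm [X.Over (Spec (CommRingCat.of k))] (hx : X ↘ Spec (CommRingCat.of k) = x) (U : X.affineOpens)
    (b : k) (w : Γ(X, U.1)) :
    (Formal.smulMod k (ClSub.quotMod I₀) b).app U.1 (qm I₀ U w) = qm I₀ U (HilbGlue.c₀ x U b * w) := by
  rw [FFun.smulMod_app]
  refine Eq.trans ?_ (qm_mul U _ _).symm
  refine congrArg (fun z : Γ(X, U.1) => z • qm I₀ U w) ?_
  show Coh.resTop X (op U.1) (Coh.toGlobal (X ↘ Spec (CommRingCat.of k)) b) = HilbGlue.c₀ x U b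
  rw [hx, c₀_eq]
  rfl

theorem rho_pi_scal (U : X.affineOpens) (b : k) (z : Γ(XA x B, (W x B U).1)) :
    rho x B' U (c x B' U (algebraMap k B' b) * pi x q U z) = HilbGlue.c₀ x U b * rho x B U z := by
  rw [map_mul, rho_pi, HilbGlue.rho_c, AlgHom.commutes]
  rfl

include hp hp' ht hq in
theorem el_push (hqt : ∀ j, q (t j) = ∑ l, algebraMap k B' (a l j) * t' l) (U : X.affineOpens)
    (kk : Γ(kernel (phi u₀ hp), U.1)) (μ : Γ(XA x B, (W x B U).1)) (z : Fin r → Γ(XA x B, (W x B U).1))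
    (he : el (pre p u₀) U ((kernel.ι (phi u₀ hp)).app U.1 kk) = μ + ∑ j, c x B U (t j) * z j)
    (L : kernel (phi u₀ hp) ⟶ kernel (phi u₀ hp'))
    (hL : L ≫ kernel.ι (phi u₀ hp') = kernel.ι (phi u₀ hp) ≫ push u₀ q hq) :
    el (pre p' u₀) U ((kernel.ι (phi u₀ hp')).app U.1 (L.app U.1 kk)) =
      pi x q U μ + ∑ l, c x B' U (t' l) * ∑ j, c x B' U (algebraMap k B' (a l j)) * pi x q U (z j) := by
  have h1 : (kernel.ι (phi u₀ hp')).app U.1 (L.app U.1 kk) =
      (push u₀ q hq).app U.1 ((kernel.ι (phi u₀ hp)).app U.1 kk) := congr(($hL).app U.1 kk)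
  rw [h1, push_spec, he, map_add, map_sum]
  congr 1
  simp only [map_mul, pi_c, hqt, map_sum, Finset.sum_mul, Finset.mul_sum]
  rw [Finset.sum_comm]
  exact Finset.sum_congr rfl fun _ _ => Finset.sum_congr rfl fun _ _ => by ring

include hq in
/-- The values change linearly along quotients. -/
theorem kappa_push_app (hs : Function.Surjective q) (hqt : ∀ j, q (t j) = ∑ l, algebraMap k B' (a l j) * t' l)
    [X.Over (Spec (CommRingCat.of k))] (hx : X ↘ Spec (CommRingCat.of k) = x) (l : Fin r')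
    (L : kernel (phi u₀ hp) ⟶ kernel (phi u₀ hp'))
    (hL : L ≫ kernel.ι (phi u₀ hp') = kernel.ι (phi u₀ hp) ≫ push u₀ q hq) (U : X.affineOpens)
    (kk : Γ(kernel (phi u₀ hp), U.1)) :
    (kappa u₀ hp' ht' l).app U.1 (L.app U.1 kk) =
      ∑ j, (Formal.smulMod k (ClSub.quotMod I₀) (a l j)).app U.1 ((kappa u₀ hp ht j).app U.1 kk) := by
  obtain ⟨μ, z, hμ, he⟩ := hrep u₀ hp ht U _ (el_mem _ U _) (rho_kernel (phi_spec u₀ hp) U kk)
  rw [isKappa u₀ hp' ht' U (L.app U.1 kk) _ _ (pi_mem_mP u₀ q hq hs U hμ)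
    (el_push u₀ hp ht q hq hp' a hqt U kk μ z he L hL) l, map_sum, map_sum]
  refine Finset.sum_congr rfl fun j _ => ?_
  rw [isKappa u₀ hp ht U kk μ z hμ he j, smulMod_qm hx, rho_pi_scal q U]

include hq in
theorem kappa_push (hs : Function.Surjective q) (hqt : ∀ j, q (t j) = ∑ l, algebraMap k B' (a l j) * t' l)
    [X.Over (Spec (CommRingCat.of k))] (hx : X ↘ Spec (CommRingCat.of k) = x) (l : Fin r') :
    kernel.lift (phi u₀ hp') (kernel.ι (phi u₀ hp) ≫ push u₀ q hq)
        (by rw [Category.assoc, push_phi u₀ hp q hq hp', kernel.condition]) ≫ kappa u₀ hp' ht' l =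
      ∑ j, kappa u₀ hp ht j ≫ Formal.smulMod k _ (a l j) := by
  refine hom_ext_affine fun U kk => ?_
  let ev : (kernel (phi u₀ hp) ⟶ ClSub.quotMod I₀) →+ Γ(ClSub.quotMod I₀, U.1) :=
    AddMonoidHom.mk' (fun f => f.app U.1 kk) fun _ _ => rfl
  exact (kappa_push_app u₀ hp ht q hq hp' ht' a hs hqt hx l _ (kernel.lift_ι _ _ _) U kk).trans
    (map_sum ev (fun j => kappa u₀ hp ht j ≫ Formal.smulMod k _ (a l j)) Finset.univ).symm

end Naturality

section Lift

theorem rho_c_ker (U : X.affineOpens) {j : B} (hj : j ∈ RingHom.ker p.toAlgHom.toRingHom) :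
    rho x B U (c x B U j) = 0 :=
  RingHom.mem_ker.1 ((rho_spec x B U).2.ge (Ideal.mem_map_of_mem _ (ArtFunLib.ker_le_maximalIdeal p hj)))

variable {t₁ : Fin 1 → B} (ht₁ : Gens p t₁)

include ht₁ in
theorem ker_eq : RingHom.ker p.toAlgHom.toRingHom = Ideal.span {t₁ 0} := by
  rw [ht₁.span, show t₁ = fun _ => t₁ 0 from funext fun i => by rw [Subsingleton.elim i 0], Set.range_const]

set_option maxHeartbeats 1000000 in
/-- An extension of the prescribed values gives a lift. -/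
theorem exists_lift_of_theta (θ : G (pre p u₀) ⟶ ClSub.quotMod I₀)
    (hθ : kernel.ι (phi u₀ hp) ≫ θ = kappa u₀ hp ht₁ 0) :
    ∃ I : (localHilb X x I₀).obj B, (localHilb X x I₀).map p I = u₀ := by
  haveI := isClosedImmersion_map x p hp.1
  have hkt := ker_eq ht₁
  have htm : t₁ 0 ∈ IsLocalRing.maximalIdeal B :=
    ArtFunLib.ker_le_maximalIdeal p (hkt.ge (Ideal.mem_span_singleton_self _))
  have hm0 : IsLocalRing.maximalIdeal B * Ideal.span {t₁ 0} = ⊥ := by rw [← hkt]; exact hp.2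
  have hpt : p (t₁ 0) = 0 := RingHom.mem_ker.1 (hkt.ge (Ideal.mem_span_singleton_self _))
  have hspec : ∀ (U : X.affineOpens) s μ z, μ ∈ mP (pre p u₀) U → el (pre p u₀) U s = μ + c x B U (t₁ 0) * z →
      θ.app U.1 s = qm I₀ U (rho x B U z) := fun U s μ z hμ he => by
    have hρ0 : rho x B U (el (pre p u₀) U s) = 0 := by
      rw [he, map_add, map_mul, rho_eq_zero_of_mem_mP _ hμ,
        rho_c_ker U (hkt.ge (Ideal.mem_span_singleton_self _)), zero_mul, add_zero]
    have hs0 : (phi u₀ hp).app U.1 s = 0 :=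
      OmegaLib.idealSect_injective I₀ U.1 (by rw [phi_spec, hρ0, map_zero])
    have hk := OmegaSh.ι_kerLift (phi u₀ hp) U.1 s hs0
    have e2 : θ.app U.1 ((kernel.ι (phi u₀ hp)).app U.1 (OmegaSh.kerLift (phi u₀ hp) U.1 s hs0)) =
        (kappa u₀ hp ht₁ 0).app U.1 (OmegaSh.kerLift (phi u₀ hp) U.1 s hs0) := congr(($hθ).app U.1 _)
    rw [hk] at e2
    exact e2.trans (isKappa u₀ hp ht₁ U _ μ (fun _ => z) hμ (by rw [hk, he, Fin.sum_univ_one]) 0)
  have hlin : ∀ (U : X.affineOpens) s (R : Γ(XA x B, (W x B U).1)) s',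
      el (pre p u₀) U s' = R * el (pre p u₀) U s → θ.app U.1 s' = rho x B U R • θ.app U.1 s := fun U s R s' he => by
    rw [← Scheme.Modules.Hom.app_smul, ← sub_eq_zero, ← map_sub]
    rw [hspec U _ ((R - fstPull x B U (rho x B U R)) * el (pre p u₀) U s) 0 ?_ ?_, map_zero, map_zero]
    · refine Ideal.mul_mem_mul ?_ (el_mem (pre p u₀) U s)
      rw [← (rho_spec x B U).2, RingHom.mem_ker, map_sub, rho_fst, sub_self]
    · rw [mul_zero, add_zero, sub_mul, ← he, ← el_smul, map_sub]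
  obtain ⟨I, hI⟩ := HilbIdeal.exists_ideal (pre p u₀) I₀ θ hlin
  have hcz : ∀ U z, ∃ s, el (pre p u₀) U s = c x B U (t₁ 0) * z ∧ θ.app U.1 s = qm I₀ U (rho x B U z) := fun U z => by
    obtain ⟨s, hs⟩ := exists_el (pre p u₀) U (c x B U (t₁ 0) * z) (by
      rw [pre_ideal, Ideal.mem_comap, map_mul, pi_c, hpt, map_zero, zero_mul]; exact zero_mem _)
    exact ⟨s, hs, hspec U s 0 z (zero_mem _) (by rw [hs, zero_add])⟩
  have hmapA : ∀ U, (I.ideal (W x B U)).map (pi x p U) = u₀.1.ideal (W x A U) := fun U => by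
    refine le_antisymm (Ideal.map_le_iff_le_comap.2 fun a ha => ?_) fun α hα => ?_
    · obtain ⟨s, rfl, -⟩ := (hI U a).1 ha
      exact pre_ideal p u₀ U ▸ el_mem (pre p u₀) U s
    · obtain ⟨a, rfl⟩ := (pi_spec x p hp.1 U).1 α
      obtain ⟨s, hs⟩ := exists_el (pre p u₀) U a (by rw [pre_ideal]; exact hα)
      obtain ⟨w, hw⟩ := I₀.subschemeι_app_surjective U (θ.app U.1 s)
      obtain ⟨z, hz⟩ := (rho_spec x B U).1 w
      obtain ⟨s', hs', hs'θ⟩ := hcz U z
      have hmem : a - c x B U (t₁ 0) * z ∈ I.ideal (W x B U) :=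
        (hI U _).2 ⟨s - s', by rw [map_sub, hs, hs'], by rw [map_sub, hs'θ, hz]; exact sub_eq_zero.2 hw.symm⟩
      have h5 := Ideal.mem_map_of_mem (pi x p U) hmem
      rwa [map_sub, map_mul, pi_c, hpt, map_zero, zero_mul, sub_zero] at h5
  have hcomap : I.comap (XAmap x p) = u₀.1 := HilbAffine.ext_ideal x fun U => by
    rw [comap_map_ideal, hmapA]
  refine ⟨⟨I, ?_, ?_⟩, Subtype.ext hcomap⟩
  · refine HilbIdeal.flat_of_ideals I fun U => ?_
    refine HilbObsRing.flat_of_lift (sit x p hp.1 (t₁ 0) hkt (ht₁.indep.ne_zero 0) hm0 U)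
      (flat_quotient x u₀.1 u₀.2.1 U) (rho_spec x B U).1 (I.ideal (W x B U)) (hmapA U) fun z hz => ?_
    obtain ⟨s, hs, hs0⟩ := (hI U _).1 hz
    obtain ⟨s', hs', hs'θ⟩ := hcz U z
    obtain rfl : s = s' := el_injective (pre p u₀) U (hs.trans hs'.symm)
    show rho x B U z ∈ (u₀.1.ideal (W x A U)).map (rho x A U)
    rw [HilbGlue.map_rho_eq u₀ U, ← qm_eq_zero_iff]
    exact hs'θ.symm.trans hs0
  · rw [← XAincl_XAmap x p, Scheme.IdealSheafData.comap_comp, hcomap, u₀.2.2]

/-- A lift extends the prescribed values. -/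
theorem exists_theta_of_lift (I : (localHilb X x I₀).obj B) (hI : (localHilb X x I₀).map p I = u₀) :
    ∃ θ : G (pre p u₀) ⟶ ClSub.quotMod I₀, kernel.ι (phi u₀ hp) ≫ θ = kappa u₀ hp ht₁ 0 := by
  have hkt := ker_eq ht₁
  have hI' : ∀ U, (I.1.ideal (W x B U)).map (pi x p U) = u₀.1.ideal (W x A U) := fun U => by
    rw [← comap_map_ideal, ← hI]; rfl
  have hm : ∀ a, t₁ 0 * a = 0 → a ∈ IsLocalRing.maximalIdeal B := fun a ha => by
    by_contra hna
    exact ht₁.indep.ne_zero 0 (by rwa [(IsLocalRing.notMem_maximalIdeal.1 hna).mul_left_eq_zero] at ha)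
  have hdec : ∀ U e, e ∈ (pre p u₀).ideal (W x B U) →
      ∃ z, e - c x B U (t₁ 0) * z ∈ I.1.ideal (W x B U) := fun U e he => by
    rw [pre_ideal, Ideal.mem_comap, ← hI' U] at he
    obtain ⟨a, ha, hae⟩ := (Ideal.mem_map_iff_of_surjective _ (pi_spec x p hp.1 U).1).1 he
    have hk : e - a ∈ RingHom.ker (pi x p U) := by rw [RingHom.mem_ker, map_sub, hae, sub_self]
    rw [(pi_spec x p hp.1 U).2, hkt, Ideal.map_span, Set.image_singleton, Ideal.mem_span_singleton'] at hk
    obtain ⟨z, hz⟩ := hk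
    exact ⟨z, by rw [show e - c x B U (t₁ 0) * z = a by linear_combination (-1 : Γ(XA x B, (W x B U).1)) * hz]; exact ha⟩
  choose fz hfz using fun (U : X.affineOpens) (s : Γ(G (pre p u₀), U.1)) => hdec U _ (el_mem _ U s)
  have hval : ∀ U s z, el (pre p u₀) U s - c x B U (t₁ 0) * z ∈ I.1.ideal (W x B U) →
      qm I₀ U (rho x B U (fz U s)) = qm I₀ U (rho x B U z) := fun U s z hz => by
    rw [← sub_eq_zero, ← map_sub, ← map_sub, qm_eq_zero_iff, ← HilbGlue.map_rho_eq I U]
    refine HilbRing.rho_mem (c x B U) (rho x B U) (IsLocalRing.maximalIdeal B) (t₁ 0) (rho_spec x B U).2 hm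
      (flat_quotient x I.1 I.2.1 U) _ ?_
    have h := sub_mem hz (hfz U s)
    rwa [sub_sub_sub_cancel_left, ← mul_sub] at h
  obtain ⟨θ, hθ⟩ := FamilyHom.exists_hom_of_family
    (fun U => AddMonoidHom.mk' (fun s => qm I₀ U (rho x B U (fz U s))) fun s s' => by
      rw [hval U (s + s') (fz U s + fz U s') (by
        rw [map_add, mul_add, add_sub_add_comm]; exact add_mem (hfz U s) (hfz U s')), map_add, map_add])
    (fun U V hV s => by
      show (ClSub.quotMod I₀).presheaf.map (homOfLE hV).op (qm I₀ U (rho x B U (fz U s))) =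
        qm I₀ V (rho x B V (fz V ((G (pre p u₀)).presheaf.map (homOfLE hV).op s)))
      rw [hval V _ ((XA x B).presheaf.map (homOfLE (W_mono x B hV)).op (fz U s)) (by
        rw [el_map _ U V hV]
        have h := I.1.ideal_le_comap_ideal (W_mono x B hV) (hfz U s)
        rw [Ideal.mem_comap, map_sub, map_mul] at h
        convert h using 1
        refine congrArg₂ (· - ·) rfl ?_
        exact congrArg₂ (· * ·) (c_map x B hV (t₁ 0)).symm rfl), rho_map x B hV]
      exact qm_map hV _)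
    (fun U a s => by
      show qm I₀ U (rho x B U (fz U (a • s))) = a • qm I₀ U (rho x B U (fz U s))
      rw [hval U _ (fstPull x B U a * fz U s) (by
        rw [el_smul, mul_left_comm, ← mul_sub]; exact Ideal.mul_mem_left _ _ (hfz U s)), map_mul, rho_fst]
      exact qm_mul U _ _)
  refine ⟨θ, hom_ext_affine fun U kk => ?_⟩
  obtain ⟨μ, z, hμ, he⟩ := hrep u₀ hp ht₁ U _ (el_mem _ U _) (rho_kernel (phi_spec u₀ hp) U kk)
  rw [isKappa u₀ hp ht₁ U kk μ z hμ he 0]
  show θ.app U.1 ((kernel.ι (phi u₀ hp)).app U.1 kk) = _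
  refine (hθ U _).trans (hval U _ (z 0) ?_)
  rw [he, Fin.sum_univ_one, add_sub_cancel_right]
  -- `m P` lies in every lift
  have hle : mP (pre p u₀) U ≤ I.1.ideal (W x B U) := Ideal.mul_le.2 fun m hm' e he => by
    obtain ⟨w, hw⟩ := hdec U e he
    have h0 : m * c x B U (t₁ 0) = 0 := by
      refine (Submodule.mem_bot Γ(XA x B, (W x B U).1)).1 ?_
      have := Ideal.mul_mem_mul hm' (Ideal.mem_map_of_mem (c x B U) (hkt.ge (Ideal.mem_span_singleton_self (t₁ 0))))
      rwa [← Ideal.map_mul, show IsLocalRing.maximalIdeal B * RingHom.ker p.toAlgHom.toRingHom = ⊥ from hp.2,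
        Ideal.map_bot] at this
    rw [show m * e = m * (e - c x B U (t₁ 0) * w) + m * c x B U (t₁ 0) * w by ring, h0, zero_mul, add_zero]
    exact Ideal.mul_mem_left _ _ hw
  exact hle hμ

end Lift

end Groth.Agent.DeformNL.HilbObsData
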