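import Groth.Agent.DeformNL.HilbObsClass
import Groth.Agent.DeformNL.HilbObsData
import Groth.Agent.DeformNL.CutGlue
import Groth.Agent.DeformNL.HilbGlue

/-!
# The obstruction theory of the local Hilbert functor with values in `H¹` of the normal sheaf
-/

set_option autoImplicit false
set_option linter.style.haveILetI false
set_option backward.isDefEq.respectTransparency false
universe u

open CategoryTheory CategoryTheory.Limits AlgebraicGeometry ArtFun ArtFun.Art Opposite
open scoped TensorProduct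

namespace Groth.Agent.DeformNL.HilbObsTheory

attribute [local instance] Abelian.hasFiniteBiproducts

open Groth.Agent Groth.Agent.ArtFunLib.HilbMod Groth.Agent.ArtFunLib.HilbAffine Groth.Agent.DeformNL.HilbKappa
  Groth.Agent.DeformNL.HilbLoc Groth.Agent.DeformNL.HilbObsClass Groth.Agent.DeformNL.HilbObsData
  Groth.Agent.DeformNL.SemiGens

variable {k : Type u} [Field k] {X Z : Scheme.{u}} [X.Over (Spec (CommRingCat.of k))]
  [Z.Over (Spec (CommRingCat.of k))] (i : Z ⟶ X) [IsClosedImmersion i] [DCoh.HasSheafHom (Omega.conormal i)]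
  (hgood : Good i.ker (X ↘ Spec (CommRingCat.of k)))
  {B A : Art k k} {p : B ⟶ A} (hp : IsSemismallExt p) {r : ℕ} {t : Fin r → B} (ht : Gens p t)
  (u₀ : (localHilb X (X ↘ Spec (CommRingCat.of k)) i.ker).obj A)

omit [Z.Over (Spec (CommRingCat.of k))] [IsClosedImmersion i] [DCoh.HasSheafHom (Omega.conormal i)] in
theorem lift_app_eq_zero (U : X.affineOpens) (kk : Γ(kernel (phi u₀ hp), U.1))
    (h : el (pre p u₀) U ((kernel.ι (phi u₀ hp)).app U.1 kk) ∈ mP (pre p u₀) U) :
    (biproduct.lift (kappa u₀ hp ht)).app U.1 kk = 0 := by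
  classical
  let ev : (kernel (phi u₀ hp) ⟶ ⨁ fun _ : Fin r => ClSub.quotMod i.ker) →+
      Γ(⨁ fun _ : Fin r => ClSub.quotMod i.ker, U.1) := AddMonoidHom.mk' (fun f => f.app U.1 kk) fun _ _ => rfl
  show ev _ = 0
  rw [← Category.comp_id (biproduct.lift (kappa u₀ hp ht)), ← biproduct.total, Preadditive.comp_sum, map_sum]
  refine Finset.sum_eq_zero fun j _ => ?_
  show ((biproduct.lift (kappa u₀ hp ht)) ≫ biproduct.π (fun _ : Fin r => ClSub.quotMod i.ker) j ≫
    biproduct.ι (fun _ : Fin r => ClSub.quotMod i.ker) j).app U.1 kk = 0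
  rw [← Category.assoc, biproduct.lift_π]
  exact (congrArg ((biproduct.ι (fun _ : Fin r => ClSub.quotMod i.ker) j).app U.1)
    (kappa_eq_zero_of_mem (isKappa u₀ hp ht) U kk h j)).trans (map_zero _)

include hgood in
theorem locallySplit_all : LocSplit.LocallySplit (extG (phi u₀ hp) (biproduct.lift (kappa u₀ hp ht))) :=
  locallySplit u₀ hp hgood _ (lift_app_eq_zero i hp ht u₀)

include hgood in
theorem locallySplit_one (j : Fin r) : LocSplit.LocallySplit (extG (phi u₀ hp) (kappa u₀ hp ht j)) :=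
  locallySplit u₀ hp hgood _ fun U kk h => kappa_eq_zero_of_mem (isKappa u₀ hp ht) U kk h j

/-- The components of the obstruction. -/
noncomputable def cls (j : Fin r) : Coh.HH Z ((DCoh.sheafHom (Omega.conormal i)).obj (Coh.structureModule Z)) 1 :=
  deltaV i (phi u₀ hp) (kappa u₀ hp ht) (locallySplit_all i hgood hp ht u₀) j

theorem toV_obC_one (j : Fin r) :
    toV i (obC i (phi u₀ hp) (HilbImm.quotModIso i).symm (kappa u₀ hp ht j) (locallySplit_one i hgood hp ht u₀ j)) =
      cls i hgood hp ht u₀ j := by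
  rw [cls, deltaV, obC_map i (phi u₀ hp) (phi u₀ hp) (eAll i r) (HilbImm.quotModIso i).symm
    (biproduct.lift (kappa u₀ hp ht)) (locallySplit_all i hgood hp ht u₀) (kappa u₀ hp ht j)
    (locallySplit_one i hgood hp ht u₀ j) (biproduct.π _ j) (biproduct.π _ j) (eAll_π i r j).symm (𝟙 _)
    (Category.id_comp _) (by
      rw [biproduct.lift_π]
      convert Category.id_comp (kappa u₀ hp ht j)
      exact (cancel_mono (kernel.ι (phi u₀ hp))).1 (by rw [kernel.lift_ι, Category.comp_id, Category.id_comp]))]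

/-- The components change linearly along quotients. -/
theorem cls_push (hi : i ≫ (X ↘ Spec (CommRingCat.of k)) = Z ↘ Spec (CommRingCat.of k))
    {B' : Art k k} (q : B ⟶ B') {p' : B' ⟶ A} (hq : q ≫ p' = p) (hp' : IsSemismallExt p') (hs : Function.Surjective q)
    {r' : ℕ} {t' : Fin r' → B'} (ht' : Gens p' t') (a : Fin r' → Fin r → k)
    (hqt : ∀ j, q (t j) = ∑ l, algebraMap k B' (a l j) * t' l) (l : Fin r') :
    cls i hgood hp' ht' u₀ l = ∑ j, a l j • cls i hgood hp ht u₀ j := by
  rw [← toV_obC_one i hgood hp' ht' u₀ l]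
  exact toV_obC_eq_sum i (phi u₀ hp) (kappa u₀ hp ht) (locallySplit_all i hgood hp ht u₀) (phi u₀ hp') hi
    (kappa u₀ hp' ht' l) (locallySplit_one i hgood hp' ht' u₀ l) (a l) (push u₀ q hq) (push_phi u₀ hp q hq hp')
    (kappa_push u₀ hp ht q hq hp' ht' a hs hqt rfl l)

/-- With one parameter the class decides liftability. -/
theorem lift_iff_one {t₁ : Fin 1 → B} (ht₁ : Gens p t₁) :
    (∃ u', (localHilb X (X ↘ Spec (CommRingCat.of k)) i.ker).map p u' = u₀) ↔ cls i hgood hp ht₁ u₀ 0 = 0 := by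
  rw [← toV_obC_one i hgood hp ht₁ u₀ 0, map_eq_zero_iff _ (toV_injective i),
    obC_eq_zero_iff i (phi u₀ hp) QCoh.isQCoh_structureModule]
  exact ⟨fun ⟨I, hI⟩ => exists_theta_of_lift u₀ hp ht₁ I hI, fun ⟨θ, hθ⟩ => exists_lift_of_theta u₀ hp ht₁ θ hθ⟩

/-- The class decides liftability. -/
theorem lift_iff (hi : i ≫ (X ↘ Spec (CommRingCat.of k)) = Z ↘ Spec (CommRingCat.of k)) :
    (∃ u', (localHilb X (X ↘ Spec (CommRingCat.of k)) i.ker).map p u' = u₀) ↔
      ∀ j, cls i hgood hp ht u₀ j = 0 := by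
  classical
  rw [CutGlue.exists_lift_iff _
    (fun p' p'' f' f'' h hf => HilbGlue.bijective_cmp (X ↘ Spec (CommRingCat.of k)) i.ker p' p'' f' f'' h hf) hp ht u₀]
  refine forall_congr' fun j => ?_
  obtain ⟨hg, hsm⟩ := gens_cut_single hp ht j
  rw [lift_iff_one i hgood hsm.isSemismallExt u₀ hg,
    cls_push i hgood hp ht u₀ hi (cutQ ht {j}) (cutQ_cutP ht {j}) hsm.isSemismallExt (cutQ_surjective ht {j}) hg
      (fun _ => Pi.single j 1) (fun l => ?_) 0,
    Finset.sum_eq_single j (fun m _ hm => by simp [hm]) (by simp)]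
  · simp
  · rw [Fin.sum_univ_one]
    rcases eq_or_ne l j with rfl | hl
    · simp
    · have h0 : (∑ m, algebraMap k B ((Pi.single l 1 : Fin r → k) m) * t m) = t l := by
        rw [Finset.sum_eq_single l (fun m _ hm => by simp [hm]) (by simp)]; simp
      rw [Pi.single_eq_of_ne hl, map_zero, zero_mul, ← h0]
      exact (cutQ_eq_zero_iff hp ht {j} _).2 fun m hm => by
        rw [Finset.mem_singleton.1 hm]; exact Pi.single_eq_of_ne' hl _

theorem eq_zero_of_sum_tmul {V J : Type u} [AddCommGroup V] [Module k V] [AddCommGroup J] [Module k J] {ι : Type}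
    [Fintype ι] (b : Module.Basis ι k J) (v : ι → V) (h : ∑ l, v l ⊗ₜ[k] b l = 0) (j : ι) : v j = 0 := by
  classical
  have := congrArg ((TensorProduct.rid k V).toLinearMap ∘ₗ (b.coord j).lTensor V) h
  simpa [Module.Basis.repr_self, Finsupp.single_apply, ite_smul] using this

include hgood in
/-- The obstruction theory. -/
theorem hasObsTheory (hi : i ≫ (X ↘ Spec (CommRingCat.of k)) = Z ↘ Spec (CommRingCat.of k)) :
    HasObsTheory (localHilb X (X ↘ Spec (CommRingCat.of k)) i.ker)
      (Coh.HH Z ((DCoh.sheafHom (Omega.conormal i)).obj (Coh.structureModule Z)) 1) := by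
  refine ⟨{
    obs := fun {C' C} p hp u => ∑ l, cls i hgood hp (gens_basis p) u l ⊗ₜ[k] basis p l
    obs_eq_zero_iff := fun {C' C} p hp u => ?_
    obs_quot := fun {C' C} p hp K hK hKJ hq u => ?_ }⟩
  · rw [lift_iff i hgood hp (gens_basis p) u hi]
    exact ⟨fun h l => eq_zero_of_sum_tmul (basis p) _ h l,
      fun h => Finset.sum_eq_zero fun l _ => by rw [h l, TensorProduct.zero_tmul]⟩
  · let π := (kerToQuot hK p hKJ).restrictScalars k
    let a : Fin _ → Fin _ → k := fun l j => (basis (quotFactor hK p hKJ)).repr (π (basis p j)) l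
    have hsum : ∀ j, π (basis p j) = ∑ l, a l j • basis (quotFactor hK p hKJ) l := fun j =>
      ((basis (quotFactor hK p hKJ)).sum_repr _).symm
    have hqt : ∀ j, quotMk C' K hK (basis p j : C') =
        ∑ l, algebraMap k (quot C' K hK) (a l j) * (basis (quotFactor hK p hKJ) l : quot C' K hK) := fun j => by
      have h := congrArg Subtype.val (hsum j)
      rw [AddSubmonoidClass.coe_finsetSum] at h
      refine Eq.trans h ?_
      exact Finset.sum_congr rfl fun l _ => Algebra.smul_def _ _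
    simp only [cls_push i hgood hp (gens_basis p) u hi (quotMk C' K hK) (quotMk_quotFactor hK p hKJ) hq
      (quotMk_surjective _ _ _) (gens_basis _) a hqt, map_sum, LinearMap.lTensor_tmul]
    rw [show (∑ j, cls i hgood hp (gens_basis p) u j ⊗ₜ[k] π (basis p j)) =
        ∑ j, ∑ l, cls i hgood hp (gens_basis p) u j ⊗ₜ[k] (a l j • basis (quotFactor hK p hKJ) l) from
      Finset.sum_congr rfl fun j _ => by rw [hsum j, TensorProduct.tmul_sum], Finset.sum_comm]
    exact Finset.sum_congr rfl fun l _ => by simp [TensorProduct.sum_tmul, TensorProduct.smul_tmul]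

end Groth.Agent.DeformNL.HilbObsTheory
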