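import Mathlib.RingTheory.Flat.Basic
import Mathlib.RingTheory.LocalRing.MaximalIdeal.Basic
import Mathlib.LinearAlgebra.TensorProduct.Tower
import Mathlib.RingTheory.Artinian.Module

/-!
# Infinitesimal automorphisms of flat extensions of modules
-/

universe u

open scoped TensorProduct

namespace Groth.Agent.DeformNL

variable {C' : Type u} [CommRing C'] [IsLocalRing C'] (J : Ideal C')
variable {A' : Type u} [CommRing A'] [Algebra C' A']
variable {M' : Type u} [AddCommGroup M'] [Module A' M'] [Module C' M'] [IsScalarTower C' A' M']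

/-- `M' ⊗ J → M'`, linear over `A'`. -/
noncomputable def mulMap : M' ⊗[C'] ↥J →ₗ[A'] M' :=
  (TensorProduct.AlgebraTensorModule.rid C' A' M').toLinearMap ∘ₗ
    TensorProduct.AlgebraTensorModule.lTensor A' M' (Submodule.subtype J)

omit [IsLocalRing C'] in
theorem mulMap_eq (z : M' ⊗[C'] ↥J) :
    mulMap (A' := A') J z = TensorProduct.rid C' M' (LinearMap.lTensor M' (Submodule.subtype J) z) := rfl

omit [IsLocalRing C'] in
theorem mulMap_tmul (x : M') (j : ↥J) : mulMap (A' := A') J (x ⊗ₜ[C'] j) = (j : C') • x := rfl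

theorem mulMap_injective [Module.Flat C' M'] : Function.Injective (mulMap (A' := A') (M' := M') J) := by
  intro a b h
  rw [mulMap_eq, mulMap_eq] at h
  exact Module.Flat.lTensor_preserves_injective_linearMap _ J.subtype_injective
    ((TensorProduct.rid C' M').injective h)

theorem range_mulMap :
    LinearMap.range (mulMap (A' := A') (M' := M') J) = J.map (algebraMap C' A') • ⊤ := by
  refine le_antisymm ?_ ?_
  · rintro _ ⟨z, rfl⟩
    induction z with
    | zero => simp
    | tmul x j =>
      rw [mulMap_tmul, ← algebraMap_smul A' (j : C') x]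
      exact Submodule.smul_mem_smul (Ideal.mem_map_of_mem _ j.2) trivial
    | add a b ha hb => rw [map_add]; exact add_mem ha hb
  · rw [Submodule.smul_le]
    intro a ha
    induction ha using Submodule.span_induction with
    | mem a ha =>
      obtain ⟨c, hc, rfl⟩ := ha
      intro x _
      exact ⟨x ⊗ₜ ⟨c, hc⟩, by rw [mulMap_tmul, algebraMap_smul]⟩
    | zero => intro x _; simp
    | add a b _ _ ha hb => intro x hx; rw [add_smul]; exact add_mem (ha x hx) (hb x hx)
    | smul r a _ ha => intro x hx; rw [smul_eq_mul, mul_smul]; exact Submodule.smul_mem _ r (ha x hx)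

variable (M') in
/-- The reduction of `M'` modulo the maximal ideal. -/
abbrev mSub : Submodule A' M' := (IsLocalRing.maximalIdeal C').map (algebraMap C' A') • ⊤

/-- `M' ⊗ J → M₀ ⊗ J`, linear over `A'`. -/
noncomputable def redTensor : M' ⊗[C'] ↥J →ₗ[A'] (M' ⧸ mSub (C' := C') (A' := A') M') ⊗[C'] ↥J :=
  TensorProduct.AlgebraTensorModule.map (Submodule.mkQ _) LinearMap.id

theorem redTensor_eq (z : M' ⊗[C'] ↥J) :
    redTensor (A' := A') J z =
      LinearMap.rTensor ↥J ((Submodule.mkQ (mSub (C' := C') (A' := A') M')).restrictScalars C') z := rfl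

omit [IsLocalRing C'] in
theorem rTensor_mkQ_bijective (N : Submodule A' M') (h : ∀ y ∈ N, ∀ j : ↥J, y ⊗ₜ[C'] j = 0) :
    Function.Bijective (LinearMap.rTensor ↥J ((Submodule.mkQ N).restrictScalars C')) := by
  have hq : Function.Surjective ((Submodule.mkQ N).restrictScalars C') := by
    intro y; exact Submodule.mkQ_surjective N y
  have hex : Function.Exact (N.subtype.restrictScalars C') ((Submodule.mkQ N).restrictScalars C') := by
    intro y
    exact LinearMap.exact_subtype_mkQ N y
  refine ⟨?_, LinearMap.rTensor_surjective _ hq⟩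
  rw [injective_iff_map_eq_zero]
  intro z hz
  obtain ⟨w, rfl⟩ := (rTensor_exact (↥J) hex hq z).mp hz
  clear hz hex
  induction w with
  | zero => simp
  | add a b ha hb => rw [map_add, ha, hb, add_zero]
  | tmul x j => rw [LinearMap.rTensor_tmul]; exact h x.1 x.2 j

theorem redTensor_bijective (hJ : IsLocalRing.maximalIdeal C' * J = ⊥) :
    Function.Bijective (redTensor (A' := A') (M' := M') J) := by
  have key := rTensor_mkQ_bijective J (mSub (C' := C') (A' := A') M') ?_
  · exact key
  intro y hy j
  refine Submodule.smul_induction_on hy ?_ fun a b ha hb => by rw [TensorProduct.add_tmul, ha, hb, add_zero]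
  intro a ha
  induction ha using Submodule.span_induction with
  | mem a ha =>
    obtain ⟨c, hc, rfl⟩ := ha
    intro v _
    have : c • j = 0 := Subtype.ext (by
      have h : c * (j : C') ∈ IsLocalRing.maximalIdeal C' * J := Ideal.mul_mem_mul hc j.2
      rw [hJ] at h
      exact h)
    rw [algebraMap_smul, TensorProduct.smul_tmul, this, TensorProduct.tmul_zero]
  | zero => intro v _; simp
  | add a b _ _ ha hb => intro v hv; rw [add_smul, TensorProduct.add_tmul, ha v hv, hb v hv, add_zero]
  | smul r a _ ha =>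
    intro v hv
    rw [smul_eq_mul, mul_smul, ← TensorProduct.smul_tmul', ha v hv, smul_zero]

theorem map_mul_eq_bot (hJ : IsLocalRing.maximalIdeal C' * J = ⊥) :
    (IsLocalRing.maximalIdeal C').map (algebraMap C' A') * J.map (algebraMap C' A') = ⊥ := by
  rw [← Ideal.map_mul, hJ, Ideal.map_bot]

theorem infinitesimal_automorphisms [Module.Flat C' M'] (hJ : IsLocalRing.maximalIdeal C' * J = ⊥)
    (hJne : J ≠ ⊤) :
    (∀ σ : M' →ₗ[A'] M', (∀ x : M', σ x - x ∈ (J.map (algebraMap C' A')) • (⊤ : Submodule A' M')) →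
      Function.Bijective σ ∧
        ∃! τ : (M' ⧸ mSub (C' := C') (A' := A') M') →ₗ[A'] ((M' ⧸ mSub (C' := C') (A' := A') M') ⊗[C'] ↥J),
          (∀ (x : M') (z : M' ⊗[C'] ↥J), mulMap (A' := A') J z = σ x - x →
            redTensor (A' := A') J z = τ (Submodule.mkQ _ x))) ∧
    (∀ τ : (M' ⧸ mSub (C' := C') (A' := A') M') →ₗ[A'] ((M' ⧸ mSub (C' := C') (A' := A') M') ⊗[C'] ↥J),
      ∃ σ : M' →ₗ[A'] M', (∀ x : M', σ x - x ∈ (J.map (algebraMap C' A')) • (⊤ : Submodule A' M')) ∧
          (∀ (x : M') (z : M' ⊗[C'] ↥J), mulMap (A' := A') J z = σ x - x →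
            redTensor (A' := A') J z = τ (Submodule.mkQ _ x))) := by
  have hbij := redTensor_bijective (A' := A') (M' := M') J hJ
  have hinj := mulMap_injective (A' := A') (M' := M') J
  refine ⟨fun σ hσ => ?_, fun τ => ?_⟩
  · let D : M' →ₗ[A'] M' := σ - LinearMap.id
    have hDsmul : ∀ (I : Ideal A'), I * J.map (algebraMap C' A') = ⊥ → ∀ v ∈ I • (⊤ : Submodule A' M'), D v = 0 := by
      intro I hI v hv
      refine Submodule.smul_induction_on hv (fun a ha x _ => ?_) fun a b ha hb => by rw [map_add, ha, hb, add_zero]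
      have h1 : a • D x ∈ I • (J.map (algebraMap C' A') • (⊤ : Submodule A' M')) :=
        Submodule.smul_mem_smul ha (hσ x)
      rw [← Submodule.mul_smul, hI, Submodule.bot_smul, Submodule.mem_bot] at h1
      rw [map_smul, h1]
    have hJJ : J.map (algebraMap C' A') * J.map (algebraMap C' A') = ⊥ :=
      le_bot_iff.mp (le_trans (Ideal.mul_mono_left (Ideal.map_mono (IsLocalRing.le_maximalIdeal hJne)))
        (le_of_eq (map_mul_eq_bot J hJ)))
    have hDD : ∀ x, D (D x) = 0 := fun x => hDsmul _ hJJ _ (hσ x)
    refine ⟨Function.bijective_iff_has_inverse.mpr ⟨fun x => x - D x, fun x => ?_, fun x => ?_⟩, ?_⟩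
    · show σ x - D (σ x) = x
      rw [show σ x = x + D x by simp [D], map_add, hDD]
      abel
    · show σ (x - D x) = x
      rw [show σ (x - D x) = (x - D x) + D (x - D x) by simp [D], map_sub, hDD]
      abel
    · let e := LinearEquiv.ofInjective _ hinj
      have hD : ∀ x, D x ∈ LinearMap.range (mulMap (A' := A') (M' := M') J) := fun x => by
        rw [range_mulMap]; exact hσ x
      let g := redTensor (A' := A') J ∘ₗ e.symm.toLinearMap ∘ₗ D.codRestrict _ hD
      have hg : mSub (C' := C') (A' := A') M' ≤ LinearMap.ker g := fun v hv => by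
        have : D.codRestrict _ hD v = 0 := Subtype.ext (hDsmul _ (map_mul_eq_bot J hJ) v hv)
        simp [g, this]
      refine ⟨(mSub (C' := C') (A' := A') M').liftQ g hg, fun x z hz => ?_, fun τ' hτ' => ?_⟩
      · show _ = g x
        have : e z = D.codRestrict _ hD x := Subtype.ext hz
        simp only [g, LinearMap.comp_apply, LinearEquiv.coe_coe, ← this, LinearEquiv.symm_apply_apply]
      · refine Submodule.linearMap_qext _ (LinearMap.ext fun x => ?_)
        obtain ⟨z, hz⟩ := hD x
        have : e z = D.codRestrict _ hD x := Subtype.ext hz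
        rw [LinearMap.comp_apply, LinearMap.comp_apply, ← hτ' x z hz]
        show _ = g x
        simp only [g, LinearMap.comp_apply, LinearEquiv.coe_coe, ← this, LinearEquiv.symm_apply_apply]
  · let r := LinearEquiv.ofBijective _ hbij
    refine ⟨LinearMap.id + mulMap (A' := A') J ∘ₗ r.symm.toLinearMap ∘ₗ τ ∘ₗ Submodule.mkQ _, fun x => ?_, fun x z hz => ?_⟩
    · simp only [LinearMap.add_apply, LinearMap.id_apply, add_sub_cancel_left]
      rw [← range_mulMap]
      exact ⟨_, rfl⟩
    · simp only [LinearMap.add_apply, LinearMap.id_apply, add_sub_cancel_left] at hz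
      rw [hinj hz]
      exact r.apply_symm_apply _

end Groth.Agent.DeformNL
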