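import Groth.Agent.SheafHomX.Coherent
import Groth.Agent.SheafHomX.Local
import Groth.Agent.SheafHomX.Main
import Groth.Agent.QCoh.HHExact
import Groth.Agent.QCoh.Qcqs
import Groth.Agent.OmegaLib.IdealMod
import Groth.Agent.OmegaLib.AffineHom
import Groth.Agent.H23.ModLoc

/-!
# Extensions of modules that split locally
-/

set_option linter.style.haveILetI false
set_option backward.isDefEq.respectTransparency false

universe u

open CategoryTheory CategoryTheory.Limits AlgebraicGeometry Opposite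

namespace Groth.Agent.DeformNL.LocSplit

open Groth.Agent

variable {X : Scheme.{u}}

/-- A morphism having a section on each member of some open covering. -/
def LocallySplit {E M : X.Modules} (g : E ⟶ M) : Prop :=
  ∀ x : X, ∃ U : X.Opens, x ∈ U ∧ ∃ s : (Scheme.Modules.restrictFunctor U.ι).obj M ⟶
    (Scheme.Modules.restrictFunctor U.ι).obj E, s ≫ (Scheme.Modules.restrictFunctor U.ι).map g = 𝟙 _

/-- Applying `hom(F, -)` to a locally split morphism gives an epimorphism. -/
theorem epi_hom_map (F : X.Modules) {E M : X.Modules} (g : E ⟶ M) (hg : LocallySplit g) :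
    Epi ((SheafHomX.hom F).map g) := by
  refine ⟨fun {W} s t hst => H23.ModLoc.hom_ext_of_locally s t fun x => ?_⟩
  obtain ⟨U, hxU, σ, hσ⟩ := hg x
  refine ⟨U, hxU, ?_⟩
  suffices he : Epi ((Scheme.Modules.restrictFunctor U.ι).map ((SheafHomX.hom F).map g)) by
    haveI := he
    rw [← cancel_epi ((Scheme.Modules.restrictFunctor U.ι).map ((SheafHomX.hom F).map g)), ← Functor.map_comp,
      ← Functor.map_comp, hst]
  haveI : IsSplitEpi ((Scheme.Modules.restrictFunctor U.ι).map g) := IsSplitEpi.mk' ⟨σ, hσ⟩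
  have : Epi ((Scheme.Modules.restrictFunctor U.ι).map ((SheafHomX.hom F).map g) ≫
      (SheafHomX.restrictIso U.ι F).hom.app M) := by
    rw [SheafHomX.restrict_map]; infer_instance
  exact (epi_comp_iff_of_isIso _ _).1 this

theorem one_comp {M N : X.Modules} (y : Coh.structureModule X ⟶ M) (f : M ⟶ N) :
    InvX.one (y ≫ f) = f.app ⊤ (InvX.one y) := rfl

theorem one_injective {M : X.Modules} {y y' : Coh.structureModule X ⟶ M} (h : InvX.one y = InvX.one y') :
    y = y' := by
  refine Scheme.Modules.hom_ext _ _ fun W => ?_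
  ext r
  exact (InvX.app_eq_smul y r).trans ((congrArg (fun z => (show Γ(X, W) from r) • AModX.res M (le_top : W ≤ ⊤) z)
    h).trans (InvX.app_eq_smul y' r).symm)

/-- The sequence of sheaves of homomorphisms into a locally split sequence is short exact. -/
theorem shortExact_hom {S : ShortComplex X.Modules} (hS : S.ShortExact) (hsplit : LocallySplit S.g) (F : X.Modules) :
    (S.map (SheafHomX.hom F)).ShortExact := by
  haveI : (SheafHomX.hom F).IsRightAdjoint := ⟨_, ⟨SheafHomX.adj F⟩⟩
  haveI : PreservesLimitsOfSize.{0, 0} (SheafHomX.hom F) := (SheafHomX.adj F).rightAdjoint_preservesLimits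
  haveI : Mono S.f := hS.mono_f
  haveI : Epi (S.map (SheafHomX.hom F)).g := epi_hom_map F S.g hsplit
  haveI : Mono (S.map (SheafHomX.hom F)).f := (SheafHomX.hom F).map_mono S.f
  exact { exact := hS.exact.map_of_mono_of_preservesKernel _ inferInstance inferInstance }

/-- A locally split extension with vanishing `H¹` of the sheaf of homomorphisms splits. -/
theorem exists_section {S : ShortComplex X.Modules} (hS : S.ShortExact) (hsplit : LocallySplit S.g)
    (h1 : Subsingleton (Coh.HH X ((SheafHomX.hom S.X₃).obj S.X₁) 1)) :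
    ∃ s : S.X₃ ⟶ S.X₂, s ≫ S.g = 𝟙 _ := by
  obtain ⟨e, he⟩ := QCoh.app_top_surjective_of_HH_one (shortExact_hom hS hsplit S.X₃) h1
    (InvX.one ((SheafHomX.ev S.X₃ S.X₃).symm (𝟙 _)))
  refine ⟨SheafHomX.ev S.X₃ S.X₂ (InvX.ofSect e), ?_⟩
  rw [← SheafHomX.ev_naturality]
  have : InvX.ofSect e ≫ (SheafHomX.hom S.X₃).map S.g = (SheafHomX.ev S.X₃ S.X₃).symm (𝟙 _) :=
    one_injective (by rw [one_comp, InvX.one_ofSect]; exact he)
  rw [this, AddEquiv.apply_symm_apply]

theorem isQCoh_idealMod (I : X.IdealSheafData) : Coh.IsQCoh (ClSub.idealMod I) :=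
  QCoh.isQCoh_kernel QCoh.isQCoh_structureModule
    (QCoh.isQCoh_pushforward I.subschemeι QCoh.isQCoh_structureModule) _

/-- A section on the sections over an affine open gives a section of the restricted morphism. -/
theorem exists_local_section {E M : X.Modules} (g : E ⟶ M) (hM : Coh.IsQCoh M) (U : X.affineOpens)
    (σ : Γ(M, U.1) →+ Γ(E, U.1)) (hlin : ∀ (r : Γ(X, U.1)) (s : Γ(M, U.1)), σ (r • s) = r • σ s)
    (hσ : ∀ s, g.app U.1 (σ s) = s) :
    ∃ s : (Scheme.Modules.restrictFunctor U.1.ι).obj M ⟶ (Scheme.Modules.restrictFunctor U.1.ι).obj E,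
      s ≫ (Scheme.Modules.restrictFunctor U.1.ι).map g = 𝟙 _ := by
  let j := U.1.ι
  haveI : IsAffine (U.1 : Scheme.{u}) := U.2
  let V : X.Opens := j ''ᵁ ⊤
  have hV : V = U.1 := U.1.ι_image_top
  obtain ⟨σ', hσ'lin, hσ'⟩ : ∃ σ' : Γ(M, V) →+ Γ(E, V),
      (∀ (r : Γ(X, V)) (s : Γ(M, V)), σ' (r • s) = r • σ' s) ∧ ∀ s, g.app V (σ' s) = s := by
    rw [hV]
    exact ⟨σ, hlin, hσ⟩
  have hMU := SheafHomX.globLocalized (X := (U.1 : Scheme.{u})) (QCoh.isQCoh_restrict j hM)
  obtain ⟨s, hs⟩ := OmegaLib.exists_hom_of_affine (P := (U.1 : Scheme.{u}))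
    (M := (Scheme.Modules.restrictFunctor j).obj M) (F := (Scheme.Modules.restrictFunctor j).obj E) hMU σ'
    (fun r k => hσ'lin _ k)
  refine ⟨s, OmegaLib.hom_ext_of_affine hMU fun k => ?_⟩
  show g.app V (s.app ⊤ k) = k
  rw [hs]
  exact hσ' k

end Groth.Agent.DeformNL.LocSplit
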