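import Groth.Agent.ArtFunLib.Completion
import Groth.Agent.ArtFunLib.Essential
import Groth.Agent.S19474

/-!
# The completed local ring at an augmentation
-/

set_option autoImplicit false

universe u v

open CategoryTheory ArtFun IsLocalRing

namespace Groth.Agent.DeformNL.LocalRing

open Groth.Agent.ArtFunLib

variable {Λ : Type u} {k : Type u} [CommRing Λ] [Field k] [Algebra Λ k]



/-- The completion at an augmentation, identified with the adic completion. -/
theorem exists_completion'' {S : Type u} [CommRing S] [Algebra Λ S] [IsNoetherianRing S]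
    (res : S →ₐ[Λ] k) (hres : Function.Surjective res) :
    ∃ (R : CRing Λ k) (ι : S →ₐ[Λ] R.carrier), R.res.comp ι = res ∧
      (∀ n (x : R.carrier), ∃ s : S, x - ι s ∈ maximalIdeal R.carrier ^ n) ∧
      (∀ n (s : S), ι s ∈ maximalIdeal R.carrier ^ n → s ∈ RingHom.ker res ^ n) ∧
      (∀ (T : CRing Λ k) (g : S →ₐ[Λ] T.carrier), T.res.comp g = res →
        ∃ h : R.carrier →ₐ[Λ] T.carrier, T.res.comp h = R.res ∧ h.comp ι = g) ∧
      Nonempty (R.carrier ≃+* AdicCompletion (RingHom.ker res) S) ∧
      ∀ (T : CRing Λ k) (h₁ h₂ : R.carrier →ₐ[Λ] T.carrier),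
        T.res.comp h₁ = R.res → T.res.comp h₂ = R.res → h₁.comp ι = h₂.comp ι → h₁ = h₂ := by
  set M := RingHom.ker res
  have hMmax : M.IsMaximal := Hull.ker_isMaximal res hres
  have hfg : M.FG := IsNoetherian.noetherian M
  let B := AdicCompletion M S
  let m : Ideal B := M.map (algebraMap S B)
  have hm : m.IsMaximal := AdicCompletion.isMaximal_map_of_le M M le_rfl hfg
  have hc : IsAdicComplete m B := AdicCompletion.isAdicComplete_self M hfg
  have : IsLocalRing B := isLocalRing_of_isAdicComplete_maximal m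
  have hN : IsNoetherianRing B := by
    let := Ideal.Quotient.field m
    exact LocalCrit.isNoetherianRing_of_isAdicComplete m (hfg.map _)
  have hmB : m = maximalIdeal B := IsLocalRing.eq_maximalIdeal hm
  let resB : B →ₐ[Λ] k :=
    (Ideal.Quotient.liftₐ (M ^ 1) res fun a ha => RingHom.mem_ker.1 (Ideal.pow_le_self one_ne_zero ha)).comp
      ((AdicCompletion.evalₐ M 1).restrictScalars Λ)
  have hresB : ∀ s, resB (algebraMap S B s) = res s := fun s => by
    show Ideal.Quotient.liftₐ (M ^ 1) res (fun a ha => RingHom.mem_ker.1 (Ideal.pow_le_self one_ne_zero ha)) (AdicCompletion.evalₐ M 1 (algebraMap S B s)) = res s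
    rw [AlgHom.commutes]
    rfl
  let R : CRing Λ k :=
    { carrier := B
      res := resB
      res_surjective := fun c => (hres c).elim fun s hs => ⟨algebraMap S B s, (hresB s).trans hs⟩
      isAdicComplete := hmB ▸ hc }
  let ι : S →ₐ[Λ] R.carrier := IsScalarTower.toAlgHom Λ S B
  refine ⟨R, ι, AlgHom.ext hresB, fun n x => ?_, fun n s hs => ?_, fun T g hg => ?_,
    ⟨RingEquiv.refl _⟩, fun T h₁ h₂ e₁ e₂ e => ?_⟩
  · obtain ⟨s, hs⟩ := Hull.exists_approx M hfg n x
    exact ⟨s, hmB ▸ hs⟩
  · have h1 : algebraMap S B s ∈ m ^ n := hmB.symm ▸ hs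
    have h2 := (Hull.mem_map_pow_iff M hfg n _).1 h1
    rw [AlgHom.commutes, Ideal.Quotient.algebraMap_eq] at h2
    exact Ideal.Quotient.eq_zero_iff_mem.1 h2
  · haveI := T.isAdicComplete
    have hgM : ∀ n, M ^ n ≤ (maximalIdeal T.carrier ^ n).comap g.toRingHom := fun n => by
      rw [← Ideal.map_le_iff_le_comap, Ideal.map_pow]
      refine Ideal.pow_right_mono (Ideal.map_le_iff_le_comap.2 fun s hs => ?_) _
      rw [Ideal.mem_comap, CRing.mem_maximalIdeal_iff]
      exact (congr($hg s)).trans (RingHom.mem_ker.1 hs)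
    let f : ∀ n, B →ₐ[Λ] T.carrier ⧸ maximalIdeal T.carrier ^ n := fun n =>
      (Ideal.Quotient.liftₐ (M ^ n) ((Ideal.Quotient.mkₐ Λ _).comp g) fun a ha =>
        Ideal.Quotient.eq_zero_iff_mem.2 (hgM n ha)).comp ((AdicCompletion.evalₐ M n).restrictScalars Λ)
    have hfeq : ∀ n x s, x - algebraMap S B s ∈ m ^ n → f n x = Ideal.Quotient.mk _ (g s) := by
      intro n x s hs
      have e : AdicCompletion.evalₐ M n x = Ideal.Quotient.mk _ s := by
        have := (Hull.mem_map_pow_iff M hfg n _).1 hs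
        rwa [map_sub, AlgHom.commutes, Ideal.Quotient.algebraMap_eq, sub_eq_zero] at this
      show Ideal.Quotient.liftₐ (M ^ n) ((Ideal.Quotient.mkₐ Λ _).comp g) (fun a ha =>
        Ideal.Quotient.eq_zero_iff_mem.2 (hgM n ha)) (AdicCompletion.evalₐ M n x) = _
      rw [e]
      rfl
    have hf : ∀ {p q : ℕ} (h : p ≤ q),
        (Ideal.Quotient.factorₐ Λ (Ideal.pow_le_pow_right h)).comp (f q) = f p := fun {p q} h => by
      refine AlgHom.ext fun x => ?_
      obtain ⟨s, hs⟩ := Hull.exists_approx M hfg q x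
      rw [AlgHom.comp_apply, hfeq q x s hs, hfeq p x s (Ideal.pow_le_pow_right h hs)]
      rfl
    let h : B →ₐ[Λ] T.carrier := IsAdicComplete.liftAlgHom (maximalIdeal T.carrier) f hf
    have hι : ∀ s, h (algebraMap S B s) = g s := fun s => by
      refine eq_of_sub_eq_zero (IsHausdorff.haus (I := maximalIdeal T.carrier) inferInstance _ fun n => ?_)
      rw [SModEq.sub_mem, sub_zero, Ideal.smul_eq_mul, Ideal.mul_top, ← Ideal.Quotient.eq,
        show Ideal.Quotient.mk (maximalIdeal T.carrier ^ n) (h (algebraMap S B s)) = f n (algebraMap S B s) from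
          IsAdicComplete.mk_liftAlgHom _ f hf n _]
      exact hfeq n _ s (by rw [sub_self]; exact zero_mem _)
    refine ⟨h, AlgHom.ext fun x => ?_, AlgHom.ext hι⟩
    obtain ⟨s, hs⟩ := Hull.exists_approx M hfg 1 x
    have h1 : h x - g s ∈ maximalIdeal T.carrier := by
      rw [← pow_one (maximalIdeal T.carrier), ← Ideal.Quotient.eq]
      exact (IsAdicComplete.mk_liftAlgHom _ f hf 1 x).trans (hfeq 1 x s hs)
    have h2 : x - algebraMap S B s ∈ maximalIdeal R.carrier := hmB ▸ (pow_one m ▸ hs)
    rw [CRing.mem_maximalIdeal_iff, map_sub, sub_eq_zero] at h1 h2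
    show T.res (h x) = R.res x
    rw [h1, h2]
    exact (congr($hg s)).trans (hresB s).symm
  · haveI := T.isAdicComplete
    refine AlgHom.ext fun x => eq_of_sub_eq_zero
      (IsHausdorff.haus (I := maximalIdeal T.carrier) inferInstance _ fun n => ?_)
    rw [SModEq.sub_mem, sub_zero, Ideal.smul_eq_mul, Ideal.mul_top]
    obtain ⟨s, hs⟩ := Hull.exists_approx M hfg n x
    have key : ∀ (h : R.carrier →ₐ[Λ] T.carrier), T.res.comp h = R.res →
        h x - h (ι s) ∈ maximalIdeal T.carrier ^ n := fun h hh => by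
      rw [← map_sub]
      have h3 : x - ι s ∈ maximalIdeal R.carrier ^ n := hmB ▸ hs
      have := Ideal.mem_map_of_mem h.toRingHom h3
      rw [Ideal.map_pow] at this
      exact Ideal.pow_right_mono (Completion.map_maximalIdeal_le h hh) n this
    have := sub_mem (key h₁ e₁) (key h₂ e₂)
    rwa [show h₁ (ι s) = h₂ (ι s) from congr($e s), sub_sub_sub_cancel_right] at this

/-- The coefficient ring of a Noetherian local augmented algebra. -/
theorem exists_cring {O : Type u} [CommRing O] [IsLocalRing O] [IsNoetherianRing O] [Algebra Λ O]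
    (res : O →ₐ[Λ] k) (hres : Function.Surjective res) :
    ∃ (R : CRing Λ k) (ι : O →ₐ[Λ] R.carrier), R.res.comp ι = res ∧
      (∀ (A : Art Λ k) (g : O →ₐ[Λ] A), A.res.comp g = res →
        ∃! φ : HomSet R.carrier R.res A, φ.1.comp ι = g) ∧
      ringKrullDim R.carrier = ringKrullDim O ∧ (IsRegularLocalRing R.carrier ↔ IsRegularLocalRing O) ∧
      Module.finrank (ResidueField R.carrier) (CotangentSpace R.carrier) =
        Module.finrank (ResidueField O) (CotangentSpace O) ∧
      Nonempty (R.carrier ≃+* AdicCompletion (maximalIdeal O) O) := by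
  have hker : RingHom.ker res = maximalIdeal O := IsLocalRing.eq_maximalIdeal (Hull.ker_isMaximal res hres)
  obtain ⟨R, ι, hι, happ, hpre, hex, ⟨e⟩, hu⟩ := exists_completion'' res hres
  rw [hker] at e
  obtain ⟨hd, hreg⟩ := S19474.result O (maximalIdeal O) (IsLocalRing.maximalIdeal.isMaximal O).ne_top
  have hdim : ringKrullDim R.carrier = ringKrullDim O := (ringKrullDim_eq_of_ringEquiv e).trans hd
  haveI : IsNoetherianRing R.carrier := inferInstance
  have hregR : IsRegularLocalRing R.carrier ↔ IsRegularLocalRing O :=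
    ⟨fun h => hreg.2 (@IsRegularLocalRing.of_ringEquiv _ _ h _ _ e),
      fun h => @IsRegularLocalRing.of_ringEquiv _ _ (hreg.1 h) _ _ e.symm⟩
  have hmem : ∀ s : O, ι s ∈ maximalIdeal R.carrier ↔ s ∈ maximalIdeal O := fun s => by
    rw [CRing.mem_maximalIdeal_iff, ← hker, RingHom.mem_ker]
    exact (congr($hι s)).congr_left
  have hsq : ∀ s : O, ι s ∈ maximalIdeal R.carrier ^ 2 ↔ s ∈ maximalIdeal O ^ 2 := fun s => by
    refine ⟨fun h => hker ▸ hpre 2 s h, fun h => ?_⟩
    have h1 := Ideal.mem_map_of_mem ι.toRingHom h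
    rw [Ideal.map_pow] at h1
    exact Ideal.pow_right_mono (Ideal.map_le_iff_le_comap.2 fun t ht => Ideal.mem_comap.2 ((hmem t).2 ht)) 2 h1
  let lin : (maximalIdeal O).Cotangent →+ (maximalIdeal R.carrier).Cotangent :=
    (QuotientAddGroup.lift _
      ((maximalIdeal R.carrier).toCotangent.toAddMonoidHom.comp
        { toFun := fun s : maximalIdeal O => (⟨ι s, (hmem s).2 s.2⟩ : maximalIdeal R.carrier)
          map_zero' := Subtype.ext (map_zero ι)
          map_add' := fun s t => Subtype.ext (map_add ι _ _) })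
      (fun s hs => by
        refine (Ideal.toCotangent_eq_zero (maximalIdeal R.carrier) _).2 ((hsq s.1).2 ?_)
        exact (Ideal.toCotangent_eq_zero (maximalIdeal O) s).1 ((Submodule.Quotient.mk_eq_zero _).2 hs)))
  have hlin : ∀ s : maximalIdeal O, lin ((maximalIdeal O).toCotangent s) =
      (maximalIdeal R.carrier).toCotangent ⟨ι s, (hmem s).2 s.2⟩ := fun s => rfl
  have hbij : Function.Bijective lin := by
    refine ⟨(injective_iff_map_eq_zero lin).2 fun c hc => ?_, fun c => ?_⟩
    · obtain ⟨s, rfl⟩ := (maximalIdeal O).toCotangent_surjective c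
      rw [hlin, Ideal.toCotangent_eq_zero] at hc
      exact (Ideal.toCotangent_eq_zero _ s).2 ((hsq s.1).1 hc)
    · obtain ⟨y, rfl⟩ := (maximalIdeal R.carrier).toCotangent_surjective c
      obtain ⟨s, hs⟩ := happ 2 (y : R.carrier)
      have hsm : s ∈ maximalIdeal O := (hmem s).1 (by
        have := sub_mem y.2 (Ideal.pow_le_self two_ne_zero hs)
        rwa [sub_sub_cancel] at this)
      refine ⟨(maximalIdeal O).toCotangent ⟨s, hsm⟩, ?_⟩
      rw [hlin, Ideal.toCotangent_eq]
      have := neg_mem hs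
      rwa [neg_sub] at this
  haveI : IsLocalHom ι.toRingHom := ⟨fun s hs => by
    by_contra h
    exact (IsLocalRing.mem_maximalIdeal _).1 ((hmem s).2 ((IsLocalRing.mem_maximalIdeal _).2 h)) hs⟩
  let i : ResidueField O →+* ResidueField R.carrier := ResidueField.map ι.toRingHom
  have hi : Function.Bijective i := ⟨i.injective, fun y => by
    obtain ⟨y, rfl⟩ := residue_surjective y
    obtain ⟨s, hs⟩ := happ 1 y
    refine ⟨residue O s, ?_⟩
    rw [pow_one] at hs
    exact (ResidueField.map_residue ι.toRingHom s).trans (Ideal.Quotient.eq.2 hs).symm⟩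
  have hcot : Module.finrank (ResidueField O) (CotangentSpace O) =
      Module.finrank (ResidueField R.carrier) (CotangentSpace R.carrier) := by
    refine congrArg Cardinal.toNat (rank_eq_of_equiv_equiv i (AddEquiv.ofBijective lin hbij) hi fun r c => ?_)
    obtain ⟨r, rfl⟩ := residue_surjective r
    obtain ⟨s, rfl⟩ := (maximalIdeal O).toCotangent_surjective c
    show lin (r • (maximalIdeal O).toCotangent s) = ι r • lin ((maximalIdeal O).toCotangent s)
    rw [← map_smul, hlin, hlin, ← map_smul]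
    exact congrArg _ (Subtype.ext (map_mul ι r s))
  refine ⟨R, ι, hι, fun A g hg => ?_, hdim, hregR, hcot.symm, ⟨e⟩⟩
  obtain ⟨h, hh, hh'⟩ := hex (toCRing A) g hg
  exact ⟨⟨h, hh⟩, hh', fun φ hφ => Subtype.ext (hu (toCRing A) φ.1 h φ.2 hh (hφ.trans hh'.symm))⟩

end Groth.Agent.DeformNL.LocalRing
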