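import Groth.Agent.DeformNL.ExactLift
import Groth.Agent.S12906
import Mathlib.RingTheory.Artinian.Module
import Mathlib.LinearAlgebra.Matrix.ToLin

/-!
# Lifting Hilbert–Burch resolutions over square-zero extensions
-/

universe u

open scoped TensorProduct

namespace Groth.Agent.DeformNL

variable {A : Type u} [CommRing A] {r : ℕ}

/-- The signed maximal minors. -/
abbrev sMinor (φ : Matrix (Fin (r + 1)) (Fin r) A) (i : Fin (r + 1)) : A :=
  (-1 : A) ^ (i : ℕ) * (φ.submatrix i.succAbove id).det

theorem map_sMinor {B : Type u} [CommRing B] (f : A →+* B) (φ : Matrix (Fin (r + 1)) (Fin r) A)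
    (i : Fin (r + 1)) : f (sMinor φ i) = sMinor (φ.map f) i := by
  rw [sMinor, sMinor, map_mul, map_pow, map_neg, map_one, RingHom.map_det]
  rfl

theorem linearCombination_comp_mulVecLin (φ : Matrix (Fin (r + 1)) (Fin r) A) :
    (Fintype.linearCombination A (sMinor φ)) ∘ₗ φ.mulVecLin = 0 := by
  refine LinearMap.ext fun w => ?_
  rw [LinearMap.comp_apply, LinearMap.zero_apply, Fintype.linearCombination_apply]
  simp only [Matrix.mulVecLin_apply, Matrix.mulVec, dotProduct, smul_eq_mul, Finset.sum_mul]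
  rw [Finset.sum_comm]
  refine Finset.sum_eq_zero fun j _ => ?_
  have h : ∑ i : Fin (r + 1), sMinor φ i * φ i j = 0 := S12906.result r φ j
  calc ∑ i, φ i j * w j * sMinor φ i = (∑ i, sMinor φ i * φ i j) * w j := by
        rw [Finset.sum_mul]; exact Finset.sum_congr rfl fun i _ => by ring
    _ = 0 := by rw [h, zero_mul]

theorem range_linearCombination_sMinor (φ : Matrix (Fin (r + 1)) (Fin r) A) :
    LinearMap.range (Fintype.linearCombination A (sMinor φ)) = Ideal.span (Set.range (sMinor φ)) :=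
  Fintype.range_linearCombination A _

variable {C' : Type u} [CommRing C'] [Algebra C' A] (J : Ideal C')

/-- Componentwise reduction. -/
noncomputable def redPi (ι : Type) : (ι → A) →ₗ[C'] (ι → A ⧸ J.map (algebraMap C' A)) :=
  LinearMap.compLeft ((Ideal.Quotient.mkₐ C' (J.map (algebraMap C' A))).toLinearMap) ι

theorem redPi_eq_zero_iff {n : ℕ} (x : Fin n → A) :
    redPi J (Fin n) x = 0 ↔ x ∈ J • (⊤ : Submodule C' (Fin n → A)) := by
  refine ⟨fun h => ?_, fun h => ?_⟩
  · rw [← Finset.univ_sum_single x]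
    refine Submodule.sum_mem _ fun i _ => ?_
    have h0 : x i ∈ (J • (⊤ : Submodule C' A)) := by
      rw [Ideal.smul_top_eq_map]
      exact Ideal.Quotient.eq_zero_iff_mem.mp (congrFun h i)
    have h1 := Submodule.mem_map_of_mem (f := LinearMap.single C' (fun _ : Fin n => A) i) h0
    rw [Submodule.map_smul''] at h1
    exact Submodule.smul_mono le_rfl le_top h1
  · refine Submodule.smul_induction_on h (fun c hc y _ => ?_) fun a b ha hb => by rw [map_add, ha, hb, add_zero]
    funext i
    show Ideal.Quotient.mk _ (c • y i) = 0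
    rw [Algebra.smul_def]
    exact Ideal.Quotient.eq_zero_iff_mem.mpr (Ideal.mul_mem_right _ _ (Ideal.mem_map_of_mem _ hc))

/-- A matrix lifting an exact Hilbert–Burch complex with flat cokernel has the same properties. -/
theorem minors_lift (hJ : J * J = ⊥) [Module.Flat C' A] (φ : Matrix (Fin (r + 1)) (Fin r) A)
    (hinj : Function.Injective (φ.map (Ideal.Quotient.mk (J.map (algebraMap C' A)))).mulVecLin)
    (hex : LinearMap.range (φ.map (Ideal.Quotient.mk (J.map (algebraMap C' A)))).mulVecLin =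
      LinearMap.ker (Fintype.linearCombination (A ⧸ J.map (algebraMap C' A))
        (sMinor (φ.map (Ideal.Quotient.mk (J.map (algebraMap C' A)))))))
    [Module.Flat (C' ⧸ J) ((A ⧸ J.map (algebraMap C' A)) ⧸
      Ideal.span (Set.range (sMinor (φ.map (Ideal.Quotient.mk (J.map (algebraMap C' A)))))))] :
    Function.Injective φ.mulVecLin ∧
      LinearMap.range φ.mulVecLin = LinearMap.ker (Fintype.linearCombination A (sMinor φ)) ∧
      Module.Flat C' (A ⧸ Ideal.span (Set.range (sMinor φ))) := by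
  let K := J.map (algebraMap C' A)
  let φb := φ.map (Ideal.Quotient.mk K)
  let mk := Ideal.Quotient.mk K
  haveI : ∀ n : ℕ, Module.Flat C' (Fin n → A) := fun n =>
    Module.Flat.of_linearEquiv (DFinsupp.linearEquivFunOnFintype (R := C') (M := fun _ : Fin n => A)).symm
  let a := φ.mulVecLin.restrictScalars C'
  let b := (Fintype.linearCombination A (sMinor φ)).restrictScalars C'
  have hsurj : ∀ n : ℕ, Function.Surjective (redPi (A := A) J (Fin n)) := fun n x =>
    ⟨fun i => (x i).out, funext fun i => Ideal.Quotient.mk_out _⟩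
  obtain ⟨e2, he2⟩ := exists_quot_tensor_equiv J (redPi (A := A) J (Fin r)) (hsurj r) (redPi_eq_zero_iff J)
  obtain ⟨e1, he1⟩ := exists_quot_tensor_equiv J (redPi (A := A) J (Fin (r + 1))) (hsurj _) (redPi_eq_zero_iff J)
  obtain ⟨e0, he0⟩ := exists_quot_tensor_equiv J ((Ideal.Quotient.mkₐ C' K).toLinearMap)
    Ideal.Quotient.mk_surjective fun x => by
      rw [Ideal.smul_top_eq_map]; exact Ideal.Quotient.eq_zero_iff_mem
  have one_surj : ∀ (F : Type u) [AddCommGroup F] [Module C' F] (z : (C' ⧸ J) ⊗[C'] F),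
      ∃ x, (1 : C' ⧸ J) ⊗ₜ[C'] x = z := fun F _ _ z =>
    TensorProduct.mk_surjective C' F (C' ⧸ J) Ideal.Quotient.mk_surjective z
  have ha : ∀ z, e1 (a.baseChange (C' ⧸ J) z) = φb.mulVecLin (e2 z) := fun z => by
    obtain ⟨x, rfl⟩ := one_surj _ z
    rw [LinearMap.baseChange_tmul, he1, he2]
    funext i
    exact RingHom.map_mulVec mk φ x i
  have hb : ∀ z, e0 (b.baseChange (C' ⧸ J) z) =
      Fintype.linearCombination (A ⧸ K) (sMinor φb) (e1 z) := fun z => by
    obtain ⟨x, rfl⟩ := one_surj _ z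
    rw [LinearMap.baseChange_tmul, he0, he1]
    show mk (Fintype.linearCombination A (sMinor φ) x) = _
    rw [Fintype.linearCombination_apply, Fintype.linearCombination_apply, map_sum]
    refine Finset.sum_congr rfl fun i _ => ?_
    rw [smul_eq_mul, smul_eq_mul, map_mul, map_sMinor]
    rfl
  have ha' : Function.Injective (a.baseChange (C' ⧸ J)) := fun x y h =>
    e2.injective (hinj (by rw [← ha, ← ha, h]))
  have hex' : Function.Exact (a.baseChange (C' ⧸ J)) (b.baseChange (C' ⧸ J)) := fun z => by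
    have hiff : b.baseChange (C' ⧸ J) z = 0 ↔
        e1 z ∈ LinearMap.ker (Fintype.linearCombination (A ⧸ K) (sMinor φb)) := by
      rw [LinearMap.mem_ker, ← hb, e0.map_eq_zero_iff]
    rw [hiff, ← hex]
    constructor
    · rintro ⟨w, hw⟩
      exact ⟨e2.symm w, e1.injective (by rw [ha, e2.apply_symm_apply]; exact hw)⟩
    · rintro ⟨w, rfl⟩
      exact ⟨e2 w, (ha w).symm⟩
  let Ib : Ideal (A ⧸ K) := Ideal.span (Set.range (sMinor φb))
  let π₀ : A →ₗ[C'] (A ⧸ K) ⧸ Ib :=
    ((Ideal.Quotient.mkₐ C' Ib).comp (Ideal.Quotient.mkₐ C' K)).toLinearMap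
  have hIb : ∀ w, mk (b w) ∈ Ib := fun w => by
    show mk (Fintype.linearCombination A (sMinor φ) w) ∈ Ib
    rw [Fintype.linearCombination_apply, map_sum]
    refine sum_mem fun i _ => ?_
    rw [smul_eq_mul, map_mul, map_sMinor]
    exact Ideal.mul_mem_left _ _ (Ideal.subset_span ⟨i, rfl⟩)
  let π := (LinearMap.range b).liftQ π₀ (by
    rintro _ ⟨w, rfl⟩
    exact Ideal.Quotient.eq_zero_iff_mem.mpr (hIb w))
  have hπ : Function.Surjective π := fun y => by
    obtain ⟨y, rfl⟩ := Ideal.Quotient.mk_surjective y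
    obtain ⟨y, rfl⟩ := Ideal.Quotient.mk_surjective y
    exact ⟨Submodule.Quotient.mk y, rfl⟩
  have hπker : ∀ q, π q = 0 ↔ q ∈ J • (⊤ : Submodule C' (A ⧸ LinearMap.range b)) := by
    intro q
    refine ⟨fun hq => ?_, fun hq => ?_⟩
    · obtain ⟨x, rfl⟩ := Submodule.Quotient.mk_surjective _ q
      have hx : mk x ∈ Ib := Ideal.Quotient.eq_zero_iff_mem.mp hq
      obtain ⟨w, hw⟩ := (range_linearCombination_sMinor φb).ge hx
      obtain ⟨w, rfl⟩ := hsurj _ w
      have h1 : x - b w ∈ J • (⊤ : Submodule C' A) := by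
        rw [Ideal.smul_top_eq_map]
        refine Ideal.Quotient.eq.mp ?_
        show mk x = mk (b w)
        rw [← hw]
        have := hb (1 ⊗ₜ w)
        rw [LinearMap.baseChange_tmul, he0, he1] at this
        exact this.symm
      have h2 := Submodule.mem_map_of_mem (f := (LinearMap.range b).mkQ) h1
      rw [Submodule.map_smul'', map_sub, show (LinearMap.range b).mkQ (b w) = 0 from
        (Submodule.Quotient.mk_eq_zero _).mpr ⟨w, rfl⟩, sub_zero] at h2
      exact Submodule.smul_mono le_rfl le_top h2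
    · refine Submodule.smul_induction_on hq (fun c hc y _ => ?_) fun a b ha hb => by rw [map_add, ha, hb, add_zero]
      obtain ⟨y, rfl⟩ := Submodule.Quotient.mk_surjective _ y
      show π₀ (c • y) = 0
      refine Ideal.Quotient.eq_zero_iff_mem.mpr ?_
      show mk (c • y) ∈ Ib
      rw [Algebra.smul_def, show mk (algebraMap C' A c * y) = 0 from
        Ideal.Quotient.eq_zero_iff_mem.mpr (Ideal.mul_mem_right _ _ (Ideal.mem_map_of_mem _ hc))]
      exact zero_mem _
  obtain ⟨eB, -⟩ := exists_quot_tensor_equiv J π hπ hπker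
  haveI : Module.Flat (C' ⧸ J) ((C' ⧸ J) ⊗[C'] (A ⧸ LinearMap.range b)) := Module.Flat.of_linearEquiv eB
  obtain ⟨h1, h2, h3⟩ := ExactLift.lift_of_flat J hJ a b
    (LinearMap.ext fun w => LinearMap.congr_fun (linearCombination_comp_mulVecLin φ) w) ha' hex'
  refine ⟨h1, ?_, ?_⟩
  · ext x; exact ((h2 x).trans Iff.rfl).symm
  · have e : (A ⧸ LinearMap.range b) ≃ₗ[C'] A ⧸ Ideal.span (Set.range (sMinor φ)) :=
      (Submodule.quotEquivOfEq _ ((Ideal.span (Set.range (sMinor φ))).restrictScalars C')
        (by rw [← range_linearCombination_sMinor]; rfl)).trans (Submodule.Quotient.restrictScalarsEquiv C' _)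
    exact Module.Flat.of_linearEquiv e.symm

end Groth.Agent.DeformNL
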