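import Groth.Agent.DeformNL.LocalRing
import Groth.Agent.ArtFunLib.LocalFunctor
import Groth.Prelude.Def_ArtFun6

/-!
# The completed local ring at a rational point classifies infinitesimal arcs
-/

set_option autoImplicit false
set_option backward.isDefEq.respectTransparency false

universe u

open CategoryTheory AlgebraicGeometry ArtFun

namespace Groth.Agent.DeformNL.PointRing

variable {k : Type u} [Field k]

theorem exists_factor {M : Scheme.{u}} {A : CommRingCat.{u}} [IsLocalRing A] (g : Spec A ⟶ M) (z : M)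
    (hz : g (IsLocalRing.closedPoint A) = z) :
    ∃ φ : M.presheaf.stalk z ⟶ A, Spec.map φ ≫ M.fromSpecStalk z = g := by
  subst hz
  exact ⟨_, Scheme.Spec_stalkClosedPointTo_fromSpecStalk g⟩

theorem exists_point_ring (M : Scheme.{u}) (m : M ⟶ Art.specPt k) [IsLocallyNoetherian M]
    (x₀ : Art.specPt k ⟶ M) (hx₀ : x₀ ≫ m = 𝟙 _) :
    ∃ (R : CRing k k)
      (e : ∀ A : Art k k, HomSet R.carrier R.res A ≃
        {g : Art.spec A ⟶ M // g ≫ m = Art.specOver A ∧ Art.specRes A ≫ g = x₀}),
      (∀ (A B : Art k k) (h : A ⟶ B) (φ : HomSet R.carrier R.res A),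
        ((e B) (HomSet.map h φ)).1 = Art.specMap h ≫ ((e A) φ).1) ∧
      ringKrullDim R.carrier = ringKrullDim (M.presheaf.stalk (x₀ (IsLocalRing.closedPoint k))) ∧
      (IsRegularLocalRing R.carrier ↔ IsRegularLocalRing (M.presheaf.stalk (x₀ (IsLocalRing.closedPoint k)))) ∧
      Module.finrank (IsLocalRing.ResidueField R.carrier) (IsLocalRing.CotangentSpace R.carrier) =
        Module.finrank (IsLocalRing.ResidueField (M.presheaf.stalk (x₀ (IsLocalRing.closedPoint k))))
          (IsLocalRing.CotangentSpace (M.presheaf.stalk (x₀ (IsLocalRing.closedPoint k)))) ∧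
      Nonempty (R.carrier ≃+* AdicCompletion
        (IsLocalRing.maximalIdeal (M.presheaf.stalk (x₀ (IsLocalRing.closedPoint k))))
        (M.presheaf.stalk (x₀ (IsLocalRing.closedPoint k)))) := by
  let pt : M := x₀ (IsLocalRing.closedPoint k)
  let O : CommRingCat.{u} := M.presheaf.stalk pt
  haveI : IsNoetherianRing (M.presheaf.stalk pt) := inferInstance
  let j : Spec O ⟶ M := M.fromSpecStalk pt
  let ψ : CommRingCat.of k ⟶ O := Spec.preimage (j ≫ m)
  have hψ : Spec.map ψ = j ≫ m := Spec.map_preimage _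
  letI : Algebra k O := ψ.hom.toAlgebra
  obtain ⟨r, hl⟩ := exists_factor (A := CommRingCat.of k) x₀ pt rfl
  have hψr : ψ ≫ r = 𝟙 _ := Spec.map_injective (by
    rw [Spec.map_comp, hψ, ← Category.assoc, hl, hx₀, Spec.map_id])
  let res : O →ₐ[k] k := { r.hom with commutes' := fun c => congr($hψr c) }
  obtain ⟨R, ι, hι, hbij, hd, hreg, hcot, he⟩ :=
    LocalRing.exists_cring res fun c => ⟨ψ c, congr($hψr c)⟩
  let mk : ∀ (A : Art k k), HomSet R.carrier R.res A → (Art.spec A ⟶ M) := fun A φ =>
    Spec.map (CommRingCat.ofHom (R := O) (S := (A : Type u)) (φ.1.comp ι).toRingHom) ≫ j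
  have hmk : ∀ (A : Art k k) (φ : HomSet R.carrier R.res A),
      mk A φ ≫ m = Art.specOver A ∧ Art.specRes A ≫ mk A φ = x₀ := fun A φ => by
    constructor
    · show (Spec.map _ ≫ j) ≫ m = _
      rw [Category.assoc, ← hψ, ← Spec.map_comp]
      refine congrArg Spec.map (CommRingCat.hom_ext (RingHom.ext fun c => ?_))
      exact (φ.1.comp ι).commutes c
    · show Spec.map _ ≫ Spec.map _ ≫ j = x₀
      rw [← Spec.map_comp_assoc, ← hl]
      congr 2
      refine CommRingCat.hom_ext (RingHom.ext fun x => ?_)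
      exact (congr($(φ.2) (ι x))).trans (congr($hι x))
  have hb : ∀ A : Art k k, Function.Bijective (fun φ : HomSet R.carrier R.res A =>
      (⟨mk A φ, hmk A φ⟩ : {g : Art.spec A ⟶ M // g ≫ m = Art.specOver A ∧ Art.specRes A ≫ g = x₀})) := by
    intro A
    refine ⟨fun φ₁ φ₂ h => ?_, fun ⟨g, hg₁, hg₂⟩ => ?_⟩
    · have h2 := Spec.map_injective ((cancel_mono j).1 (congrArg Subtype.val h : mk A φ₁ = mk A φ₂))
      exact (hbij A (φ₁.1.comp ι) (AlgHom.ext fun x => (congr($(φ₁.2) (ι x))).trans (congr($hι x)))).unique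
        rfl (AlgHom.ext fun x => (congr($h2 x)).symm)
    · haveI := ArtFunLib.LocalFunctor.subsingleton_spec A
      have hpt : g (IsLocalRing.closedPoint (A : Type u)) = pt := by
        rw [Subsingleton.elim (IsLocalRing.closedPoint (A : Type u) : Art.spec A)
          (Art.specRes A (IsLocalRing.closedPoint k))]
        exact congr($hg₂ (IsLocalRing.closedPoint k))
      obtain ⟨f, hf⟩ := exists_factor (A := CommRingCat.of (A : Type u)) g pt hpt
      have hψf : ψ ≫ f = CommRingCat.ofHom (Art.ofBase A).toAlgHom.toRingHom := Spec.map_injective (by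
        rw [Spec.map_comp, hψ, ← Category.assoc, hf]; exact hg₁)
      have hfr : f ≫ CommRingCat.ofHom A.res.toRingHom = r := Spec.map_injective (by
        refine (cancel_mono j).1 ?_
        rw [Spec.map_comp, Category.assoc, hf, hl]
        exact hg₂)
      let fA : O →ₐ[k] A := { f.hom with commutes' := fun c => congr($hψf c) }
      obtain ⟨φ, hφ, -⟩ := hbij A fA (AlgHom.ext fun x => congr($hfr x))
      refine ⟨φ, Subtype.ext ?_⟩
      show Spec.map _ ≫ j = g
      rw [← hf]
      congr 2
      refine CommRingCat.hom_ext (RingHom.ext fun x => ?_)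
      exact congr($hφ x)
  refine ⟨R, fun A => Equiv.ofBijective _ (hb A), fun A B h φ => ?_, hd, hreg, hcot, he⟩
  show Spec.map _ ≫ j = Art.specMap h ≫ Spec.map _ ≫ j
  rw [← Spec.map_comp_assoc]
  rfl

end Groth.Agent.DeformNL.PointRing
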