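import Groth.Agent.DeformNL.HullBounds
import Groth.Agent.CILib.Basic

/-!
# Dimension bounds for a pro-representing ring with an obstruction theory
-/

set_option autoImplicit false
set_option linter.style.haveILetI false
set_option backward.isDefEq.respectTransparency false
universe u v

open CategoryTheory ArtFun IsLocalRing

namespace Groth.Agent.DeformNL.ProRepBounds

open Groth.Agent

variable {k : Type u} [Field k] {F : Art k k ⥤ Type v} (P : ProRep F)

theorem isVersal : IsVersal P.family := fun B A μ _ φ y hy => by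
  obtain ⟨ψ, rfl⟩ := (P.universal B).2 y
  exact ⟨ψ, (P.universal A).1 ((P.family.natural μ ψ).trans hy), rfl⟩

theorem isSmoothFunctor_iff : IsSmoothFunctor F ↔ IsSmoothFunctor (hR P.ring.carrier P.ring.res) := by
  constructor
  · intro h B A μ hμ φ
    obtain ⟨z, hz⟩ := h μ hμ (P.family.app A φ)
    obtain ⟨ψ, rfl⟩ := (P.universal B).2 z
    exact ⟨ψ, (P.universal A).1 ((P.family.natural μ ψ).trans hz)⟩
  · intro h B A μ hμ y
    obtain ⟨φ, rfl⟩ := (P.universal A).2 y
    obtain ⟨ψ, hψ⟩ := h μ hμ φ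
    exact ⟨P.family.app B ψ, (P.family.natural μ ψ).symm.trans (congrArg (P.family.app A) hψ)⟩

/-- The three bounds. -/
theorem bounds {W : Type u} [AddCommGroup W] [Module k W] [Module.Finite k W] (T : HasObsTheory F W) :
    ringKrullDim P.ring.carrier ≤ (Module.finrank (ResidueField P.ring.carrier) (CotangentSpace P.ring.carrier) : WithBot ℕ∞) ∧
      (Module.finrank (ResidueField P.ring.carrier) (CotangentSpace P.ring.carrier) : WithBot ℕ∞) ≤
          ringKrullDim P.ring.carrier + (Module.finrank k W : WithBot ℕ∞) ∧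
      (ringKrullDim P.ring.carrier = (Module.finrank (ResidueField P.ring.carrier) (CotangentSpace P.ring.carrier) : WithBot ℕ∞) ↔
        IsSmoothFunctor F) := by
  obtain ⟨T⟩ := T
  obtain ⟨T'⟩ := HullBounds.hasObsTheory_of_versal P.family (isVersal P) T
  obtain ⟨h1, h2, h3⟩ := HullBounds.ring_bounds P.ring
  exact ⟨h1, h2 W T', h3.trans (isSmoothFunctor_iff P).symm⟩

/-- Equality in the lower bound makes the ring a complete intersection. -/
theorem exists_regular_presentation {W : Type u} [AddCommGroup W] [Module k W] [Module.Finite k W]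
    (T : HasObsTheory F W)
    (h : ringKrullDim P.ring.carrier + (Module.finrank k W : WithBot ℕ∞) =
      (Module.finrank (ResidueField P.ring.carrier) (CotangentSpace P.ring.carrier) : WithBot ℕ∞)) :
    ∃ (Q : Type u) (_ : CommRing Q) (_ : IsRegularLocalRing Q) (rs : List Q),
      (∀ r ∈ rs, r ∈ maximalIdeal Q) ∧ RingTheory.Sequence.IsRegular Q rs ∧
        Nonempty (P.ring.carrier ≃+* Q ⧸ Ideal.span {r | r ∈ rs}) := by
  obtain ⟨T⟩ := T
  obtain ⟨T'⟩ := HullBounds.hasObsTheory_of_versal P.family (isVersal P) T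
  obtain ⟨π₀, hπ₀, hJ⟩ := HullBounds.exists_minimal_presentation' P.ring
  haveI := PSLib.isRegularLocalRing k (Module.finrank (ResidueField P.ring.carrier) (CotangentSpace P.ring.carrier))
  obtain ⟨Q, _, _, π, s, hπ, hs, hd⟩ := (ArtFunLib.ObsBound.bounds P.ring.res π₀ hπ₀ hJ T').2.2.2 h
  obtain ⟨rs, hrs, hk⟩ := (Synt29.ciKer_iff_regular π hπ).1
    ⟨s.card, fun i => (s.equivFin.symm i : Q), hs.symm.trans (congrArg Ideal.span (by
      ext z
      exact ⟨fun hz => ⟨s.equivFin ⟨z, hz⟩, by simp⟩, fun ⟨i, hi⟩ => hi ▸ (s.equivFin.symm i).2⟩)), hd⟩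
  refine ⟨Q, inferInstance, inferInstance, rs,
    fun r hr => IsLocalRing.le_maximalIdeal (RingHom.ker_ne_top π) (hk ▸ Ideal.subset_span hr), hrs,
    ⟨(RingHom.quotientKerEquivOfSurjective hπ).symm.trans (Ideal.quotEquivOfEq hk)⟩⟩

end Groth.Agent.DeformNL.ProRepBounds
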