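import Mathlib.RingTheory.Idempotents
import Mathlib.Algebra.Module.Projective
import Mathlib.LinearAlgebra.TensorProduct.Quotient
import Mathlib.RingTheory.TensorProduct.Basic
import Mathlib.LinearAlgebra.FreeModule.Basic
import Mathlib.RingTheory.Nilpotent.Basic

/-!
# Lifting arbitrary projective modules along nilpotent ideals
-/

universe u v

open scoped TensorProduct

namespace Groth.Agent.DeformNL

variable {A : Type u} [CommRing A] (I : Ideal A)

/-- Coefficientwise reduction on a free module. -/
noncomputable def redFree (ι : Type v) : (ι →₀ A) →ₗ[A] (ι →₀ A ⧸ I) :=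
  Finsupp.mapRange.linearMap (Algebra.linearMap A (A ⧸ I))

theorem redFree_surjective (ι : Type v) : Function.Surjective (redFree I ι) :=
  Finsupp.mapRange_surjective (Algebra.linearMap A (A ⧸ I)) (map_zero _) Ideal.Quotient.mk_surjective

theorem redFree_eq_zero_iff {ι : Type v} (w : ι →₀ A) :
    redFree I ι w = 0 ↔ w ∈ I • (⊤ : Submodule A (ι →₀ A)) := by
  refine ⟨fun h => ?_, fun h => ?_⟩
  · rw [← w.sum_single]
    refine Submodule.sum_mem _ fun i _ => ?_
    have hi : w i ∈ I := Ideal.Quotient.eq_zero_iff_mem.mp (DFunLike.congr_fun h i)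
    rw [← Finsupp.smul_single_one i (w i)]
    exact Submodule.smul_mem_smul hi trivial
  · refine Submodule.smul_induction_on h (fun r hr x _ => ?_) fun x y hx hy => by
      rw [map_add, hx, hy, add_zero]
    ext i
    show Ideal.Quotient.mk I (r * x i) = 0
    exact Ideal.Quotient.eq_zero_iff_mem.mpr (I.mul_mem_right _ hr)

theorem eq_zero_of_pow_le {M : Type v} [AddCommGroup M] [Module A M] (hI : IsNilpotent I)
    (h : (⊤ : Submodule A M) ≤ I • ⊤) : Subsingleton M := by
  obtain ⟨n, hn⟩ := hI
  have key : ∀ m : ℕ, (⊤ : Submodule A M) ≤ I ^ m • ⊤ := fun m => by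
    induction m with
    | zero => rw [pow_zero, Submodule.one_eq_span, Submodule.ideal_span_singleton_smul]; simp
    | succ m ih =>
      refine ih.trans ?_
      rw [pow_succ, Submodule.mul_smul]
      exact Submodule.smul_mono le_rfl h
  refine subsingleton_of_forall_eq 0 fun x => ?_
  simpa [hn] using key n (Submodule.mem_top (x := x))

/-- Reduction of endomorphisms of a free module. -/
noncomputable def redEnd (ι : Type v) :
    Module.End A (ι →₀ A) →+* Module.End (A ⧸ I) (ι →₀ A ⧸ I) :=
  have key : ∀ (e : Module.End A (ι →₀ A)) (v : ι →₀ A),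
      Finsupp.linearCombination (A ⧸ I) (fun i => redFree I ι (e (Finsupp.single i 1))) (redFree I ι v) =
        redFree I ι (e v) := fun e v => by
    induction v using Finsupp.induction_linear with
    | zero => simp
    | add x y hx hy => simp only [map_add, hx, hy]
    | single i a =>
      show Finsupp.linearCombination (A ⧸ I) _ (Finsupp.mapRange (Algebra.linearMap A (A ⧸ I)) (map_zero _) (Finsupp.single i a)) = _
      rw [Finsupp.mapRange_single, Finsupp.linearCombination_single]
      rw [← Finsupp.smul_single_one i a, map_smul, map_smul, ← algebraMap_smul (A ⧸ I) a]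
      rfl
  { toFun := fun e => Finsupp.linearCombination (A ⧸ I) fun i => redFree I ι (e (Finsupp.single i 1))
    map_one' := LinearMap.ext fun w => by
      obtain ⟨v, rfl⟩ := redFree_surjective I ι w
      exact key 1 v
    map_mul' := fun e f => LinearMap.ext fun w => by
      obtain ⟨v, rfl⟩ := redFree_surjective I ι w
      rw [Module.End.mul_apply, key, key, key, Module.End.mul_apply]
    map_zero' := LinearMap.ext fun w => by
      obtain ⟨v, rfl⟩ := redFree_surjective I ι w
      rw [key]; simp
    map_add' := fun e f => LinearMap.ext fun w => by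
      obtain ⟨v, rfl⟩ := redFree_surjective I ι w
      rw [LinearMap.add_apply, key, key, key, LinearMap.add_apply, map_add] }

theorem redEnd_apply {ι : Type v} (e : Module.End A (ι →₀ A)) (v : ι →₀ A) :
    redEnd I ι e (redFree I ι v) = redFree I ι (e v) := by
  induction v using Finsupp.induction_linear with
  | zero => simp
  | add x y hx hy => simp only [map_add, hx, hy]
  | single i a =>
    show Finsupp.linearCombination (A ⧸ I) _ (Finsupp.mapRange (Algebra.linearMap A (A ⧸ I)) (map_zero _) (Finsupp.single i a)) = _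
    rw [Finsupp.mapRange_single, Finsupp.linearCombination_single]
    rw [← Finsupp.smul_single_one i a, map_smul, map_smul, ← algebraMap_smul (A ⧸ I) a]
    rfl

/-- A projective module over `A / I`, `I` nilpotent, lifts to a projective `A`-module. -/
theorem exists_projective_lift (hI : IsNilpotent I) (P : Type u) [AddCommGroup P] [Module A P]
    [Module (A ⧸ I) P] [IsScalarTower A (A ⧸ I) P] (hP : Module.Projective (A ⧸ I) P) :
    ∃ (Q : Type u) (_ : AddCommGroup Q) (_ : Module A Q) (π : Q →ₗ[A] P),
      Module.Projective A Q ∧ Function.Surjective π ∧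
        ∀ q, π q = 0 ↔ q ∈ I • (⊤ : Submodule A Q) := by
  classical
  obtain ⟨s, hs⟩ := hP.out
  set lc := Finsupp.linearCombination (A ⧸ I) (id : P → P) with hlc
  let e₀ : Module.End (A ⧸ I) (P →₀ A ⧸ I) := s ∘ₗ lc
  have he₀ : IsIdempotentElem e₀ := LinearMap.ext fun x => by
    show s (lc (s (lc x))) = s (lc x)
    rw [hs (lc x)]
  let F : Module.End A (P →₀ A) →+* Module.End (A ⧸ I) (P →₀ A ⧸ I) := redEnd I P
  have hrange : ∃ x, F x = e₀ := by
    choose g hg using fun p : P => redFree_surjective I P (e₀ (Finsupp.single p 1))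
    refine ⟨Finsupp.linearCombination A g, Finsupp.lhom_ext fun p b => ?_⟩
    have h1 : Finsupp.single p (1 : A ⧸ I) = redFree I P (Finsupp.single p 1) := by
      simp [redFree]
    rw [← Finsupp.smul_single_one p b, map_smul, map_smul, h1, redEnd_apply]
    rw [Finsupp.linearCombination_single, one_smul, hg, h1]
  have hnil : ∀ x, F x = 0 → IsNilpotent x := by
    intro x hx
    obtain ⟨n, hn⟩ := hI
    have h1 : ∀ v, x v ∈ I • (⊤ : Submodule A (P →₀ A)) := fun v => by
      rw [← redFree_eq_zero_iff, ← redEnd_apply, show redEnd I P x = 0 from hx, LinearMap.zero_apply]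
    have h2 : ∀ m : ℕ, ∀ v, (x ^ m) v ∈ I ^ m • (⊤ : Submodule A (P →₀ A)) := by
      intro m
      induction m with
      | zero => intro v; simp
      | succ m ih =>
        intro v
        have : (x ^ m) (x v) ∈ (I • (⊤ : Submodule A (P →₀ A))).map (x ^ m) := ⟨_, h1 v, rfl⟩
        rw [Submodule.map_smul''] at this
        rw [pow_succ x, Module.End.mul_apply, pow_succ' I, Submodule.mul_smul]
        refine Submodule.smul_mono le_rfl ?_ this
        rintro _ ⟨w, -, rfl⟩
        exact ih w
    exact ⟨n, LinearMap.ext fun v => by simpa [hn] using h2 n v⟩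
  obtain ⟨e, he, hee⟩ := @exists_isIdempotentElem_eq_of_ker_isNilpotent (Module.End A (P →₀ A)) (Module.End (A ⧸ I) (P →₀ A ⧸ I)) Module.End.instRing Module.End.instRing (redEnd I P) hnil e₀ hrange he₀
  have hered : ∀ v, redFree I P (e v) = s (lc (redFree I P v)) := fun v => by
    rw [← redEnd_apply, hee]; rfl
  have hemem : ∀ q : ↥(LinearMap.range e), e q.1 = q.1 := by
    rintro ⟨q, v, rfl⟩
    exact LinearMap.congr_fun he v
  refine ⟨↥(LinearMap.range e), inferInstance, inferInstance,
    (lc.restrictScalars A) ∘ₗ redFree I P ∘ₗ (LinearMap.range e).subtype, ?_, ?_, ?_⟩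
  · exact Module.Projective.of_split (LinearMap.range e).subtype e.rangeRestrict
      (LinearMap.ext fun q => Subtype.ext (hemem q))
  · intro p
    obtain ⟨v, hv⟩ := redFree_surjective I P (s p)
    refine ⟨⟨e v, v, rfl⟩, ?_⟩
    show lc (redFree I P (e v)) = p
    rw [hered, hs, hv, hs]
  · intro q
    refine ⟨fun h => ?_, fun h => ?_⟩
    · have h0 : redFree I P q.1 = 0 := by
        rw [← hemem q, hered]
        show s (lc _) = 0
        rw [show lc (redFree I P q.1) = 0 from h, map_zero]
      have h1 : e.rangeRestrict q.1 ∈ (I • (⊤ : Submodule A (P →₀ A))).map e.rangeRestrict :=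
        ⟨_, (redFree_eq_zero_iff I _).mp h0, rfl⟩
      rw [Submodule.map_smul''] at h1
      have h2 : e.rangeRestrict q.1 = q := Subtype.ext (hemem q)
      rw [h2] at h1
      exact Submodule.smul_mono le_rfl le_top h1
    · refine Submodule.smul_induction_on h (fun r hr x _ => ?_) fun x y hx hy => by
        rw [map_add, hx, hy, add_zero]
      rw [map_smul, ← algebraMap_smul (A ⧸ I) r, Ideal.Quotient.algebraMap_eq,
        Ideal.Quotient.eq_zero_iff_mem.mpr hr, zero_smul]

/-- Identification of a lift with its reduction. -/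
theorem exists_quot_tensor_equiv {M X : Type u} [AddCommGroup M] [Module A M] [AddCommGroup X]
    [Module A X] [Module (A ⧸ I) X] [IsScalarTower A (A ⧸ I) X] (π : M →ₗ[A] X)
    (hπ : Function.Surjective π) (hker : ∀ m, π m = 0 ↔ m ∈ I • (⊤ : Submodule A M)) :
    ∃ e : (A ⧸ I) ⊗[A] M ≃ₗ[A ⧸ I] X, ∀ m, e (1 ⊗ₜ m) = π m := by
  let φ := π.liftBaseChange (A ⧸ I)
  have h1 : ∀ m, φ (1 ⊗ₜ m) = π m := fun m => by simp [φ]
  refine ⟨LinearEquiv.ofBijective φ ⟨?_, ?_⟩, h1⟩
  · rw [injective_iff_map_eq_zero]
    intro t ht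
    obtain ⟨m, rfl⟩ : ∃ m : M, (1 : A ⧸ I) ⊗ₜ[A] m = t :=
      TensorProduct.mk_surjective A M (A ⧸ I) Ideal.Quotient.mk_surjective t
    rw [h1, hker] at ht
    rw [← (TensorProduct.quotTensorEquivQuotSMul M I).map_eq_zero_iff]
    erw [TensorProduct.quotTensorEquivQuotSMul_mk_tmul]
    rw [one_smul, Submodule.Quotient.mk_eq_zero]
    exact ht
  · intro x
    obtain ⟨m, rfl⟩ := hπ x
    exact ⟨_, h1 m⟩

end Groth.Agent.DeformNL
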