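import Groth.Agent.DeformNL.HilbKappa
import Groth.Prelude.Def_ArtFun3
import Mathlib.LinearAlgebra.Basis.VectorSpace
import Groth.Agent.ArtFunLib.Basic

/-!
# Bases of the kernel of a semismall surjection
-/

set_option autoImplicit false
set_option linter.style.haveILetI false
universe u

open CategoryTheory ArtFun ArtFun.Art

namespace Groth.Agent.DeformNL.SemiGens

variable {k : Type u} [Field k] {B A : Art k k} (p : B ⟶ A)

/-- A basis of the kernel of a semismall surjection, as a family of elements. -/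
structure Gens {r : ℕ} (t : Fin r → B) : Prop where
  span : RingHom.ker p.toAlgHom.toRingHom = Ideal.span (Set.range t)
  indep : LinearIndependent k t

variable {p}

theorem mul_eq_res (hp : IsSemismallExt p) (a : B) {j : B} (hj : j ∈ RingHom.ker p.toAlgHom.toRingHom) :
    a * j = algebraMap k B (B.res a) * j := by
  rw [← sub_eq_zero, ← sub_mul, ← Ideal.mem_bot (R := B), ← hp.2]
  refine Ideal.mul_mem_mul ((B.mem_maximalIdeal_iff _).2 ?_) hj
  rw [map_sub, AlgHom.commutes, Algebra.algebraMap_self, RingHom.id_apply, sub_self]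

theorem eq_sum_res (hp : IsSemismallExt p) {r : ℕ} {t : Fin r → B} (ht : Gens p t) {j : B}
    (hj : j ∈ RingHom.ker p.toAlgHom.toRingHom) :
    ∃ a : Fin r → k, j = ∑ l, algebraMap k B (a l) * t l := by
  rw [ht.span] at hj
  obtain ⟨b, rfl⟩ := Ideal.mem_span_range_iff_exists_fun.1 hj
  exact ⟨fun l => B.res (b l), Finset.sum_congr rfl fun l _ =>
    mul_eq_res hp (b l) (ht.span ▸ Ideal.subset_span ⟨l, rfl⟩)⟩

theorem coeff_eq_zero {r : ℕ} {t : Fin r → B} (ht : Gens p t) {a : Fin r → k}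
    (h : ∑ l, algebraMap k B (a l) * t l = 0) : a = 0 := by
  funext l
  refine Fintype.linearIndependent_iff.1 ht.indep a ?_ l
  rw [← h]
  exact Finset.sum_congr rfl fun l _ => Algebra.smul_def _ _

/-- The maximal ideal of an object is finite dimensional. -/
instance finite_obj (B : Art k k) : Module.Finite k B :=
  @Module.IsNoetherian.finite k B _ _ _ (ArtFunLib.isNoetherian_base B)

instance finite_ker (p : B ⟶ A) : Module.Finite k ↥(RingHom.ker p.toAlgHom) :=
  inferInstanceAs (Module.Finite k ↥((RingHom.ker p.toAlgHom).restrictScalars k))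

/-- The chosen basis. -/
noncomputable def basis (p : B ⟶ A) :
    Module.Basis (Fin (Module.finrank k ↥(RingHom.ker p.toAlgHom))) k ↥(RingHom.ker p.toAlgHom) :=
  Module.finBasis k _

theorem gens_basis (p : B ⟶ A) : Gens p fun l => (basis p l : B) := by
  refine ⟨le_antisymm (fun j hj => ?_) (Ideal.span_le.2 (Set.range_subset_iff.2 fun l => (basis p l).2)), ?_⟩
  · have h := (basis p).sum_repr ⟨j, hj⟩
    have h2 := congrArg (fun z : ↥(RingHom.ker p.toAlgHom) => (z : B)) h
    simp only at h2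
    rw [← h2, AddSubmonoidClass.coe_finsetSum]
    refine sum_mem fun l _ => ?_
    show (basis p).repr ⟨j, hj⟩ l • (basis p l : B) ∈ _
    rw [Algebra.smul_def]
    exact Ideal.mul_mem_left _ _ (Ideal.subset_span ⟨l, rfl⟩)
  · have h := (basis p).linearIndependent
    exact h.map' ((RingHom.ker p.toAlgHom).restrictScalars k).subtype (Submodule.ker_subtype _)

section Cut

variable (hp : IsSemismallExt p) {r : ℕ} {t : Fin r → B} (ht : Gens p t) (S : Finset (Fin r))

/-- The parameters not in `S`. -/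
noncomputable def cutI (t : Fin r → B) : Ideal B := Ideal.span (t '' (↑S : Set (Fin r))ᶜ)

include ht in
theorem cutI_le : cutI S t ≤ RingHom.ker p.toAlgHom.toRingHom := by
  rw [ht.span]
  exact Ideal.span_mono (Set.image_subset_range _ _)

include ht in
theorem cutI_le_max : cutI S t ≤ IsLocalRing.maximalIdeal B := fun _ hj =>
  ArtFunLib.ker_le_maximalIdeal p (cutI_le ht S hj)

include hp ht in
theorem mem_cutI_iff (a : Fin r → k) : ∑ l, algebraMap k B (a l) * t l ∈ cutI S t ↔ ∀ l ∈ S, a l = 0 := by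
  classical
  constructor
  · intro h
    rw [cutI, show (t '' (↑S : Set (Fin r))ᶜ) = Set.range (fun l : {l // l ∉ S} => t l) by ext; simp] at h
    obtain ⟨b, hb⟩ := Ideal.mem_span_range_iff_exists_fun.1 h
    let a' : Fin r → k := fun l => if hl : l ∉ S then B.res (b ⟨l, hl⟩) else 0
    have e : ∑ l, algebraMap k B ((a - a') l) * t l = 0 := by
      simp only [Pi.sub_apply, map_sub, sub_mul, Finset.sum_sub_distrib, sub_eq_zero]
      rw [← hb]
      refine (Finset.sum_congr rfl fun l _ => mul_eq_res hp (b l) (ht.span ▸ Ideal.subset_span ⟨l.1, rfl⟩)).trans ?_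
      refine ((Finset.sum_subtype (Finset.univ.filter fun l => l ∉ S) (p := fun l => l ∉ S) (by simp)
        (fun l => algebraMap k B (a' l) * t l)).trans (Finset.sum_congr rfl fun l _ => by simp [a', l.2])).symm.trans ?_
      exact Finset.sum_subset (Finset.filter_subset _ _) fun l _ hl => by
        simp at hl; simp [a', hl]
    intro l hl
    have := congrFun (coeff_eq_zero ht e) l
    simpa [a', hl] using this
  · intro h
    refine sum_mem fun l _ => ?_
    by_cases hl : l ∈ S
    · simp [h l hl]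
    · exact Ideal.mul_mem_left _ _ (Ideal.subset_span ⟨l, hl, rfl⟩)

/-- The quotient keeping the parameters in `S`. -/
noncomputable def cut : Art k k := quot B (cutI S t) (cutI_le_max ht S)

/-- The projection onto it. -/
noncomputable def cutQ : B ⟶ cut ht S := quotMk B (cutI S t) (cutI_le_max ht S)

/-- Its map to `A`. -/
noncomputable def cutP : cut ht S ⟶ A := quotFactor (cutI_le_max ht S) p (cutI_le ht S)

theorem cutQ_cutP : cutQ ht S ≫ cutP ht S = p := quotMk_quotFactor _ _ _

theorem cutQ_surjective : Function.Surjective (cutQ ht S) := quotMk_surjective _ _ _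

include hp in
theorem cutQ_eq_zero_iff (a : Fin r → k) :
    cutQ ht S (∑ l, algebraMap k B (a l) * t l) = 0 ↔ ∀ l ∈ S, a l = 0 := by
  rw [← mem_cutI_iff hp ht S a]
  exact Ideal.Quotient.eq_zero_iff_mem

include hp in
theorem isSemismall_cut : IsSemismallExt (cutP ht S) := by
  refine ⟨fun a => ?_, le_bot_iff.1 (Ideal.mul_le.2 fun m hm j hj => ?_)⟩
  · obtain ⟨b, hb⟩ := hp.1 a
    exact ⟨cutQ ht S b, by rw [← hb]; rfl⟩
  · obtain ⟨m, rfl⟩ := cutQ_surjective ht S m
    obtain ⟨j, rfl⟩ := cutQ_surjective ht S j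
    have hj' : j ∈ RingHom.ker p.toAlgHom := hj
    have hm' : m ∈ IsLocalRing.maximalIdeal B := by
      refine (B.mem_maximalIdeal_iff m).2 ?_
      have := ((cut ht S).mem_maximalIdeal_iff _).1 hm
      rwa [Art.res_app] at this
    rw [Ideal.mem_bot, ← map_mul (cutQ ht S).toAlgHom]
    have h0 : m * j = 0 := by rw [← Ideal.mem_bot, ← hp.2]; exact Ideal.mul_mem_mul hm' hj'
    show (cutQ ht S).toAlgHom (m * j) = 0
    rw [h0, map_zero]

include hp in
/-- Keeping one parameter gives a small extension. -/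
theorem gens_cut_single (l : Fin r) :
    Gens (cutP ht {l}) (fun _ : Fin 1 => cutQ ht {l} (t l)) ∧ IsSmallExt (cutP ht {l}) := by
  classical
  have hne : cutQ ht {l} (t l) ≠ 0 := fun h => by
    have := (cutQ_eq_zero_iff hp ht {l} (Pi.single l 1)).1 ?_ l (Finset.mem_singleton_self l)
    · simp at this
    · rw [← h]
      congr 1
      rw [Finset.sum_eq_single l (fun m _ hm => by simp [hm]) (by simp)]
      simp
  have hk : RingHom.ker (cutP ht {l}).toAlgHom.toRingHom = Ideal.span {cutQ ht {l} (t l)} := by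
    refine le_antisymm (fun b hb => ?_) ((Ideal.span_singleton_le_iff_mem _).2 ?_)
    · obtain ⟨b, rfl⟩ := cutQ_surjective ht {l} b
      obtain ⟨a, rfl⟩ := eq_sum_res hp ht (hb : b ∈ RingHom.ker p.toAlgHom.toRingHom)
      refine Ideal.mem_span_singleton'.2 ⟨cutQ ht {l} (algebraMap k B (a l)), ?_⟩
      show (cutQ ht {l}).toAlgHom _ * (cutQ ht {l}).toAlgHom _ = (cutQ ht {l}).toAlgHom _
      rw [← map_mul, ← sub_eq_zero, ← map_sub]
      have e : algebraMap k B (a l) * t l - ∑ m, algebraMap k B (a m) * t m =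
          ∑ m, algebraMap k B ((Pi.single l (a l) - a : Fin r → k) m) * t m := by
        simp only [Pi.sub_apply, map_sub, sub_mul, Finset.sum_sub_distrib]
        congr 1
        rw [Finset.sum_eq_single l (fun m _ hm => by simp [hm]) (by simp)]
        simp
      rw [e]
      exact (cutQ_eq_zero_iff hp ht {l} _).2 fun m hm => by
        rw [Finset.mem_singleton.1 hm]; simp
    · exact (ht.span ▸ Ideal.subset_span ⟨l, rfl⟩ : t l ∈ RingHom.ker p.toAlgHom.toRingHom)
  refine ⟨⟨by rw [hk, Set.range_const], LinearIndependent.of_subsingleton 0 hne⟩, (isSemismall_cut hp ht {l}).1, ?_, ⟨_, hk⟩, ?_⟩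
  · intro h
    exact hne ((Submodule.mem_bot _).1 (h ▸ hk.ge (Ideal.mem_span_singleton_self _) : _ ∈ (⊥ : Ideal (cut ht {l}))))
  · exact (isSemismall_cut hp ht {l}).2

/-- The projection between two quotients. -/
noncomputable def cutMap {S T : Finset (Fin r)} (h : S ⊆ T) : cut ht T ⟶ cut ht S :=
  quotFactor (cutI_le_max ht T) (cutQ ht S) fun b hb => by
    rw [RingHom.mem_ker]
    exact Ideal.Quotient.eq_zero_iff_mem.2
      (Ideal.span_mono (Set.image_mono (Set.compl_subset_compl.2 (Finset.coe_subset.2 h))) hb)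

theorem cutMap_apply {S T : Finset (Fin r)} (h : S ⊆ T) (b : B) : cutMap ht h (cutQ ht T b) = cutQ ht S b := rfl

theorem cutP_cutQ (S : Finset (Fin r)) (b : B) : (cutP ht S).toAlgHom ((cutQ ht S).toAlgHom b) = p.toAlgHom b :=
  congrArg (fun q : B ⟶ A => q.toAlgHom b) (cutQ_cutP ht S)

theorem cutMap_cutP {S T : Finset (Fin r)} (h : S ⊆ T) : cutMap ht h ≫ cutP ht S = cutP ht T := by
  refine hom_ext (AlgHom.ext fun b => ?_)
  obtain ⟨b, rfl⟩ := cutQ_surjective ht T b
  show (cutP ht S).toAlgHom ((cutMap ht h).toAlgHom ((cutQ ht T).toAlgHom b)) =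
    (cutP ht T).toAlgHom ((cutQ ht T).toAlgHom b)
  rw [show (cutMap ht h).toAlgHom ((cutQ ht T).toAlgHom b) = (cutQ ht S).toAlgHom b from cutMap_apply ht h b,
    cutP_cutQ, cutP_cutQ]

include hp in
theorem cut_inj {S T : Finset (Fin r)} (b₁ b₂ : B) (hA : p.toAlgHom b₁ = p.toAlgHom b₂)
    (h₁ : cutQ ht S b₁ = cutQ ht S b₂) (h₂ : cutQ ht T b₁ = cutQ ht T b₂) :
    cutQ ht (S ∪ T) b₁ = cutQ ht (S ∪ T) b₂ := by
  have hk : p.toAlgHom (b₁ - b₂) = 0 := by rw [map_sub, hA, sub_self]
  obtain ⟨a, ha⟩ := eq_sum_res hp ht (hk : b₁ - b₂ ∈ RingHom.ker p.toAlgHom.toRingHom)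
  have hz : ∀ {S' : Finset (Fin r)}, cutQ ht S' b₁ = cutQ ht S' b₂ → ∀ l ∈ S', a l = 0 := fun {S'} h =>
    (cutQ_eq_zero_iff hp ht S' a).1 (by
      rw [← ha]; exact ((cutQ ht S').toAlgHom.map_sub b₁ b₂).trans (sub_eq_zero.2 h))
  refine sub_eq_zero.1 (((cutQ ht (S ∪ T)).toAlgHom.map_sub b₁ b₂).symm.trans ?_)
  rw [ha]
  exact (cutQ_eq_zero_iff hp ht (S ∪ T) a).2 fun l hl =>
    (Finset.mem_union.1 hl).elim (hz h₁ l) (hz h₂ l)

include hp in
theorem cut_surj {S T : Finset (Fin r)} (hd : Disjoint S T) (b₁ b₂ : B) (hA : p.toAlgHom b₁ = p.toAlgHom b₂) :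
    ∃ b : B, cutQ ht S b = cutQ ht S b₁ ∧ cutQ ht T b = cutQ ht T b₂ := by
  classical
  have hk : p.toAlgHom (b₂ - b₁) = 0 := by rw [map_sub, hA, sub_self]
  obtain ⟨a, ha⟩ := eq_sum_res hp ht (hk : b₂ - b₁ ∈ RingHom.ker p.toAlgHom.toRingHom)
  let a' : Fin r → k := fun l => if l ∈ S then 0 else a l
  refine ⟨b₁ + ∑ l, algebraMap k B (a' l) * t l, ?_, ?_⟩
  · refine ((cutQ ht S).toAlgHom.map_add _ _).trans (add_eq_left.2 ?_)
    exact (cutQ_eq_zero_iff hp ht S a').2 fun l hl => if_pos hl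
  · refine sub_eq_zero.1 (((cutQ ht T).toAlgHom.map_sub _ _).symm.trans ?_)
    rw [show b₁ + ∑ l, algebraMap k B (a' l) * t l - b₂ = ∑ l, algebraMap k B ((a' - a) l) * t l by
      simp only [Pi.sub_apply, map_sub, sub_mul, Finset.sum_sub_distrib, ← ha]; ring]
    exact (cutQ_eq_zero_iff hp ht T _).2 fun l hl => by
      simp [a', Finset.disjoint_right.1 hd hl]

include hp in
/-- Disjoint sets of parameters give a fibre product. -/
theorem isFibreProd_cut {S T : Finset (Fin r)} (hd : Disjoint S T) :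
    IsFibreProd (cutMap ht (Finset.subset_union_left : S ⊆ S ∪ T)) (cutMap ht (Finset.subset_union_right : T ⊆ S ∪ T))
      (cutP ht S) (cutP ht T) where
  w := (cutMap_cutP ht _).trans (cutMap_cutP ht _).symm
  inj b₁ b₂ h₁ h₂ := by
    obtain ⟨b₁, rfl⟩ := cutQ_surjective ht (S ∪ T) b₁
    obtain ⟨b₂, rfl⟩ := cutQ_surjective ht (S ∪ T) b₂
    rw [cutMap_apply, cutMap_apply] at h₁ h₂
    exact cut_inj hp ht b₁ b₂ (congrArg (cutP ht S) h₁) h₁ h₂
  surj a' a'' h := by
    obtain ⟨b₁, rfl⟩ := cutQ_surjective ht S a'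
    obtain ⟨b₂, rfl⟩ := cutQ_surjective ht T a''
    obtain ⟨b, hb₁, hb₂⟩ := cut_surj hp ht hd b₁ b₂ h
    exact ⟨cutQ ht (S ∪ T) b, (cutMap_apply ht _ b).trans hb₁, (cutMap_apply ht _ b).trans hb₂⟩

end Cut

end Groth.Agent.DeformNL.SemiGens
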