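import Groth.Agent.DeformNL.LocSplit
import Groth.Agent.SheafHomX.Main

/-!
# The class in `H¹` of a locally split extension
-/

set_option autoImplicit false
set_option linter.style.haveILetI false
set_option backward.isDefEq.respectTransparency false
universe u w v v'

open CategoryTheory CategoryTheory.Limits AlgebraicGeometry Opposite CategoryTheory.Abelian

namespace Groth.Agent.DeformNL.SplitClass

open Groth.Agent

section Abstract

variable {D : Type w} [Category.{v} D] [Abelian D] {C : Type v'} [Category.{u} C] [Abelian C] [HasExt.{u} C]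
  (G : D ⥤ C) [G.PreservesZeroMorphisms]

/-- The connecting map of the image of a sequence. -/
noncomputable def conn {N E M : D} (f : N ⟶ E) (g : E ⟶ M) (z : f ≫ g = 0)
    (h : ((ShortComplex.mk f g z).map G).ShortExact) {A : C} (x : Ext.{u} A (G.obj M) 0) :
    Ext.{u} A (G.obj N) 1 :=
  x.comp h.extClass (zero_add 1)

theorem conn_eq_zero_iff {N E M : D} (f : N ⟶ E) (g : E ⟶ M) (z : f ≫ g = 0)
    (h : ((ShortComplex.mk f g z).map G).ShortExact) {A : C} (x : Ext.{u} A (G.obj M) 0) :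
    conn G f g z h x = 0 ↔ ∃ y : Ext.{u} A (G.obj E) 0, y.comp (Ext.mk₀ (G.map g)) (zero_add 0) = x := by
  constructor
  · exact fun hx => Ext.covariant_sequence_exact₃ _ h x (zero_add 1) hx
  · rintro ⟨y, hy⟩
    have hc : (Ext.mk₀ (G.map g)).comp h.extClass (zero_add 1) = 0 := h.comp_extClass
    rw [conn, ← hy, Ext.comp_assoc_of_second_deg_zero]
    exact (congrArg (fun e => y.comp e (zero_add 1)) hc).trans (Ext.comp_zero _ _ _ _ _)

theorem conn_map {N E M N' E' : D} (f : N ⟶ E) (g : E ⟶ M) (z : f ≫ g = 0)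
    (h : ((ShortComplex.mk f g z).map G).ShortExact) (f' : N' ⟶ E') (g' : E' ⟶ M) (z' : f' ≫ g' = 0)
    (h' : ((ShortComplex.mk f' g' z').map G).ShortExact) (a : N ⟶ N') (b : E ⟶ E') (hf : a ≫ f' = f ≫ b)
    (hg : b ≫ g' = g) {A : C} (x : Ext.{u} A (G.obj M) 0) :
    (conn G f g z h x).comp (Ext.mk₀ (G.map a)) (add_zero 1) = conn G f' g' z' h' x := by
  let φ : (ShortComplex.mk f g z).map G ⟶ (ShortComplex.mk f' g' z').map G :=
    { τ₁ := G.map a, τ₂ := G.map b, τ₃ := 𝟙 (G.obj M)
      comm₁₂ := (G.map_comp a f').symm.trans ((congrArg G.map hf).trans (G.map_comp f b))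
      comm₂₃ := ((G.map_comp b g').symm.trans (congrArg G.map hg)).trans (Category.comp_id (G.map g)).symm }
  have hn : h.extClass.comp (Ext.mk₀ (G.map a)) (add_zero 1) =
      (Ext.mk₀ (𝟙 (G.obj M))).comp h'.extClass (zero_add 1) := ShortComplex.ShortExact.extClass_naturality h h' φ
  rw [conn, conn, Ext.comp_assoc_of_third_deg_zero, hn]
  exact congrArg (fun e => x.comp e (zero_add 1)) (Ext.mk₀_id_comp _)

end Abstract

variable {X : Scheme.{u}}

/-- `hom(M, -)` as abelian sheaves. -/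
noncomputable abbrev homAb (M : X.Modules) := SheafHomX.hom M ⋙ QCoh.toAbFunctor X

theorem shortExact_homAb {N E M : X.Modules} (f : N ⟶ E) (g : E ⟶ M) (z : f ≫ g = 0)
    (hS : (ShortComplex.mk f g z).ShortExact) (hl : LocSplit.LocallySplit g) :
    ((ShortComplex.mk f g z).map (homAb M)).ShortExact :=
  QCoh.toAb_shortExact (LocSplit.shortExact_hom hS hl M)

theorem mapH {F F' : X.Modules} (q : F ⟶ F') (n : ℕ) (z : Coh.HH X F n) :
    Sheaf.H.map ((SheafOfModules.toSheaf _).map q) n z =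
      Ext.comp z (Ext.mk₀ ((QCoh.toAbFunctor X).map q)) (add_zero n) := rfl

/-- The class of a locally split extension of `M` by `N`. -/
noncomputable def delta {N E M : X.Modules} (f : N ⟶ E) (g : E ⟶ M) (z : f ≫ g = 0)
    (hS : (ShortComplex.mk f g z).ShortExact) (hl : LocSplit.LocallySplit g) :
    Coh.HH X ((SheafHomX.hom M).obj N) 1 :=
  conn (homAb M) f g z (shortExact_homAb f g z hS hl) (SheafHomX.cls ((SheafHomX.ev M M).symm (𝟙 M)))

theorem delta_eq_zero_iff {N E M : X.Modules} (f : N ⟶ E) (g : E ⟶ M) (z : f ≫ g = 0)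
    (hS : (ShortComplex.mk f g z).ShortExact) (hl : LocSplit.LocallySplit g) :
    delta f g z hS hl = 0 ↔ ∃ s : M ⟶ E, s ≫ g = 𝟙 _ := by
  refine (conn_eq_zero_iff (homAb M) f g z (shortExact_homAb f g z hS hl) _).trans ⟨?_, ?_⟩
  · rintro ⟨y, hy⟩
    obtain ⟨y', rfl⟩ := SheafHomX.cls_surjective (F := (SheafHomX.hom M).obj E) y
    refine ⟨SheafHomX.ev _ _ y', ?_⟩
    have h2 : SheafHomX.cls (y' ≫ (SheafHomX.hom M).map g) = SheafHomX.cls ((SheafHomX.ev M M).symm (𝟙 M)) :=
      (SheafHomX.map_cls y' _).symm.trans ((mapH _ 0 _).trans hy)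
    rw [← SheafHomX.ev_naturality, SheafHomX.cls_injective h2, AddEquiv.apply_symm_apply]
  · rintro ⟨s, hs⟩
    refine ⟨SheafHomX.cls ((SheafHomX.ev M E).symm s), (mapH _ 0 _).symm.trans ((SheafHomX.map_cls _ _).trans ?_)⟩
    refine congrArg SheafHomX.cls ((SheafHomX.ev M M).injective ?_)
    rw [SheafHomX.ev_naturality, AddEquiv.apply_symm_apply, AddEquiv.apply_symm_apply, hs]

/-- A map of extensions of the same module carries one class to the other. -/
theorem delta_map {N E M N' E' : X.Modules} (f : N ⟶ E) (g : E ⟶ M) (z : f ≫ g = 0)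
    (hS : (ShortComplex.mk f g z).ShortExact) (hl : LocSplit.LocallySplit g) (f' : N' ⟶ E') (g' : E' ⟶ M)
    (z' : f' ≫ g' = 0) (hS' : (ShortComplex.mk f' g' z').ShortExact) (hl' : LocSplit.LocallySplit g')
    (a : N ⟶ N') (b : E ⟶ E') (hf : a ≫ f' = f ≫ b) (hg : b ≫ g' = g) :
    Sheaf.H.map ((SheafOfModules.toSheaf _).map ((SheafHomX.hom M).map a)) 1 (delta f g z hS hl) =
      delta f' g' z' hS' hl' :=
  (mapH _ 1 _).trans (conn_map (homAb M) f g z (shortExact_homAb f g z hS hl) f' g' z'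
    (shortExact_homAb f' g' z' hS' hl') a b hf hg _)

end Groth.Agent.DeformNL.SplitClass
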