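import Groth.Agent.DeformNL.SplitClass
import Groth.Agent.DeformNL.HilbExt
import Groth.Agent.AmpleVan.ThickPush

/-!
# Classes of locally split extensions by a direct image
-/

set_option autoImplicit false
set_option linter.style.haveILetI false
set_option backward.isDefEq.respectTransparency false
universe u

open CategoryTheory CategoryTheory.Limits AlgebraicGeometry Opposite

namespace Groth.Agent.DeformNL.SplitClassPull

open Groth.Agent

variable {X Z : Scheme.{u}} (i : Z ⟶ X)

theorem locallySplit_map {E M : X.Modules} {g : E ⟶ M} (hl : LocSplit.LocallySplit g) :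
    LocSplit.LocallySplit ((Scheme.Modules.pullback i).map g) := fun y => by
  obtain ⟨U, hU, s, hs⟩ := hl (i y)
  let η := HilbExt.restrictPullIso i U
  refine ⟨i ⁻¹ᵁ U, hU, η.hom.app M ≫ (Scheme.Modules.pullback (i ∣_ U)).map s ≫ η.inv.app E, ?_⟩
  rw [Category.assoc, Category.assoc, show η.inv.app E ≫ (Scheme.Modules.restrictFunctor (i ⁻¹ᵁ U).ι).map
      ((Scheme.Modules.pullback i).map g) = (Scheme.Modules.pullback (i ∣_ U)).map
        ((Scheme.Modules.restrictFunctor U.ι).map g) ≫ η.inv.app M from (η.inv.naturality g).symm,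
    ← Category.assoc ((Scheme.Modules.pullback _).map s), ← Functor.map_comp, hs, CategoryTheory.Functor.map_id,
    Category.id_comp]
  exact η.hom_inv_id_app M

variable {N E M : X.Modules} (f : N ⟶ E) (g : E ⟶ M) (z : f ≫ g = 0)

theorem mapZ {f : N ⟶ E} {g : E ⟶ M} (z : f ≫ g = 0) :
    (Scheme.Modules.pullback i).map f ≫ (Scheme.Modules.pullback i).map g = 0 := by
  rw [← Functor.map_comp, z, Functor.map_zero]

theorem exists_retraction_on (hS : (ShortComplex.mk f g z).ShortExact) {U : X.Opens}
    (hs : ∃ s, s ≫ (Scheme.Modules.restrictFunctor U.ι).map g = 𝟙 _) :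
    ∃ r, (Scheme.Modules.restrictFunctor U.ι).map f ≫ r = 𝟙 _ := by
  obtain ⟨s, hs⟩ := hs
  have hR := hS.map_of_exact (Scheme.Modules.restrictFunctor U.ι)
  exact ⟨_, (ShortComplex.Splitting.ofExactOfSection _ hR.exact s hs hR.mono_f).f_r⟩

theorem mono_map (hS : (ShortComplex.mk f g z).ShortExact) (hl : LocSplit.LocallySplit g) :
    Mono ((Scheme.Modules.pullback i).map f) := by
  refine Preadditive.mono_of_cancel_zero _ fun {W} t ht => ?_
  refine SheafHomX.eq_zero_of_restrict (fun y : Z => (i ⁻¹ᵁ (hl (i y)).choose).ι)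
    (fun y => ⟨y, ⟨⟨y, (hl (i y)).choose_spec.1⟩, rfl⟩⟩) _ fun y => ?_
  obtain ⟨r, hr⟩ := exists_retraction_on f g z hS (hl (i y)).choose_spec.2
  let η := HilbExt.restrictPullIso i (hl (i y)).choose
  have key : (Scheme.Modules.restrictFunctor (i ⁻¹ᵁ (hl (i y)).choose).ι).map ((Scheme.Modules.pullback i).map f) ≫
      η.hom.app E ≫ (Scheme.Modules.pullback (i ∣_ (hl (i y)).choose)).map r = η.hom.app N := by
    rw [← Category.assoc, show (Scheme.Modules.restrictFunctor (i ⁻¹ᵁ (hl (i y)).choose).ι).map
      ((Scheme.Modules.pullback i).map f) ≫ η.hom.app E = η.hom.app N ≫ (Scheme.Modules.pullback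
        (i ∣_ (hl (i y)).choose)).map ((Scheme.Modules.restrictFunctor (hl (i y)).choose.ι).map f) from η.hom.naturality f,
      Category.assoc, ← Functor.map_comp, hr, CategoryTheory.Functor.map_id]
    exact Category.comp_id _
  rw [← cancel_mono (η.hom.app N), zero_comp]
  conv_lhs => rw [← key]
  rw [← Category.assoc, ← Functor.map_comp, ht, Functor.map_zero, zero_comp]

theorem shortExact_map (hS : (ShortComplex.mk f g z).ShortExact) (hl : LocSplit.LocallySplit g) :
    (ShortComplex.mk _ _ (mapZ i z)).ShortExact := by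
  let F := Scheme.Modules.pullback i
  haveI : PreservesColimitsOfSize.{0, 0} F :=
    (Scheme.Modules.pullbackPushforwardAdjunction i).leftAdjoint_preservesColimits
  haveI : PreservesFiniteColimits F := ⟨fun _ => inferInstance⟩
  haveI : Epi g := hS.epi_g
  haveI : Mono (ShortComplex.mk _ _ (mapZ i z)).f := mono_map i f g z hS hl
  haveI : Epi (ShortComplex.mk _ _ (mapZ i z)).g := F.map_epi g
  exact { exact := hS.exact.map_of_epi_of_preservesCokernel F inferInstance inferInstance }

variable {N₀ : Z.Modules}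

/-- The comparison from the inverse image of a direct image. -/
noncomputable def down (e : N ≅ (Scheme.Modules.pushforward i).obj N₀) : (Scheme.Modules.pullback i).obj N ⟶ N₀ :=
  (Scheme.Modules.pullback i).map e.hom ≫ (Scheme.Modules.pullbackPushforwardAdjunction i).counit.app N₀

theorem isIso_down [IsClosedImmersion i] (hN₀ : Coh.IsQCoh N₀) (e : N ≅ (Scheme.Modules.pushforward i).obj N₀) :
    IsIso (down i e) := by
  haveI := AmpleVan.isIso_counit i hN₀
  rw [down]; infer_instance

/-- The class on `Z` of an extension by a direct image. -/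
noncomputable def cl (hS : (ShortComplex.mk f g z).ShortExact) (hl : LocSplit.LocallySplit g)
    (e : N ≅ (Scheme.Modules.pushforward i).obj N₀) :
    Coh.HH Z ((SheafHomX.hom ((Scheme.Modules.pullback i).obj M)).obj N₀) 1 :=
  Sheaf.H.map ((SheafOfModules.toSheaf _).map ((SheafHomX.hom ((Scheme.Modules.pullback i).obj M)).map (down i e))) 1
    (SplitClass.delta _ _ (mapZ i z) (shortExact_map i f g z hS hl) (locallySplit_map i hl))

theorem cl_eq_zero_iff [IsClosedImmersion i] (hN₀ : Coh.IsQCoh N₀) (hS : (ShortComplex.mk f g z).ShortExact)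
    (hl : LocSplit.LocallySplit g) (e : N ≅ (Scheme.Modules.pushforward i).obj N₀) :
    cl i f g z hS hl e = 0 ↔ ∃ s : M ⟶ E, s ≫ g = 𝟙 _ := by
  haveI := isIso_down i hN₀ e
  have hinj : cl i f g z hS hl e = 0 ↔
      SplitClass.delta _ _ (mapZ i z) (shortExact_map i f g z hS hl) (locallySplit_map i hl) = 0 := by
    refine ⟨fun h => ?_, fun h => by rw [cl, h, map_zero]⟩
    have h1 := congrArg (Sheaf.H.map ((SheafOfModules.toSheaf _).map
      ((SheafHomX.hom ((Scheme.Modules.pullback i).obj M)).map (inv (down i e)))) 1) h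
    rw [map_zero, cl, ← Sheaf.H.map_comp_apply, ← Functor.map_comp, ← Functor.map_comp, IsIso.hom_inv_id,
      CategoryTheory.Functor.map_id, CategoryTheory.Functor.map_id, Sheaf.H.map_id_apply] at h1
    exact h1
  rw [hinj, SplitClass.delta_eq_zero_iff]
  refine ⟨?_, fun ⟨s, hs⟩ => ⟨(Scheme.Modules.pullback i).map s, by
    rw [← Functor.map_comp, hs, CategoryTheory.Functor.map_id]⟩⟩
  rintro ⟨s, hs⟩
  have hT := shortExact_map i f g z hS hl
  let sp := ShortComplex.Splitting.ofExactOfSection _ hT.exact s hs hT.mono_f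
  let adj := Scheme.Modules.pullbackPushforwardAdjunction i
  let r : E ⟶ N := adj.homEquiv _ _ (sp.r ≫ down i e) ≫ e.inv
  have hr : f ≫ r = 𝟙 _ := by
    rw [← Category.assoc, ← Adjunction.homEquiv_naturality_left, ← Category.assoc,
      show (Scheme.Modules.pullback i).map f ≫ sp.r = 𝟙 _ from sp.f_r, Category.id_comp, down,
      Adjunction.homEquiv_naturality_left, Adjunction.homEquiv_unit]
    erw [adj.right_triangle_components]
    rw [Category.comp_id, Iso.hom_inv_id]
  haveI : Mono (ShortComplex.mk f g z).f := hS.mono_f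
  let sp' := ShortComplex.Splitting.ofExactOfRetraction _ hS.exact r hr hS.epi_g
  exact ⟨sp'.s, sp'.s_g⟩

variable {N' E' : X.Modules} (f' : N' ⟶ E') (g' : E' ⟶ M) (z' : f' ≫ g' = 0) {N₀' : Z.Modules}

/-- Naturality of the class. -/
theorem cl_map (hS : (ShortComplex.mk f g z).ShortExact) (hl : LocSplit.LocallySplit g)
    (e : N ≅ (Scheme.Modules.pushforward i).obj N₀) (hS' : (ShortComplex.mk f' g' z').ShortExact)
    (hl' : LocSplit.LocallySplit g') (e' : N' ≅ (Scheme.Modules.pushforward i).obj N₀')
    (a₀ : N₀ ⟶ N₀') (a : N ⟶ N') (b : E ⟶ E') (ha : a ≫ e'.hom = e.hom ≫ (Scheme.Modules.pushforward i).map a₀)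
    (hf : a ≫ f' = f ≫ b) (hg : b ≫ g' = g) :
    Sheaf.H.map ((SheafOfModules.toSheaf _).map ((SheafHomX.hom ((Scheme.Modules.pullback i).obj M)).map a₀)) 1
      (cl i f g z hS hl e) = cl i f' g' z' hS' hl' e' := by
  let F := Scheme.Modules.pullback i
  have hdown : down i e ≫ a₀ = F.map a ≫ down i e' := by
    rw [down, down, Category.assoc, ← Category.assoc (F.map a), ← Functor.map_comp, ha, Functor.map_comp,
      Category.assoc]
    exact congrArg (F.map e.hom ≫ ·) ((Scheme.Modules.pullbackPushforwardAdjunction i).counit.naturality a₀).symm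
  rw [cl, cl, ← Sheaf.H.map_comp_apply, ← Functor.map_comp, ← Functor.map_comp, hdown, Functor.map_comp,
    Functor.map_comp, Sheaf.H.map_comp_apply]
  exact congrArg _ (SplitClass.delta_map _ _ (mapZ i z) (shortExact_map i f g z hS hl) (locallySplit_map i hl) _ _
    (mapZ i z') (shortExact_map i f' g' z' hS' hl') (locallySplit_map i hl') (F.map a) (F.map b)
    (by rw [← Functor.map_comp, hf, Functor.map_comp]) (by rw [← Functor.map_comp, hg]))

end Groth.Agent.DeformNL.SplitClassPull
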