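import Groth.Agent.DeformNL.HullBounds
import Groth.Agent.ArtFunLib.Hull.Prorep
import Groth.Agent.ArtFunLib.ObsHR
import Groth.Agent.PSLib.Basic
import Mathlib.RingTheory.MvPowerSeries.Derivative

/-!
The T1 lifting criterion in characteristic zero for pro-representable functors.
-/

set_option autoImplicit false

universe u v

open CategoryTheory IsLocalRing

namespace Groth.Agent.DeformNL.T1Smooth

open ArtFun ArtFun.Art Groth.Agent.ArtFunLib

variable {k : Type u} [Field k]

/-- The dual numbers over an object. -/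
noncomputable def dualObj (A : Art k k) : Art k k :=
  { carrier := DualNumber A.carrier
    isLocalRing := IsLocalRing.of_isUnit_or_isUnit_one_sub_self fun a => by
      rcases IsLocalRing.isUnit_or_isUnit_one_sub_self a.fst with h | h
      · exact Or.inl (TrivSqZeroExt.isUnit_iff_isUnit_fst.2 h)
      · exact Or.inr (TrivSqZeroExt.isUnit_iff_isUnit_fst.2 (by simpa using h))
    isArtinianRing :=
      haveI : Module.Finite A.carrier (DualNumber A.carrier) :=
        inferInstanceAs (Module.Finite A.carrier (A.carrier × A.carrier))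
      IsArtinianRing.of_finite A.carrier _
    res := A.res.comp (TrivSqZeroExt.fstHom k A.carrier A.carrier)
    res_surjective := fun c => (A.res_surjective c).elim fun a ha => ⟨TrivSqZeroExt.inl a, ha⟩ }

/-- The projection. -/
noncomputable def dualFst (A : Art k k) : dualObj A ⟶ A :=
  Art.homMk (TrivSqZeroExt.fstHom k A.carrier A.carrier) rfl

/-- The zero section. -/
noncomputable def dualInl (A : Art k k) : A ⟶ dualObj A :=
  Art.homMk (TrivSqZeroExt.inlAlgHom k A.carrier A.carrier) (AlgHom.ext fun _ => rfl)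

/-- The ideal of the elements `bε` with `b ∈ I`. -/
def epsIdeal (A : Art k k) (I : Ideal A.carrier) : Ideal (dualObj A).carrier :=
  let S : Ideal (DualNumber A.carrier) :=
    { carrier := {x | x.fst = 0 ∧ x.snd ∈ I}
      add_mem' := fun {a b} ha hb => ⟨by rw [TrivSqZeroExt.fst_add, ha.1, hb.1, add_zero],
        by rw [TrivSqZeroExt.snd_add]; exact I.add_mem ha.2 hb.2⟩
      zero_mem' := ⟨rfl, I.zero_mem⟩
      smul_mem' := fun c x hx => ⟨by rw [smul_eq_mul, TrivSqZeroExt.fst_mul, hx.1, mul_zero], by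
        rw [smul_eq_mul, TrivSqZeroExt.snd_mul, hx.1]
        simpa using I.mul_mem_left c.fst hx.2⟩ }
  S

theorem dual_mul_eq_zero {R : Type u} [CommRing R] (a x : DualNumber R) (hx : x.fst = 0)
    (h : a.fst * x.snd = 0) : a * x = 0 := by
  refine TrivSqZeroExt.ext ?_ ?_
  · rw [TrivSqZeroExt.fst_mul, hx, mul_zero, TrivSqZeroExt.fst_zero]
  · rw [TrivSqZeroExt.snd_mul, hx]
    simpa using h

theorem epsIdeal_le (A : Art k k) (I : Ideal A.carrier) :
    epsIdeal A I ≤ maximalIdeal (dualObj A).carrier := fun x hx => by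
  rw [mem_maximalIdeal_iff]
  show A.res (TrivSqZeroExt.fst (R := A.carrier) (M := A.carrier) x) = 0
  rw [hx.1, map_zero]

/-- A derivation as a map to the dual numbers. -/
noncomputable def derHom {P A : Type u} [CommRing P] [Algebra k P] [CommRing A] [Algebra k A]
    (g : P →ₐ[k] A) (D : Derivation k P P) : P →ₐ[k] DualNumber A :=
  AlgHom.mk'
    { toFun := fun p => TrivSqZeroExt.inl (g p) + TrivSqZeroExt.inr (g (D p))
      map_one' := by refine TrivSqZeroExt.ext ?_ ?_ <;> simp
      map_zero' := by refine TrivSqZeroExt.ext ?_ ?_ <;> simp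
      map_add' := fun a b => by refine TrivSqZeroExt.ext ?_ ?_ <;> simp
      map_mul' := fun a b => by
        refine TrivSqZeroExt.ext ?_ ?_
        · simp
        · simp [Derivation.leibniz]
          ring }
    fun c p => by refine TrivSqZeroExt.ext ?_ ?_ <;> simp

theorem derHom_fst {P A : Type u} [CommRing P] [Algebra k P] [CommRing A] [Algebra k A]
    (g : P →ₐ[k] A) (D : Derivation k P P) (p : P) : (derHom g D p).fst = g p := by
  simp [derHom]

theorem derHom_snd {P A : Type u} [CommRing P] [Algebra k P] [CommRing A] [Algebra k A]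
    (g : P →ₐ[k] A) (D : Derivation k P P) (p : P) : (derHom g D p).snd = g (D p) := by
  simp [derHom]

variable {n : ℕ}

theorem pderiv_mem_pow {e : ℕ} (i : Fin n) {f : MvPowerSeries (Fin n) k}
    (hf : f ∈ PSLib.vars n k ^ (e + 1)) : MvPowerSeries.pderiv k i f ∈ PSLib.vars n k ^ e := by
  rw [PSLib.mem_pow_iff] at hf ⊢
  intro a ha
  rw [MvPowerSeries.coeff_pderiv, hf _ (by rw [map_add, Finsupp.degree_single]; omega), zero_mul]

theorem mem_pow_succ_of_pderiv [CharZero k] {d : ℕ} (hd : 1 ≤ d) {f : MvPowerSeries (Fin n) k}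
    (hf : f ∈ PSLib.vars n k ^ d)
    (h : ∀ i, MvPowerSeries.pderiv k i f ∈ PSLib.vars n k ^ d) : f ∈ PSLib.vars n k ^ (d + 1) := by
  rw [PSLib.mem_pow_iff]
  intro a ha
  by_cases ha' : Finsupp.degree a < d
  · exact PSLib.mem_pow_iff.1 hf a ha'
  have hne : a ≠ 0 := fun h0 => ha' (by rw [h0, map_zero]; omega)
  obtain ⟨i, hi⟩ := Finsupp.ne_iff.1 hne
  have hle : Finsupp.single i 1 ≤ a := Finsupp.single_le_iff.2 (Nat.one_le_iff_ne_zero.2 hi)
  have e : a - Finsupp.single i 1 + Finsupp.single i 1 = a := tsub_add_cancel_of_le hle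
  have hdeg := congrArg Finsupp.degree e
  rw [map_add, Finsupp.degree_single] at hdeg
  have h1 := PSLib.mem_pow_iff.1 (h i) (a - Finsupp.single i 1) (by omega)
  rw [MvPowerSeries.coeff_pderiv, e] at h1
  exact (mul_eq_zero.1 h1).resolve_right (Nat.cast_add_one_ne_zero _)

variable {F : Art k k ⥤ Type v}

set_option maxHeartbeats 1000000 in
theorem ker_eq_bot [CharZero k] (P : ProRep F)
    (hT1 : ∀ ⦃A A' A'' : Art k k⦄ (π' : A' ⟶ A) (i' : A ⟶ A') (π'' : A'' ⟶ A) (i'' : A ⟶ A'')
      (q : A'' ⟶ A'), i' ≫ π' = 𝟙 A → i'' ≫ π'' = 𝟙 A →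
      RingHom.ker π'.toAlgHom * RingHom.ker π'.toAlgHom = ⊥ →
      RingHom.ker π''.toAlgHom * RingHom.ker π''.toAlgHom = ⊥ →
      q ≫ π' = π'' → i'' ≫ q = i' → Function.Surjective q → Function.Surjective (F.map q))
    (π : MvPowerSeries (Fin n) k →ₐ[k] P.ring.carrier) (hπ : Function.Surjective π)
    (hJ : RingHom.ker π ≤ maximalIdeal (MvPowerSeries (Fin n) k) ^ 2) : RingHom.ker π = ⊥ := by
  rw [ObsHR.maximalIdeal_eq_vars] at hJ
  by_contra hne
  have hex : ∃ N, ¬ RingHom.ker π ≤ PSLib.vars n k ^ N := by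
    by_contra hall
    push Not at hall
    exact hne (eq_bot_iff.2 fun f hf => PSLib.eq_zero_of_forall_mem_pow fun N => hall N hf)
  classical
  let d' := Nat.find hex
  have hd' : 3 ≤ d' := (Nat.le_find_iff hex 3).2 fun m hm hn =>
    hn (hJ.trans (Ideal.pow_le_pow_right (by omega)))
  obtain ⟨e, he⟩ : ∃ e, d' = e + 2 := ⟨d' - 2, by omega⟩
  have hJd : RingHom.ker π ≤ PSLib.vars n k ^ (e + 1) :=
    not_not.1 (Nat.find_min hex (show e + 1 < d' by omega))
  have hsucc : ¬ RingHom.ker π ≤ PSLib.vars n k ^ (e + 2) := he ▸ Nat.find_spec hex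
  obtain ⟨f, hfJ, hf⟩ := SetLike.not_le_iff_exists.1 hsucc
  let resP : MvPowerSeries (Fin n) k →ₐ[k] k := P.ring.res.comp π
  have hresP : Function.Surjective resP := P.ring.res_surjective.comp hπ
  have hkerP : RingHom.ker resP = PSLib.vars n k := by
    ext x
    rw [RingHom.mem_ker, ObsHR.res_eq_zero_iff, ObsHR.maximalIdeal_eq_vars]
  have hnear : Hull.IsNear resP (PSLib.vars n k ^ (e + 1)) :=
    ⟨(Ideal.pow_le_self (by omega)).trans hkerP.ge, e + 1, by rw [hkerP]⟩
  let A := Hull.qobj resP hresP (PSLib.vars n k ^ (e + 1)) hnear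
  let g : MvPowerSeries (Fin n) k →ₐ[k] A.carrier := Hull.qmk resP hresP _ hnear
  have hg : Function.Surjective g := Hull.qmk_surjective resP hresP _ hnear
  have hg0 : ∀ s, g s = 0 ↔ s ∈ PSLib.vars n k ^ (e + 1) := Hull.qmk_eq_zero resP hresP hnear
  let I : Ideal A.carrier := (PSLib.vars n k ^ e).map g
  let K := epsIdeal A I
  let A'' := dualObj A
  let A' := quot A'' K (epsIdeal_le A I)
  let q : A'' ⟶ A' := quotMk A'' K (epsIdeal_le A I)
  have hKker : K ≤ RingHom.ker (dualFst A).toAlgHom := fun x hx => RingHom.mem_ker.2 hx.1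
  let π' : A' ⟶ A := quotFactor (epsIdeal_le A I) (dualFst A) hKker
  have hqsurj : Function.Surjective q := quotMk_surjective A'' K _
  have hqπ : q ≫ π' = dualFst A := quotMk_quotFactor _ _ hKker
  have hi : dualInl A ≫ dualFst A = 𝟙 A := hom_apply_ext fun _ => rfl
  have hsq : RingHom.ker (dualFst A).toAlgHom * RingHom.ker (dualFst A).toAlgHom = ⊥ := by
    refine eq_bot_iff.2 (Ideal.mul_le.2 fun a ha b hb => ?_)
    rw [Ideal.mem_bot]
    have ha' : (a : DualNumber A.carrier).fst = 0 := RingHom.mem_ker.1 ha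
    have hb' : (b : DualNumber A.carrier).fst = 0 := RingHom.mem_ker.1 hb
    show (a : DualNumber A.carrier) * (b : DualNumber A.carrier) = 0
    exact dual_mul_eq_zero (R := A.carrier) a b hb' (by rw [ha', zero_mul])
  have hsq' : RingHom.ker π'.toAlgHom * RingHom.ker π'.toAlgHom = ⊥ := by
    refine eq_bot_iff.2 (Ideal.mul_le.2 fun a ha b hb => ?_)
    obtain ⟨a, rfl⟩ := hqsurj a
    obtain ⟨b, rfl⟩ := hqsurj b
    have h1 : ∀ x : A''.carrier, q x ∈ RingHom.ker π'.toAlgHom → x ∈ RingHom.ker (dualFst A).toAlgHom :=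
      fun x hx => by
        rw [← hqπ]
        exact RingHom.mem_ker.2 (RingHom.mem_ker.1 hx)
    have h2 : a * b = 0 := by
      rw [← Ideal.mem_bot, ← hsq]
      exact Ideal.mul_mem_mul (h1 a ha) (h1 b hb)
    rw [Ideal.mem_bot, ← map_mul, h2, map_zero]
  have hlift := hT1 π' (dualInl A ≫ q) (dualFst A) (dualInl A) q
    (by rw [Category.assoc, hqπ, hi]) hi hsq' hsq hqπ rfl hqsurj
  have hsemi : IsSemismallExt q := by
    refine ⟨hqsurj, eq_bot_iff.2 (Ideal.mul_le.2 fun a ha x hx => ?_)⟩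
    have hxK : x ∈ K := (quotMk_eq_zero _ x).1 (RingHom.mem_ker.1 hx)
    have hx1 : (x : DualNumber A.carrier).fst = 0 := hxK.1
    obtain ⟨t, htm, ht⟩ := (Ideal.mem_map_iff_of_surjective g hg).1 hxK.2
    obtain ⟨s, hs⟩ := hg (a : DualNumber A.carrier).fst
    have hsm : s ∈ PSLib.vars n k := by
      rw [← hkerP, RingHom.mem_ker]
      have h0 : A''.res a = 0 := (mem_maximalIdeal_iff _ a).1 ha
      rw [← Hull.res_qmk resP hresP hnear s]
      show A.res (g s) = 0
      rw [hs]
      exact h0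
    have hmul : (a : DualNumber A.carrier).fst * (x : DualNumber A.carrier).snd = 0 := by
      rw [← hs, ← ht, ← map_mul, hg0, pow_succ']
      exact Ideal.mul_mem_mul hsm htm
    rw [Ideal.mem_bot]
    show (a : DualNumber A.carrier) * (x : DualNumber A.carrier) = 0
    exact dual_mul_eq_zero (R := A.carrier) a x hx1 hmul
  refine hf (mem_pow_succ_of_pderiv (d := e + 1) (by omega) (hJd hfJ) fun i => ?_)
  let ψ₀ : MvPowerSeries (Fin n) k →ₐ[k] A''.carrier := derHom g (MvPowerSeries.pderiv k i)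
  have hψ₀res : A''.res.comp ψ₀ = resP := by
    refine AlgHom.ext fun p => ?_
    show A.res (derHom g (MvPowerSeries.pderiv k i) p).fst = resP p
    rw [derHom_fst]
    exact Hull.res_qmk resP hresP hnear p
  have hkill : ∀ p ∈ RingHom.ker π, q (ψ₀ p) = 0 := fun p hp =>
    (quotMk_eq_zero _ _).2 ⟨by
        show (derHom g (MvPowerSeries.pderiv k i) p).fst = 0
        rw [derHom_fst, hg0]; exact hJd hp, by
        show (derHom g (MvPowerSeries.pderiv k i) p).snd ∈ I
        rw [derHom_snd]; exact Ideal.mem_map_of_mem g (pderiv_mem_pow i (hJd hp))⟩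
  choose sec hsec using hπ
  have hcompat : ∀ x y, π x = π y → q (ψ₀ x) = q (ψ₀ y) := fun x y hxy => by
    rw [← sub_eq_zero, ← map_sub, ← map_sub]
    exact hkill _ (by rw [RingHom.mem_ker, map_sub, hxy, sub_self])
  let φ : P.ring.carrier →ₐ[k] A'.carrier :=
    AlgHom.ofLinearMap
      { toFun := fun r => q (ψ₀ (sec r))
        map_add' := fun a b => by
          rw [← map_add q.toAlgHom, ← map_add ψ₀]
          exact hcompat _ _ (by rw [map_add, hsec, hsec, hsec])
        map_smul' := fun c a => by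
          rw [RingHom.id_apply, ← map_smul q.toAlgHom, ← map_smul ψ₀]
          exact hcompat _ _ (by rw [map_smul, hsec, hsec]) }
      (by
        show q (ψ₀ (sec 1)) = 1
        rw [hcompat (sec 1) 1 (by rw [hsec, map_one]), map_one, map_one])
      (fun a b => by
        show q (ψ₀ (sec (a * b))) = q (ψ₀ (sec a)) * q (ψ₀ (sec b))
        rw [hcompat (sec (a * b)) (sec a * sec b) (by rw [map_mul, hsec, hsec, hsec]), map_mul, map_mul])
  have hφπ : ∀ p, φ (π p) = q (ψ₀ p) := fun p => hcompat _ _ (hsec _)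
  have hφres : A'.res.comp φ = P.ring.res := by
    refine AlgHom.ext fun r => ?_
    show A'.res (q (ψ₀ (sec r))) = _
    rw [res_app q, show A''.res (ψ₀ (sec r)) = resP (sec r) from congr($hψ₀res (sec r))]
    exact congrArg P.ring.res (hsec r)
  obtain ⟨z, hz⟩ := hlift (P.family.app A' ⟨φ, hφres⟩)
  obtain ⟨ψ, hψ⟩ := (P.universal A'').2 z
  have hψφ : HomSet.map q ψ = ⟨φ, hφres⟩ := (P.universal A').1 (by rw [P.family.natural, hψ, hz])
  have hqψ : ∀ p, q (ψ.1 (π p)) = q (ψ₀ p) := fun p => by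
    rw [← hφπ p]
    exact congr(($hψφ).1 (π p))
  have hψres : A''.res.comp (ψ.1.comp π) = resP := by rw [← AlgHom.comp_assoc, ψ.2]
  have heq := ObsHR.lifts_eq_on_sq (resB := resP) hsemi ⟨ψ.1.comp π, hψres⟩ ⟨ψ₀, hψ₀res⟩ hqψ f
    (by rw [ObsHR.maximalIdeal_eq_vars]; exact hJ hfJ)
  have h0 : ψ₀ f = 0 := by
    rw [← heq, AlgHom.comp_apply, RingHom.mem_ker.1 hfJ, map_zero]
  have h1 : (derHom g (MvPowerSeries.pderiv k i) f).snd = 0 := by
    rw [show derHom g (MvPowerSeries.pderiv k i) f = 0 from h0]; rfl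
  rw [derHom_snd, hg0] at h1
  exact h1

theorem isSmoothFunctor_of_proRep [CharZero k] (P : ProRep F)
    (hT1 : ∀ ⦃A A' A'' : Art k k⦄ (π' : A' ⟶ A) (i' : A ⟶ A') (π'' : A'' ⟶ A) (i'' : A ⟶ A'')
      (q : A'' ⟶ A'), i' ≫ π' = 𝟙 A → i'' ≫ π'' = 𝟙 A →
      RingHom.ker π'.toAlgHom * RingHom.ker π'.toAlgHom = ⊥ →
      RingHom.ker π''.toAlgHom * RingHom.ker π''.toAlgHom = ⊥ →
      q ≫ π' = π'' → i'' ≫ q = i' → Function.Surjective q → Function.Surjective (F.map q)) :
    IsSmoothFunctor F := by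
  obtain ⟨π, hπ, hJ⟩ := HullBounds.exists_minimal_presentation' P.ring
  have hb := ker_eq_bot P hT1 π hπ hJ
  have hinj : Function.Injective π := (injective_iff_map_eq_zero _).2 fun x hx => by
    rw [← Ideal.mem_bot, ← hb]; exact hx
  have hdim : ringKrullDim P.ring.carrier =
      (Module.finrank (ResidueField P.ring.carrier) (CotangentSpace P.ring.carrier) : WithBot ℕ∞) := by
    rw [← ringKrullDim_eq_of_ringEquiv (RingEquiv.ofBijective π.toRingHom ⟨hinj, hπ⟩)]
    exact PSLib.ringKrullDim_eq k _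
  intro B A μ hμ y
  obtain ⟨φ, rfl⟩ := (P.universal A).2 y
  obtain ⟨ψ, hψ⟩ := ((HullBounds.ring_bounds P.ring).2.2.1 hdim) μ hμ φ
  exact ⟨P.family.app B ψ, (P.family.natural μ ψ).symm.trans (congrArg (P.family.app A) hψ)⟩

end Groth.Agent.DeformNL.T1Smooth
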